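import Cfsg.Agent.Lib.ThreeTransp.U62Cent.AutCoord

/-!
# The group induced in the automorphism group case: the subgroup of index two
-/

set_option autoImplicit false
set_option linter.unusedSectionVars false
set_option maxRecDepth 100000

namespace Cfsg.Agent.ThreeTransp.U62Cent

open W8 Subgroup Cfsg.Agent.LargeExtra

universe u

variable {G : Type u} [Group G]

namespace N

theorem five_facts : (∃ v : W8, a0 v + v = mk 5) ∧ (∀ l ∈ L0, l = 0 ∨ l = mk 5 ∨ l = W8.sig (mk 5) ∨ l = W8.sig (W8.sig (mk 5))) ∧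
    ∀ w ∈ basis, ∃ a b : W8, a ≠ 0 ∧ b ≠ 0 ∧ qe true a = false ∧ qe true b = false ∧ a + b = w := by
  decide +kernel

theorem sig_ne : W8.sig (mk 5) ≠ mk 5 := by decide +kernel

end N

namespace S

theorem plane_only : ∀ v : W8, v ∈ vecs [0, 64, 128, 192] ∨ ∃ r ∈ nons, ∃ s ∈ nons, rfx r (rfx s v) ≠ v := by
  decide +kernel

theorem six_perp : ∀ v : W8, (∀ p ∈ vecs [0, 64, 128, 192], bb v p = false) → v ∈ six := by decide +kernel

/-- the component in the six-part -/
def sixp (v : W8) : W8 := W8.mk (v.code % 64)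

/-- the component in the plane -/
def planep (v : W8) : W8 := W8.mk (v.code / 64 * 64)

theorem proj_spec : ∀ v : W8, sixp v ∈ six ∧ planep v ∈ vecs [0, 64, 128, 192] ∧ sixp v + planep v = v := by
  decide +kernel

theorem proj_unique : ∀ d ∈ six, ∀ p ∈ vecs [0, 64, 128, 192], sixp (d + p) = d ∧ planep (d + p) = p := by
  decide +kernel

theorem proj_add : ∀ v w : W8, sixp (v + w) = sixp v + sixp w ∧ planep (v + w) = planep v + planep w := by
  intro v w
  obtain ⟨h1, h2, h3⟩ := proj_spec v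
  obtain ⟨h4, h5, h6⟩ := proj_spec w
  have := proj_unique _ (six_add _ h1 _ h4) _ (plane_add _ h2 _ h5)
  rwa [show sixp v + sixp w + (planep v + planep w) = v + w by
    rw [add_add_add_comm, h3, h6]] at this

end S

/-- the scalar of order three -/
def sigP : Equiv.Perm W8 where
  toFun := W8.sig
  invFun v := W8.sig (W8.sig v)
  left_inv v := W8.sig_three v
  right_inv v := W8.sig_three v

theorem sigP_apply (v : W8) : sigP v = W8.sig v := rfl

theorem sigP_mem : sigP ∈ GN := ⟨W8.sig_add, W8.qe_sig, fun _ _ => rfl⟩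

theorem sigP_pow_three : sigP ^ 3 = 1 := Equiv.ext fun v => W8.sig_three v

namespace INat

variable {I : Subgroup (Equiv.Perm W8)} (h : INat I)
include h

theorem sigP_notMem : sigP ∉ I := by
  intro hs
  haveI := h.simple
  have hc : (⟨sigP, hs⟩ : ↥I) ∈ center ↥I :=
    mem_center_iff.2 fun g => Subtype.ext (Equiv.ext fun v => (h.le g.2).sig rfl v)
  rcases (inferInstance : (center ↥I).Normal).eq_bot_or_eq_top with e | e
  · rw [e, mem_bot] at hc
    exact N.sig_ne (congrArg (fun g : ↥I => (g : Equiv.Perm W8) (W8.mk 5)) hc)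
  · letI : CommGroup ↥I :=
      { (inferInstance : Group ↥I) with
        mul_comm := fun a b => mem_center_iff.1 (e ▸ mem_top b : b ∈ center ↥I) a }
    have hp := IsSimpleGroup.prime_card (α := ↥I)
    rw [h.card] at hp
    norm_num at hp

/-- the isometries are the scalar multiples of the simple group -/
theorem cases_GN {g : Equiv.Perm W8} (hg : g ∈ GN) : ∃ k : ℕ, ∃ i ∈ I, g = sigP ^ k * i := by
  haveI := h.simple
  set J := I.subgroupOf GN
  let eqv : J ≃* I := Subgroup.subgroupOfEquivOfLe h.le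
  haveI : Nontrivial J := eqv.toEquiv.nontrivial
  haveI : IsSimpleGroup J := IsSimpleGroup.isSimpleGroup_of_surjective eqv.symm.toMonoidHom eqv.symm.surjective
  have hJ : Nat.card J = 25920 := (Nat.card_congr eqv.toEquiv).trans h.card
  have hi : J.index ≤ 3 := by
    have h1 := J.card_mul_index
    have h' := card_GN
    rw [hJ] at h1
    omega
  haveI := normal_of_small_index J hi (by omega)
  let x : ↥GN ⧸ J := QuotientGroup.mk ⟨sigP, sigP_mem⟩
  have hx : x ≠ 1 := fun e => h.sigP_notMem (mem_subgroupOf.1 ((QuotientGroup.eq_one_iff _).1 e))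
  haveI : Fact (Nat.Prime 3) := ⟨Nat.prime_three⟩
  have hx3 : orderOf x = 3 := by
    refine orderOf_eq_prime ?_ hx
    have h1 : (⟨sigP, sigP_mem⟩ : ↥GN) ^ 3 = 1 := Subtype.ext sigP_pow_three
    show (QuotientGroup.mk ⟨sigP, sigP_mem⟩ : ↥GN ⧸ J) ^ 3 = 1
    rw [← QuotientGroup.mk_pow, h1, QuotientGroup.mk_one]
  have htop : zpowers x = ⊤ := by
    refine eq_top_of_card_eq _ (le_antisymm (Subgroup.card_le_card_group _) ?_)
    rw [Nat.card_zpowers, hx3]
    exact hi
  obtain ⟨k, hk⟩ : ∃ k : ℕ, x ^ k = QuotientGroup.mk ⟨g, hg⟩ := by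
    have hm : (QuotientGroup.mk ⟨g, hg⟩ : ↥GN ⧸ J) ∈ zpowers x := htop ▸ mem_top _
    exact (Submonoid.mem_powers_iff _ _).1 ((mem_powers_iff_mem_zpowers).2 hm)
  refine ⟨k, (sigP ^ k)⁻¹ * g, ?_, by rw [mul_inv_cancel_left]⟩
  rw [← QuotientGroup.mk_pow, QuotientGroup.eq] at hk
  exact mem_subgroupOf.1 hk

end INat

namespace ACoord

variable [Finite G] {z : G} (M : ACoord z)

include M

theorem icard : Nat.card ↥M.I = 25920 := by
  rcases M.shape with ⟨-, h⟩ | h
  · exact h.card
  · exact h.card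

theorem I_index : (M.I.subgroupOf M.π.range).index = 2 := by
  have h := (M.I.subgroupOf M.π.range).card_mul_index
  rw [Nat.card_congr (subgroupOfEquivOfLe M.I_le).toEquiv, M.icard, M.card_range] at h
  omega

theorem mul_mem_I_iff {t s : Equiv.Perm W8} (ht : t ∈ M.π.range) (hs : s ∈ M.π.range) :
    t * s ∈ M.I ↔ (t ∈ M.I ↔ s ∈ M.I) :=
  mul_mem_iff_of_index_two M.I_index (a := ⟨t, ht⟩) (b := ⟨s, hs⟩)

theorem sq_mem_I {t : Equiv.Perm W8} (ht : t ∈ M.π.range) : t * t ∈ M.I := (M.mul_mem_I_iff ht ht).2 Iff.rfl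

theorem mem_I_of_pow_five {t : Equiv.Perm W8} (ht : t ∈ M.π.range) (h5 : t ^ 5 = 1) : t ∈ M.I := by
  have h4 : (t ^ 4)⁻¹ = t := inv_eq_of_mul_eq_one_right (by rw [← pow_succ, h5])
  rw [← h4, show t ^ 4 = (t * t) * (t * t) by simp [pow_succ, mul_assoc]]
  exact inv_mem (mul_mem (M.sq_mem_I ht) (M.sq_mem_I ht))

theorem conj_mem_I {t g : Equiv.Perm W8} (ht : t ∈ M.π.range) (hg : g ∈ M.I) : t * g * t⁻¹ ∈ M.I := by
  rw [M.mul_mem_I_iff (mul_mem ht (M.I_le hg)) (inv_mem ht), M.mul_mem_I_iff ht (M.I_le hg),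
    inv_mem_iff, iff_true_right hg]

theorem commutator_mem_I {t s : Equiv.Perm W8} (ht : t ∈ M.π.range) (hs : s ∈ M.π.range) :
    t * s * t⁻¹ * s⁻¹ ∈ M.I := by
  rw [M.mul_mem_I_iff (mul_mem (mul_mem ht hs) (inv_mem ht)) (inv_mem hs),
    M.mul_mem_I_iff (mul_mem ht hs) (inv_mem ht), M.mul_mem_I_iff ht hs, inv_mem_iff, inv_mem_iff]
  tauto

/-- the elements of the centraliser inducing inner elements -/
def inner : Subgroup G := (M.I.comap M.π).map (centralizer ({z} : Set G)).subtype

theorem mem_inner {c : G} : c ∈ M.inner ↔ Commute c z ∧ M.img c ∈ M.I := by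
  constructor
  · rintro ⟨d, hd, rfl⟩
    exact ⟨mem_cent.1 d.2, by rw [coe_subtype, M.img_eq d.2]; exact hd⟩
  · rintro ⟨h1, h2⟩
    rw [M.img_eq (mem_cent.2 h1)] at h2
    exact ⟨⟨c, mem_cent.2 h1⟩, h2, rfl⟩

theorem inner_le : M.inner ≤ centralizer ({z} : Set G) := map_subtype_le _

theorem inner_index : (M.inner.subgroupOf (centralizer ({z} : Set G))).index = 2 := by
  have e : M.inner.subgroupOf (centralizer ({z} : Set G)) = M.I.comap M.π :=
    comap_map_eq_self_of_injective (subtype_injective _) _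
  rw [e, index_comap]
  exact M.I_index

theorem z_mem_inner : z ∈ M.inner :=
  M.mem_inner.2 ⟨Commute.refl z, by rw [M.img_J M.z_mem]; exact one_mem _⟩

/-- If a member acts as an outer element, the centraliser of its flip in the core is abelian. -/
theorem abelian_of_outer {g a b : G} (hg : g * z * g⁻¹ = a) (hb : g * b * g⁻¹ = z)
    (hout : M.img a ∉ M.I) {x y : G} (hx : x ∈ Ja z b) (hy : y ∈ Ja z b) : Commute x y := by
  by_contra hne
  rcases M.ctr.comm_cases hx.1 hy.1 with e | e
  · exact hne (commutatorElement_eq_one_iff_mul_comm.1 e)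
  · have hcz : ∀ {w}, w ∈ Ja z b → Commute (g * w * g⁻¹) z := fun {w} hw => by
      rw [← hb]; exact conj_commute g (mem_Ja.1 hw).2
    refine hout ?_
    have ha : a = g * x * g⁻¹ * (g * y * g⁻¹) * (g * x * g⁻¹)⁻¹ * (g * y * g⁻¹)⁻¹ := by
      rw [← hg, ← e, commutatorElement_def]; group
    have h1 := hcz hx
    have h2 := hcz hy
    rw [ha, M.img_mul ((h1.mul_left h2).mul_left h1.inv_left) h2.inv_left,
      M.img_mul (h1.mul_left h2) h1.inv_left, M.img_mul h1 h2, M.img_inv h1, M.img_inv h2]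
    exact M.commutator_mem_I (M.img_mem _) (M.img_mem _)

/-- In the natural shape an outer element is semilinear. -/
theorem nat_semi (hN : INat M.I) (he : M.e = true) {t : Equiv.Perm W8} (ht : t ∈ M.π.range) (hI : t ∉ M.I)
    (v : W8) : t (W8.sig v) = W8.sig (W8.sig (t v)) := by
  have htadd : ∀ v w, t (v + w) = t v + t w := (M.iso t ht).add
  have htq : ∀ v, qe true (t v) = qe true v := he ▸ (M.iso t ht).q
  let f : Equiv.Perm W8 := t * sigP * t⁻¹
  have hfadd : ∀ v w, f (v + w) = f v + f w := fun v w => by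
    show t (W8.sig (t.symm (v + w))) = t (W8.sig (t.symm v)) + t (W8.sig (t.symm w))
    have hs : t.symm (v + w) = t.symm v + t.symm w :=
      t.injective (by rw [htadd]; simp)
    rw [hs, W8.sig_add, htadd]
  have hfc : ∀ g ∈ M.I, ∀ v, f (g v) = g (f v) := by
    intro g hg v
    have h1 := M.conj_mem_I (inv_mem ht) hg
    rw [inv_inv] at h1
    have h2 := (hN.le h1).sig rfl (t.symm v)
    show t (W8.sig (t.symm (g v))) = g (t (W8.sig (t.symm v)))
    simp only [Equiv.Perm.mul_apply, Equiv.Perm.inv_def, Equiv.apply_symm_apply] at h2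
    rw [← h2]
    simp
  -- the value at one singular vector
  obtain ⟨⟨v0, hv0⟩, hL, hdec⟩ := N.five_facts
  obtain ⟨g0, hg0, eg0⟩ := hN.word N.reps_ok.1
  have hf5 : f (W8.mk 5) ∈ N.L0 := by
    have h := hfc g0 hg0 v0
    rw [eg0] at h
    rw [← hv0, hfadd, show f (N.a0 v0) = N.a0 (f v0) from h]
    exact N.L0_iff.1 _
  have hf0 : f (W8.mk 5) ≠ 0 := fun e =>
    absurd (f.injective (e.trans (additive_zero hfadd).symm)) (by decide +kernel)
  obtain ⟨k, hk⟩ : ∃ k : ℕ, k < 3 ∧ f (W8.mk 5) = (sigP ^ k) (W8.mk 5) := by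
    rcases hL _ hf5 with e | e | e | e
    · exact absurd e hf0
    · exact ⟨0, by norm_num, e⟩
    · exact ⟨1, by norm_num, e⟩
    · exact ⟨2, by norm_num, e⟩
  have hfall : ∀ v, f v = (sigP ^ k) v := by
    have hsing : ∀ s, s ≠ 0 → qe true s = false → f s = (sigP ^ k) s := by
      intro s h0 hq
      obtain ⟨g, hg, rfl⟩ := hN.trans5 h0 hq
      have hgk : g * sigP ^ k = sigP ^ k * g :=
        Commute.pow_right (Equiv.ext fun v => (hN.le hg).sig rfl v) k
      rw [hfc g hg, hk.2, ← Equiv.Perm.mul_apply, hgk]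
      rfl
    have hkadd : ∀ v w, (sigP ^ k) (v + w) = (sigP ^ k) v + (sigP ^ k) w :=
      (pow_mem sigP_mem k : sigP ^ k ∈ GN).add
    intro v
    refine W8.basis_add v (f := f) (g := ⇑(sigP ^ k)) hfadd hkadd fun w hw => ?_
    obtain ⟨a, b, ha, hb, hqa, hqb, rfl⟩ := hdec w hw
    rw [hfadd, hkadd, hsing a ha hqa, hsing b hb hqb]
  have hrel : ∀ v, t (W8.sig v) = (sigP ^ k) (t v) := fun v => by
    have h := hfall (t v)
    show t (W8.sig v) = _
    rw [← h]
    show t (W8.sig v) = t (W8.sig (t.symm (t v)))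
    rw [Equiv.symm_apply_apply]
  obtain ⟨hk3, -⟩ := hk
  interval_cases k
  · exfalso
    have := hrel (W8.mk 5)
    exact N.sig_ne (t.injective this)
  · exfalso
    have htG : t ∈ GN := ⟨htadd, htq, fun _ v => hrel v⟩
    obtain ⟨j, i, hi, e⟩ := hN.cases_GN htG
    -- the square lies in the simple group and the scalars have odd order
    have hti : sigP ^ j * i * (sigP ^ j * i) ∈ M.I := e ▸ M.sq_mem_I ht
    have hc : i * sigP ^ j = sigP ^ j * i :=
      Commute.pow_right (Equiv.ext fun v => (hN.le hi).sig rfl v) j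
    have h2 : sigP ^ (2 * j) ∈ M.I := by
      have h' : sigP ^ j * i * (sigP ^ j * i) = sigP ^ (2 * j) * (i * i) := by
        rw [mul_assoc, ← mul_assoc i, hc, two_mul, pow_add]
        simp only [mul_assoc]
      rw [h'] at hti
      have := mul_mem hti (inv_mem (mul_mem hi hi))
      rwa [mul_inv_cancel_right] at this
    have hj : sigP ^ j ∈ M.I := by
      have e' : sigP ^ j = (sigP ^ (2 * j)) ^ 2 := by
        rw [← pow_mul, show 2 * j * 2 = j + 3 * j by ring, pow_add, pow_mul sigP 3 j, sigP_pow_three,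
          one_pow, mul_one]
      rw [e']
      exact pow_mem h2 2
    exact hI (e ▸ mul_mem hj hi)
  · exact hrel v

/-! ### the split shape -/

theorem split_plane (hS : ISplit M.I) {t : Equiv.Perm W8} (ht : t ∈ M.π.range) {p : W8}
    (hp : p ∈ vecs [0, 64, 128, 192]) : t p ∈ vecs [0, 64, 128, 192] := by
  haveI := hS.simple
  refine (S.plane_only (t p)).resolve_right ?_
  rintro ⟨r, hr, s, hs, hne⟩
  have hg := pair_mem_of_simple hS.le hS.card r s hr hs
  have h := hS.fix_plane (M.conj_mem_I (inv_mem ht) hg) hp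
  rw [inv_inv] at h
  simp only [Equiv.Perm.mul_apply, rfP_apply, Equiv.Perm.inv_def] at h
  exact hne (t.symm.injective (h.trans (t.symm_apply_apply p).symm))

theorem split_six (hS : ISplit M.I) {t : Equiv.Perm W8} (ht : t ∈ M.π.range) {d : W8}
    (hd : d ∈ six) : t d ∈ six := by
  refine S.six_perp _ fun p hp => ?_
  have hp' := M.split_plane hS (inv_mem ht) hp
  rw [← t.apply_symm_apply p, (M.iso t ht).bb]
  exact S.plane_bb d hd _ hp'

/-- the action on the six-part, extended trivially -/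
def kap (hS : ISplit M.I) : ↥M.π.range →* Equiv.Perm W8 :=
  MonoidHom.toHomPerm
    { toFun := fun t v => (t : Equiv.Perm W8) (S.sixp v) + S.planep v
      map_one' := funext fun v => (S.proj_spec v).2.2
      map_mul' := fun t s => funext fun v => by
        obtain ⟨h1, h2, -⟩ := S.proj_spec v
        show (t : Equiv.Perm W8) ((s : Equiv.Perm W8) (S.sixp v)) + S.planep v =
          (t : Equiv.Perm W8) (S.sixp ((s : Equiv.Perm W8) (S.sixp v) + S.planep v)) +
            S.planep ((s : Equiv.Perm W8) (S.sixp v) + S.planep v)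
        obtain ⟨e1, e2⟩ := S.proj_unique _ (M.split_six hS s.2 h1) _ h2
        rw [e1, e2] }

theorem kap_apply (hS : ISplit M.I) (t : ↥M.π.range) (v : W8) :
    M.kap hS t v = (t : Equiv.Perm W8) (S.sixp v) + S.planep v := rfl

theorem kap_six (hS : ISplit M.I) (t : ↥M.π.range) {d : W8} (hd : d ∈ six) :
    M.kap hS t d = (t : Equiv.Perm W8) d := by
  obtain ⟨e1, e2⟩ := S.proj_unique d hd 0 (by decide +kernel)
  rw [add_zero] at e1 e2
  rw [M.kap_apply, e1, e2, add_zero]

theorem kap_mem (hS : ISplit M.I) (t : ↥M.π.range) : M.kap hS t ∈ GS true := by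
  have hiso := M.iso _ t.2
  refine ⟨⟨fun v w => ?_, fun v => ?_, fun h => absurd h (by decide)⟩, ?_, ?_⟩
  · obtain ⟨e1, e2⟩ := S.proj_add v w
    rw [M.kap_apply, M.kap_apply, M.kap_apply, e1, e2, hiso.add]
    abel
  · obtain ⟨h1, h2, h3⟩ := S.proj_spec v
    have h4 := M.split_six hS t.2 h1
    conv_rhs => rw [← h3]
    rw [M.kap_apply, qe_add, qe_add, S.plane_bb _ h4 _ h2, S.plane_bb _ h1 _ h2,
      ← qe_six M.e _ h4, hiso.q, qe_six M.e _ h1]
  · rw [M.kap_apply, show S.sixp (W8.e 6) = 0 by decide +kernel, hiso.map_zero, zero_add]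
    decide +kernel
  · rw [M.kap_apply, show S.sixp (W8.e 7) = 0 by decide +kernel, hiso.map_zero, zero_add]
    decide +kernel

theorem kap_injective (hS : ISplit M.I) : Function.Injective (M.kap hS) := by
  rw [injective_iff_map_eq_one]
  intro t ht
  have hfix : ∀ d ∈ six, (t : Equiv.Perm W8) d = d := fun d hd => by
    rw [← M.kap_six hS t hd, ht]; rfl
  refine Subtype.ext (M.cent _ t.2 fun g hg => Equiv.ext fun v => ?_)
  obtain ⟨h1, h2, h3⟩ := S.proj_spec v
  rw [← h3]
  simp only [Equiv.Perm.mul_apply, (M.iso _ t.2).add, (hS.le hg).1.add, hfix _ h1,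
    hfix _ (GS_six (hS.le hg) h1), hS.fix_plane hg h2, hS.fix_plane hg (M.split_plane hS t.2 h2)]

theorem kap_range (hS : ISplit M.I) : (M.kap hS).range = GS true := by
  refine eq_of_le_of_card_ge (fun _ ⟨t, e⟩ => e ▸ M.kap_mem hS t) ((card_GS true).trans_eq ?_)
  rw [← M.card_range]
  exact Nat.card_congr (MonoidHom.ofInjective (M.kap_injective hS)).toEquiv

end ACoord

end Cfsg.Agent.ThreeTransp.U62Cent
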