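import Cfsg.Agent.Lib.ThreeTransp.U62Cent.NatShape

/-!
# The split module: fixers, order five, hyperplanes and induced maps in terms of groups
-/

set_option autoImplicit false
set_option maxRecDepth 100000

namespace Cfsg.Agent.ThreeTransp.U62Cent

open W8

/-- Five-periodic points of at most four possible values are fixed. -/
theorem five_fix {α : Type*} [DecidableEq α] {h : Equiv.Perm W8} (h5 : h ^ 5 = 1) (f : W8 → α) (vals : List α)
    (hlen : vals.length ≤ 4) (P : W8 → Prop) (hP : ∀ v, P v → P (h v)) (hval : ∀ v, P v → f v ∈ vals)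
    (hcong : ∀ v w, P v → P w → f v = f w → f (h v) = f (h w)) {v : W8} (hv : P v) : f (h v) = f v := by
  have hPn : ∀ n : ℕ, P ((h ^ n) v) := by
    intro n
    induction n with
    | zero => exact hv
    | succ n ih => rw [pow_succ', Equiv.Perm.mul_apply]; exact hP _ ih
  have hshift : ∀ (i j m : ℕ), f ((h ^ i) v) = f ((h ^ j) v) → f ((h ^ (i + m)) v) = f ((h ^ (j + m)) v) := by
    intro i j m e
    induction m with
    | zero => exact e
    | succ m ih =>
      rw [← add_assoc, ← add_assoc, pow_succ', pow_succ', Equiv.Perm.mul_apply, Equiv.Perm.mul_apply]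
      exact hcong _ _ (hPn _) (hPn _) ih
  have hmod : ∀ n, (h ^ n) = h ^ (n % 5) := by
    intro n
    conv_lhs => rw [← Nat.mod_add_div n 5, pow_add, pow_mul, h5, one_pow, mul_one]
  obtain ⟨i, hi, j, hj, hne, e⟩ :=
    Finset.exists_ne_map_eq_of_card_lt_of_maps_to (s := Finset.range 5) (t := vals.toFinset)
      (lt_of_le_of_lt (vals.toFinset_card_le.trans hlen) (by simp))
      (f := fun n : ℕ => f ((h ^ n) v)) (fun n _ => List.mem_toFinset.2 (hval _ (hPn n)))
  simp only [Finset.mem_range] at hi hj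
  wlog hij : i < j generalizing i j
  · exact this j i (Ne.symm hne) e.symm hj hi (lt_of_le_of_ne (not_lt.1 hij) (Ne.symm hne))
  -- a period prime to five
  have h1 := hshift i j (5 - i) e
  rw [Nat.add_sub_cancel' (by omega), h5, hmod] at h1
  set d := (j + (5 - i)) % 5 with hd
  have hmul : ∀ k, f ((h ^ (d * k)) v) = f v := by
    intro k
    induction k with
    | zero => simp
    | succ k ih =>
      have h2 := hshift 0 d (d * k) (by rw [pow_zero]; exact h1)
      rw [Nat.zero_add, show d + d * k = d * (k + 1) by ring, ih] at h2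
      exact h2.symm
  have hk : ∃ k < 5, d * k % 5 = 1 := by
    have : d ≠ 0 := by omega
    have : d < 5 := Nat.mod_lt _ (by norm_num)
    interval_cases d
    · omega
    · exact ⟨1, by norm_num, rfl⟩
    · exact ⟨3, by norm_num, rfl⟩
    · exact ⟨2, by norm_num, rfl⟩
    · exact ⟨4, by norm_num, rfl⟩
  obtain ⟨k, -, hk⟩ := hk
  have h3 := hmul k
  rwa [hmod, hk, pow_one] at h3

theorem appFrom_high : ∀ (M : List W8) (i : ℕ) (v : W8), 8 ≤ i → appFrom M i v = 0
  | [], _, _, _ => rfl
  | m :: M, i, v, hi => by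
    have hb : v.bit i = false := by
      refine Nat.testBit_lt_two_pow (v.code_lt.trans_le ?_)
      calc 256 = 2 ^ 8 := rfl
        _ ≤ 2 ^ i := Nat.pow_le_pow_right two_pos hi
    simp [appFrom, hb, appFrom_high M (i + 1) v (hi.trans i.le_succ)]

theorem appFrom_append : ∀ (M M' : List W8) (i : ℕ) (v : W8), 8 ≤ i + M.length →
    appFrom (M ++ M') i v = appFrom M i v
  | [], M', i, v, hi => by
    rw [List.nil_append, appFrom_high M' i v (by simpa using hi)]; rfl
  | m :: M, M', i, v, hi => by
    simp only [List.cons_append, appFrom]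
    rw [appFrom_append M M' (i + 1) v (by simp only [List.length_cons] at hi; omega)]

namespace S

theorem plane_mem : ∀ p ∈ vecs [0, 64, 128, 192], p = 0 ∨ p = W8.mk 64 ∨ p = W8.mk 128 ∨ p = W8.mk 192 := by
  decide +kernel

/-- the data of one class of involutions -/
structure Rep where
  a : W8 → W8
  L : List W8
  D : List W8
  C : List W8
  W : List W8
  indP : List (List W8)
  coef : List W8
  fixList : List (W8 × List W8)
  fixBad : List (List W8)
  indList : List (W8 × List W8)
  hypList : List W8 → List (W8 × List W8)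
  hyps : List (List W8 × List (List W8) × List (List W8))
  a_add : ∀ v w, a (v + w) = a v + a w
  a_sq : ∀ v, a (a v) = v
  a_iso : IsIso true false a
  D_iff : ∀ v ∈ six, (a v = v ↔ v ∈ D)
  C_iff : ∀ v, a v = v ↔ v ∈ C
  D_sub : ∀ v ∈ D, v ∈ six ∧ v ∈ C
  C_split : ∀ v ∈ C, ∃ d ∈ D, v = d ∨ v = d + W8.mk 64 ∨ v = d + W8.mk 128 ∨ v = d + W8.mk 192
  L_iff : (∀ v, a v + v ∈ L) ∧ ∀ l ∈ L, ∃ v, a v + v = l
  L_sub : ∀ l ∈ L, l ∈ D
  L_len : L.length = 4
  C_len : C.length = 64
  C_nodup : C.Nodup
  L_perp : ∀ l ∈ L, ∀ v ∈ C, bb l v = false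
  proj_vals : ((D.map (prj L W)).dedup).length ≤ 4
  split : Split C L W indP
  ts : tsB W = true
  ind_all : ((search true false indList).all fun o => indP.contains (span (o.map (prj L W)))) = true
  ind_span : W = span (indList.map Prod.fst)
  ind_ok : ∀ p ∈ indList, p.1 ∈ W ∧ ((p.1 ∈ D ∧ p.2 = D) ∨
    (p.1 ∈ vecs [0, 64, 128, 192] ∧ p.2 = [p.1]))
  fix_ok : ∀ p ∈ fixList, (p.1 ∈ six ∧ p.2 = six) ∨ (p.1 ∈ C ∧ p.2 = [p.1])
  fix : ((search true false fixList).all fun o =>
    o == fixList.map Prod.fst || o == (fixList.map Prod.fst).map a ||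
      fixBad.contains (coef.map (app o))) = true
  fix_odd : fixBad.all (fun M => mulM M M == cols id && !evenRank M) = true
  fix_span : ∀ u ∈ basis, u ∈ span (det false (fixList.map Prod.fst))
  fix_coef : coef.map (app (fixList.map Prod.fst)) = cols id
  cover : ∀ w ∈ six, ∃ p ∈ hyps, ∀ v ∈ p.1, v ∈ D ∧ bb v w = false
  hyp : hyps.all (fun p => (search true false (hypList p.1)).all fun o =>
    p.2.1.contains (coef.map (app o)) || p.2.2.contains (coef.map (app o)) ||
      mulM (coef.map (app o)) (cols a) != mulM (cols a) (coef.map (app o))) = true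
  hyp_odd : hyps.all (fun p => p.2.2.all fun M =>
    mulM (mulM M M) (mulM M M) == cols id && !evenRank M) = true
  hyp_comm : hyps.all (fun p => p.2.1.all fun M => p.2.1.all fun K => mulM M K == mulM K M) = true
  hyp_ok : ∀ q ∈ hyps, ∀ p ∈ hypList q.1, (p.1 ∈ six ∧ p.2 = six) ∨
    (p.2 = [p.1] ∧ (p.1 ∈ q.1 ∨ p.1 ∈ vecs [0, 64, 128, 192]))
  hyp_coef : ∀ q ∈ hyps, coef.map (app ((hypList q.1).map Prod.fst)) = cols id
  Dbasis : List W8
  Dspan : ∀ v ∈ D, v ∈ span Dbasis
  Dmem : ∀ v ∈ Dbasis, v ∈ D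
  dual : ∀ b1 b2 b3 b4 : Bool, ∃ w ∈ six, Dbasis.map (fun v => bb v w) = [b1, b2, b3, b4]

theorem a_ok : (∀ v, a0 (a0 v) = v ∧ qe true (a0 v) = qe true v) ∧
    ∀ v, a1 (a1 v) = v ∧ qe true (a1 v) = qe true v := by decide +kernel

/-- the first class -/
def rep0 : Rep where
  a := a0
  L := L0
  D := D0
  C := C0
  W := W0
  indP := indP0
  coef := vecs [16, 1, 20, 2, 24, 35, 64, 128]
  fixList := fixList0
  fixBad := fixBad0
  indList := indList0
  hypList := hypList0
  hyps := hyps0
  a_add := wF_add _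
  a_sq := fun v => (a_ok.1 v).1
  a_iso := ⟨wF_add _, fun v => (a_ok.1 v).2, fun h => absurd h (by decide)⟩
  D_iff := D0_iff
  C_iff := C0_iff
  D_sub := D0_sub
  C_split := C0_split
  L_iff := L0_iff
  L_sub := L0_sub
  L_len := by decide +kernel
  C_len := by decide +kernel
  C_nodup := by decide +kernel
  L_perp := by decide +kernel
  proj_vals := by decide +kernel
  split :=
    { prj_mem := prj0_mem
      prj_unique := prj0_unique
      W_sub := by decide +kernel
      L_add := by decide +kernel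
      small := ind0_small }
  ts := ts0
  ind_all := ind0_all
  ind_span := ind0_span
  ind_ok := by decide +kernel
  fix_ok := by decide +kernel
  fix := fix0
  fix_odd := fix0_odd
  fix_span := fix0_span
  fix_coef := coef0.2
  cover := hyps0_cover
  hyp := hyp0
  hyp_odd := hyp0_odd
  hyp_comm := hyp0_comm
  hyp_ok := by decide +kernel
  hyp_coef := by decide +kernel
  Dbasis := vecs [5, 17, 1, 42]
  Dspan := by decide +kernel
  Dmem := by decide +kernel
  dual := by decide +kernel

/-- the second class -/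
def rep1 : Rep where
  a := a1
  L := L1
  D := D1
  C := C1
  W := W1
  indP := indP1
  coef := vecs [4, 1, 8, 2, 16, 32, 64, 128]
  fixList := fixList1
  fixBad := fixBad1
  indList := indList1
  hypList := hypList1
  hyps := hyps1
  a_add := wF_add _
  a_sq := fun v => (a_ok.2 v).1
  a_iso := ⟨wF_add _, fun v => (a_ok.2 v).2, fun h => absurd h (by decide)⟩
  D_iff := D1_iff
  C_iff := C1_iff
  D_sub := D1_sub
  C_split := C1_split
  L_iff := L1_iff
  L_sub := L1_sub
  L_len := by decide +kernel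
  C_len := by decide +kernel
  C_nodup := by decide +kernel
  L_perp := by decide +kernel
  proj_vals := by decide +kernel
  split :=
    { prj_mem := prj1_mem
      prj_unique := prj1_unique
      W_sub := by decide +kernel
      L_add := by decide +kernel
      small := ind1_small }
  ts := ts1
  ind_all := ind1_all
  ind_span := ind1_span
  ind_ok := by decide +kernel
  fix_ok := by decide +kernel
  fix := fix1
  fix_odd := fix1_odd
  fix_span := fix1_span
  fix_coef := coef1.2
  cover := hyps1_cover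
  hyp := hyp1
  hyp_odd := hyp1_odd
  hyp_comm := hyp1_comm
  hyp_ok := by decide +kernel
  hyp_coef := by decide +kernel
  Dbasis := vecs [1, 4, 16, 32]
  Dspan := by decide +kernel
  Dmem := by decide +kernel
  dual := by decide +kernel

theorem plane_fix {g : Equiv.Perm W8} (hg : g ∈ GS true) {p : W8} (hp : p ∈ vecs [0, 64, 128, 192]) :
    g p = p := by
  rcases plane_mem p hp with rfl | rfl | rfl | rfl
  · exact hg.1.map_zero
  · exact hg.2.1
  · exact hg.2.2
  · rw [show W8.mk 192 = W8.e 6 + W8.e 7 by decide +kernel, hg.1.add, hg.2.1, hg.2.2]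

namespace Rep

variable (R : Rep)

theorem coef_map {g : W8 → W8} (hg : ∀ v w, g (v + w) = g v + g w) {l : List W8}
    (hl : R.coef.map (app l) = cols id) : R.coef.map (app (l.map g)) = cols g := by
  have e : R.coef.map (app (l.map g)) = (R.coef.map (app l)).map g := by
    rw [List.map_map]
    exact List.map_congr_left fun c _ => appFrom_map hg l 0 c
  rw [e, hl, cols, cols, List.map_map]
  rfl

theorem D_map {g : Equiv.Perm W8} (hg : g ∈ GS true) (hc : ∀ v, g (R.a v) = R.a (g v)) {v : W8}
    (hv : v ∈ R.D) : g v ∈ R.D := by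
  obtain ⟨h6, hC⟩ := R.D_sub v hv
  refine (R.D_iff _ (GS_six hg h6)).1 ?_
  rw [← hc, (R.C_iff v).2 hC]

theorem C_map {g : Equiv.Perm W8} (hc : ∀ v, g (R.a v) = R.a (g v)) {v : W8}
    (hv : v ∈ R.C) : g v ∈ R.C := (R.C_iff _).1 (by rw [← hc, (R.C_iff v).2 hv])

theorem L_map {g : Equiv.Perm W8} (hg : g ∈ GS true) (hc : ∀ v, g (R.a v) = R.a (g v)) {l : W8}
    (hl : l ∈ R.L) : g l ∈ R.L := by
  obtain ⟨v, rfl⟩ := R.L_iff.2 l hl
  rw [hg.1.add, hc]
  exact R.L_iff.1 _

theorem eq_C_of_D {g : Equiv.Perm W8} (hg : g ∈ GS true) (h : ∀ v ∈ R.D, g v = v) :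
    ∀ v ∈ R.C, g v = v := by
  intro v hv
  obtain ⟨d, hd, e⟩ := R.C_split v hv
  have hp : ∀ n ∈ [64, 128, 192], g (d + W8.mk n) = d + W8.mk n := by
    intro n hn
    rw [hg.1.add, h d hd, plane_fix hg]
    simp only [List.mem_cons, List.not_mem_nil, or_false] at hn
    rcases hn with rfl | rfl | rfl <;> decide +kernel
  rcases e with rfl | rfl | rfl | rfl
  · exact h _ hd
  all_goals exact hp _ (by simp)

/-- An isometry fixing the fixed space is trivial, the representative, or moves an odd subspace. -/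
theorem fix_group {g : Equiv.Perm W8} (hg : g ∈ GS true) (h : ∀ v ∈ R.C, g v = v) :
    g = 1 ∨ (∀ v, g v = R.a v) ∨ (g * g = 1 ∧ evenRank (cols g) = false) := by
  have hm := search_sound (l := R.fixList) hg.1 fun p hp => by
    rcases R.fix_ok p hp with ⟨h1, h2⟩ | ⟨h1, h2⟩ <;> rw [h2]
    · exact GS_six hg h1
    · exact List.mem_singleton.2 (h _ h1)
  have := List.all_eq_true.1 R.fix _ hm
  simp only [Bool.or_eq_true, beq_iff_eq] at this
  rcases this with (e | e) | e
  · left
    refine Equiv.coe_fn_injective (hg.1.ext_det ((GS true).one_mem).1 R.fix_span ?_)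
    rw [e]
    exact (List.map_id _).symm
  · exact Or.inr (Or.inl (congrFun (hg.1.ext_det R.a_iso R.fix_span e)))
  · refine Or.inr (Or.inr ?_)
    rw [R.coef_map hg.1.add R.fix_coef] at e
    have := List.all_eq_true.1 R.fix_odd _ (List.contains_iff_mem.1 e)
    simp only [Bool.and_eq_true, beq_iff_eq, Bool.not_eq_true'] at this
    refine ⟨perm_ext (mul_mem (s := addPerm) hg.1.add hg.1.add) (one_mem _) ?_, this.2⟩
    rw [cols_mul (g := g) hg.1.add, this.1]
    rfl

/-- No element of order five commutes with the representative. -/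
theorem no_five {g : Equiv.Perm W8} (hg : g ∈ GS true) (hc : ∀ v, g (R.a v) = R.a (g v))
    (h5 : g ^ 5 = 1) : g = 1 := by
  have hL : ∀ l ∈ R.L, g l = l := fun l hl =>
    five_fix h5 id R.L R.L_len.le (fun v => v ∈ R.L) (fun v => R.L_map hg hc) (fun v hv => hv)
      (fun v w _ _ e => congrArg g e) hl
  have hmod : ∀ v ∈ R.D, g v + v ∈ R.L := by
    intro v hv
    have hp := five_fix h5 (prj R.L R.W) (R.D.map (prj R.L R.W)).dedup R.proj_vals (fun v => v ∈ R.D)
      (fun v => R.D_map hg hc) (fun v hv => List.mem_dedup.2 (List.mem_map.2 ⟨v, hv, rfl⟩))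
      (fun v w hv hw e => by
        obtain ⟨-, h1⟩ := R.split.prj_mem v (R.D_sub v hv).2
        obtain ⟨-, h2⟩ := R.split.prj_mem w (R.D_sub w hw).2
        have hvw : v + w ∈ R.L := by
          have := R.split.L_add _ h1 _ h2
          rwa [e, show v + prj R.L R.W w + (w + prj R.L R.W w) =
            v + w + (prj R.L R.W w + prj R.L R.W w) by abel, W8.add_self, add_zero] at this
        have hgw := R.split.prj_mem _ (R.D_sub _ (R.D_map hg hc hw)).2
        refine R.split.prj_eq (R.D_sub _ (R.D_map hg hc hv)).2 hgw.1 ?_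
        have := R.split.L_add _ (R.L_map hg hc hvw) _ hgw.2
        rwa [hg.1.add, show g v + g w + (g w + prj R.L R.W (g w)) =
          g v + (g w + g w) + prj R.L R.W (g w) by abel, W8.add_self, add_zero] at this) hv
    obtain ⟨-, h1⟩ := R.split.prj_mem v (R.D_sub v hv).2
    obtain ⟨-, h2⟩ := R.split.prj_mem _ (R.D_sub _ (R.D_map hg hc hv)).2
    have := R.split.L_add _ h2 _ h1
    rwa [hp, show g v + prj R.L R.W v + (v + prj R.L R.W v) =
      g v + v + (prj R.L R.W v + prj R.L R.W v) by abel, W8.add_self, add_zero] at this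
  have hD : ∀ v ∈ R.D, g v = v := by
    intro v hv
    set l := g v + v with hl
    have hv' : g v = v + l := by rw [hl, add_left_comm, W8.add_self, add_zero]
    have hgl : g l = l := hL l (hmod v hv)
    have h2 : g (g v) = v := by rw [hv', hg.1.add, hgl, hv', add_assoc, W8.add_self, add_zero]
    have h5' : (g ^ 5) v = g v := by
      show g (g (g (g (g v)))) = g v
      rw [h2, h2]
    rw [h5] at h5'
    exact h5'.symm
  rcases R.fix_group hg (R.eq_C_of_D hg hD) with e | e | ⟨e, -⟩
  · exact e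
  all_goals
    have h2 : g * g = 1 := by
      first
        | exact e
        | exact Equiv.ext fun v => by rw [Equiv.Perm.mul_apply, e, e, R.a_sq]; rfl
    have h4 : g ^ 5 = g := by
      rw [show 5 = 2 + 2 + 1 from rfl, pow_add, pow_add, pow_two, h2, one_mul, one_mul, pow_one]
    rw [h4] at h5
    exact h5

/-- Isometries commuting with the representative and fixing a hyperplane of the fixed space commute. -/
theorem hyp_commute {I : Subgroup (Equiv.Perm W8)} (hI : ISplit I) {w : W8} (hw : w ∈ six)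
    {g h : Equiv.Perm W8} (hg : g ∈ I) (hh : h ∈ I) {k : ℕ} (hgk : g ^ 2 ^ k = 1)
    {k' : ℕ} (hhk : h ^ 2 ^ k' = 1)
    (hga : ∀ v, g (R.a v) = R.a (g v)) (hha : ∀ v, h (R.a v) = R.a (h v))
    (hgf : ∀ v ∈ R.D, bb v w = false → g v = v) (hhf : ∀ v ∈ R.D, bb v w = false → h v = v) :
    g * h = h * g := by
  obtain ⟨q, hq, hqv⟩ := R.cover w hw
  have key : ∀ {g : Equiv.Perm W8} {k : ℕ}, g ∈ I → g ^ 2 ^ k = 1 → (∀ v, g (R.a v) = R.a (g v)) →
      (∀ v ∈ R.D, bb v w = false → g v = v) → cols g ∈ q.2.1 := by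
    intro g k hg hgk hga hgf
    have hgs := hI.le hg
    have hm := search_sound (l := R.hypList q.1) hgs.1 fun p hp => by
      rcases R.hyp_ok q hq p hp with ⟨h1, h2⟩ | ⟨h2, h1⟩ <;> rw [h2]
      · exact GS_six hgs h1
      · refine List.mem_singleton.2 ?_
        rcases h1 with h1 | h1
        · exact hgf _ (hqv _ h1).1 (hqv _ h1).2
        · exact plane_fix hgs h1
    have := List.all_eq_true.1 (List.all_eq_true.1 R.hyp q hq) _ hm
    rw [R.coef_map hgs.1.add (R.hyp_coef q hq)] at this
    simp only [Bool.or_eq_true, bne_iff_ne] at this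
    rcases this with (e | e) | e
    · exact List.contains_iff_mem.1 e
    · have h1 := List.all_eq_true.1 (List.all_eq_true.1 R.hyp_odd q hq) _ (List.contains_iff_mem.1 e)
      simp only [Bool.and_eq_true, beq_iff_eq, Bool.not_eq_true'] at h1
      rw [hI.even_rank hg hgk] at h1
      exact absurd h1.2 (by decide)
    · refine absurd ?_ e
      simp only [mulM, cols, List.map_map]
      refine List.map_congr_left fun v _ => ?_
      show app (basis.map g) (R.a v) = app (basis.map R.a) (g v)
      rw [app_map_basis hgs.1.add, app_map_basis R.a_add, hga]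
  have hc := List.all_eq_true.1 (List.all_eq_true.1 (List.all_eq_true.1 R.hyp_comm q hq) _
    (key hg hgk hga hgf)) _ (key hh hhk hha hhf)
  refine perm_ext (mul_mem (hI.add hg) (hI.add hh)) (mul_mem (hI.add hh) (hI.add hg)) ?_
  rw [cols_mul (hI.add hg), cols_mul (hI.add hh)]
  exact beq_iff_eq.1 hc

/-- the induced map is tabulated -/
theorem ind_mem {g : Equiv.Perm W8} (hg : g ∈ GS true) (hc : ∀ v, g (R.a v) = R.a (g v)) :
    R.W.map (fun w => prj R.L R.W (g w)) ∈ R.indP := by
  have hm := search_sound (l := R.indList) hg.1 fun p hp => by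
    rcases (R.ind_ok p hp).2 with ⟨h1, h2⟩ | ⟨h1, h2⟩ <;> rw [h2]
    · exact R.D_map hg hc h1
    · exact List.mem_singleton.2 (plane_fix hg h1)
  have h := List.contains_iff_mem.1 (List.all_eq_true.1 R.ind_all _ hm)
  have h0 : (0 : W8) ∈ R.L := by
    have := R.L_iff.1 0
    rwa [additive_zero R.a_add, add_zero] at this
  have h0W : (0 : W8) ∈ R.W := by rw [R.ind_span]; exact (mem_rspan_iff _ _).1 (rspan_zero _)
  have hw : ∀ v ∈ R.indList.map Prod.fst, v ∈ R.W := fun v hv => by
    obtain ⟨p, hp, rfl⟩ := List.mem_map.1 hv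
    exact (R.ind_ok p hp).1
  have e := (R.split.map_span h0 h0W hg.1.add (fun v => R.C_map hc) _ hw).1
  rw [← R.ind_span] at e
  rw [e]
  exact h

end Rep

/-- A group trivial on the orthogonal space of `u` in the six-dimensional part modulo `u`. -/
theorem rad_group1 {A : Subgroup (Equiv.Perm W8)} (hA : A ≤ GS true)
    (h1 : ∀ g ∈ A, g (W8.mk 1) = W8.mk 1)
    (h : ∀ g ∈ A, ∀ v ∈ six, bb v (W8.mk 1) = false → g v + v = 0 ∨ g v + v = W8.mk 1) :
    Nat.card A ≤ 16 := by
  refine (card_le_of_search (fun g hg => (hA hg).1) (W8.mk 1) [W8.mk 1]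
    (fun g hg => List.mem_singleton.2 (h1 g hg)) radList1 rad1.2.1 fun g hg _ p hp => ?_).trans
    (by simpa using rad1.1)
  rcases rad1.2.2 p hp with ⟨e, e2⟩ | ⟨e2, e⟩ | ⟨h6, hb, e2⟩ <;> rw [e2]
  · rw [e]; exact GS_six (hA hg) (by decide +kernel)
  · refine List.mem_singleton.2 ?_
    rcases e with e | e | e <;> rw [e]
    · exact h1 g hg
    all_goals exact plane_fix (hA hg) (by decide +kernel)
  · rcases h g hg _ h6 hb with e' | e'
    · rw [W8.eq_of_add e']; exact List.mem_cons_self
    · refine List.mem_cons_of_mem _ (List.mem_singleton.2 ?_)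
      rw [← e', add_left_comm, W8.add_self, add_zero]

/-- A group trivial on the orthogonal space of `u` in the six-dimensional part modulo `u`. -/
theorem rad_group5 {A : Subgroup (Equiv.Perm W8)} (hA : A ≤ GS true)
    (h5 : ∀ g ∈ A, g (W8.mk 5) = W8.mk 5)
    (h : ∀ g ∈ A, ∀ v ∈ six, bb v (W8.mk 5) = false → g v + v = 0 ∨ g v + v = W8.mk 5) :
    Nat.card A ≤ 16 := by
  refine (card_le_of_search (fun g hg => (hA hg).1) (W8.mk 5) [W8.mk 5]
    (fun g hg => List.mem_singleton.2 (h5 g hg)) radList5 rad5.2.1 fun g hg _ p hp => ?_).trans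
    (by simpa using rad5.1)
  rcases rad5.2.2 p hp with ⟨e, e2⟩ | ⟨e2, e⟩ | ⟨h6, hb, e2⟩ <;> rw [e2]
  · rw [e]; exact GS_six (hA hg) (by decide +kernel)
  · refine List.mem_singleton.2 ?_
    rcases e with e | e | e <;> rw [e]
    · exact h5 g hg
    all_goals exact plane_fix (hA hg) (by decide +kernel)
  · rcases h g hg _ h6 hb with e' | e'
    · rw [W8.eq_of_add e']; exact List.mem_cons_self
    · refine List.mem_cons_of_mem _ (List.mem_singleton.2 ?_)
      rw [← e', add_left_comm, W8.add_self, add_zero]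

theorem classes_rep {I : Subgroup (Equiv.Perm W8)} (hI : ISplit I) {x : Equiv.Perm W8} (hx : x ∈ I)
    (hx2 : x * x = 1) (hne : x ≠ 1) :
    ∃ R : Rep, ∃ y ∈ I, ∀ v, (y * x * y⁻¹ : Equiv.Perm W8) v = R.a v := by
  obtain ⟨y, hy, e | e⟩ := hI.classes hx hx2 hne
  · exact ⟨rep0, y, hy, e⟩
  · exact ⟨rep1, y, hy, e⟩

theorem orbit_counts : (six.filter fun v => !qe true v && v != 0).length = 27 ∧
    (six.filter fun v => qe true v && v != 0).length = 36 ∧ six.Nodup ∧
    qe true (W8.mk 5) = false ∧ qe true (W8.mk 1) = true := by decide +kernel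

end S

end Cfsg.Agent.ThreeTransp.U62Cent
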