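import Cfsg.Agent.Lib.ThreeTransp.U62Cent.Base
import Cfsg.Agent.Lib.ThreeTransp.U62Cent.SplitShape

/-!
# Orders of the centralisers of pairs, lifts, invariance
-/

set_option autoImplicit false
set_option linter.unusedSectionVars false

namespace Cfsg.Agent.ThreeTransp.U62Cent

open W8 Subgroup Cfsg.Agent.LargeExtra

universe u

variable {G : Type u} [Group G]

theorem stab_mul {I : Subgroup (Equiv.Perm W8)} (v : W8) {O : Set W8} (hO : ∀ g ∈ I, g v ∈ O)
    (htr : ∀ w ∈ O, ∃ g ∈ I, g v = w) :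
    Nat.card ↥(MulAction.stabilizer ↥I v) * O.ncard = Nat.card ↥I := by
  have h := (MulAction.stabilizer ↥I v).card_mul_index
  rw [MulAction.index_stabilizer] at h
  rw [← h]
  congr 2
  ext w
  constructor
  · intro hw
    obtain ⟨g, hg, rfl⟩ := htr w hw
    exact ⟨⟨g, hg⟩, rfl⟩
  · rintro ⟨g, rfl⟩
    exact hO g g.2

theorem ncard_fix_conj {x y : Equiv.Perm W8} {a : W8 → W8}
    (h : ∀ v, (y * x * y⁻¹ : Equiv.Perm W8) v = a v) :
    {v : W8 | x v = v}.ncard = {v : W8 | a v = v}.ncard := by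
  rw [← Set.ncard_image_of_injective _ y.injective]
  congr 1
  ext v
  simp only [Set.mem_image, Set.mem_setOf_eq, ← h, Equiv.Perm.mul_apply, Equiv.Perm.inv_def]
  constructor
  · rintro ⟨w, hw, rfl⟩
    rw [Equiv.symm_apply_apply, hw]
  · intro hv
    exact ⟨y.symm v, y.injective (by rw [hv, Equiv.apply_symm_apply]), Equiv.apply_symm_apply _ _⟩

/-- the centraliser of the pair -/
def Cz (z a : G) : Subgroup G := centralizer ({z} : Set G) ⊓ centralizer ({a} : Set G)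

theorem mem_Cz {z a c : G} : c ∈ Cz z a ↔ Commute c z ∧ Commute c a := and_congr mem_cent mem_cent

theorem card_Cz_flip {z g b a : G} (hg : g * z * g⁻¹ = a) (hb : g * b * g⁻¹ = z) :
    Nat.card ↥(Cz z a) = Nat.card ↥(Cz z b) := by
  refine Nat.card_congr ((MulAut.conj g).toEquiv.subtypeEquiv fun y => ?_).symm
  show y ∈ Cz z b ↔ g * y * g⁻¹ ∈ Cz z a
  rw [mem_Cz, mem_Cz]
  constructor
  · rintro ⟨h1, h2⟩
    exact ⟨hb ▸ conj_commute g h2, hg ▸ conj_commute g h1⟩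
  · rintro ⟨h1, h2⟩
    rw [← hb] at h1
    rw [← hg] at h2
    have h1' := conj_commute g⁻¹ h1
    have h2' := conj_commute g⁻¹ h2
    simp [mul_assoc] at h1' h2'
    exact ⟨h2', h1'⟩

namespace Pre

variable [Finite G] {z : G} (M : Pre z)

include M

/-- the image of the centraliser of the pair -/
noncomputable def Cimg (a : G) : Subgroup (Equiv.Perm W8) :=
  ((Cz z a).subgroupOf (centralizer ({z} : Set G))).map M.π

theorem mem_Cimg {a : G} {t : Equiv.Perm W8} :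
    t ∈ M.Cimg a ↔ ∃ c, Commute c z ∧ Commute c a ∧ M.img c = t := by
  constructor
  · rintro ⟨c, hc, rfl⟩
    exact ⟨c, mem_cent.1 c.2, (mem_Cz.1 hc).2, M.img_eq c.2⟩
  · rintro ⟨c, h1, h2, rfl⟩
    exact ⟨⟨c, mem_cent.2 h1⟩, mem_Cz.2 ⟨h1, h2⟩, (M.img_eq (mem_cent.2 h1)).symm⟩

theorem Cimg_le (a : G) : M.Cimg a ≤ M.π.range := map_le_range _ _

theorem card_Cz (a : G) : Nat.card ↥(Cz z a) = Nat.card ↥(M.Cimg a) * Nat.card ↥(Ja z a) := by
  let f : ↥(Cz z a) →* Equiv.Perm W8 := M.π.comp (inclusion inf_le_left)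
  have hr : f.range = M.Cimg a := by
    ext t
    constructor
    · rintro ⟨⟨c, hc⟩, rfl⟩
      exact M.mem_Cimg.2 ⟨c, (mem_Cz.1 hc).1, (mem_Cz.1 hc).2, M.img_eq hc.1⟩
    · intro ht
      obtain ⟨c, h1, h2, rfl⟩ := M.mem_Cimg.1 ht
      exact ⟨⟨c, mem_Cz.2 ⟨h1, h2⟩⟩, (M.img_eq (mem_cent.2 h1)).symm⟩
  have hle : Ja z a ≤ Cz z a := fun y hy =>
    ⟨mem_cent.2 (commute_of_O2c hy.1), hy.2⟩
  have hk : f.ker = (Ja z a).subgroupOf (Cz z a) := by
    ext q
    rw [MonoidHom.mem_ker, mem_subgroupOf, MonoidHom.comp_apply, M.ker]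
    exact ⟨fun h => ⟨h, q.2.2⟩, fun h => h.1⟩
  have h := Subgroup.card_eq_card_quotient_mul_card_subgroup f.ker
  rw [Nat.card_congr (QuotientGroup.quotientKerEquivRange f).toEquiv, hr] at h
  rw [h, hk, Nat.card_congr (subgroupOfEquivOfLe hle).toEquiv]

theorem card_Ja_pow (a : G) : ∃ k, Nat.card ↥(Ja z a) = 2 ^ k :=
  haveI : Fact (Nat.Prime 2) := ⟨Nat.prime_two⟩
  IsPGroup.iff_card.1 (M.ctr.pgroup.to_le inf_le_left)

theorem card_le_two_mul {S : Subgroup G} (hS : S ≤ O2c z) {F : Set W8}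
    (h : ∀ y ∈ S, M.vec y ∈ F) : Nat.card ↥S ≤ 2 * F.ncard := by
  classical
  have hi : Function.Injective (fun y : ↥S =>
      ((⟨M.vec y, h y y.2⟩ : ↥F), decide ((y : G) = M.lift (M.vec y)))) := by
    rintro ⟨x, hx⟩ ⟨y, hy⟩ e
    simp only [Prod.mk.injEq, Subtype.mk.injEq] at e
    obtain ⟨t, ht⟩ := M.eq_zb (M.lift_mem (M.vec x)) (hS hx) (M.vec_lift _)
    obtain ⟨s, hs⟩ := M.eq_zb (M.lift_mem (M.vec x)) (hS hy) (by rw [M.vec_lift, e.1])
    rw [← e.1] at e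
    have key : ∀ {w : G} {r : Bool}, w = M.lift (M.vec x) * zb z r →
        decide (w = M.lift (M.vec x)) = !r := by
      intro w r hw
      cases r
      · simp [hw, zb]
      · simp [hw, zb, M.ne_one]
    have e2 := (key ht).symm.trans (e.2.trans (key hs))
    have hts : t = s := Bool.not_inj e2
    subst hts
    exact Subtype.ext (ht.trans hs.symm)
  have := Nat.card_le_card_of_injective _ hi
  rw [Nat.card_prod, Nat.card_coe_set_eq, Nat.card_eq_fintype_card (α := Bool), Fintype.card_bool] at this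
  omega

theorem exists_flip_J {v : W8} (hv : v ≠ 0) : ∃ j ∈ O2c z, bb (M.vec j) v = true := by
  obtain ⟨w, -, hw⟩ := (bb_nondeg v).resolve_left hv
  exact ⟨M.lift w, M.lift_mem w, by rw [M.vec_lift, bb_comm, hw]⟩

/-- A lift is carried to a given lift of the image vector. -/
theorem lift_exact {t : Equiv.Perm W8} (ht : t ∈ M.π.range) {a y : G} (ha : a ∈ O2c z)
    (hy : y ∈ O2c z) (hv : M.vec y ≠ 0) (h : t (M.vec a) = M.vec y) :
    ∃ c, Commute c z ∧ M.img c = t ∧ c * a * c⁻¹ = y := by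
  obtain ⟨c, hc, rfl⟩ := M.exists_img ht
  obtain ⟨s, hs⟩ := M.eq_zb hy (M.conj_J hc ha) (by rw [M.vec_conj' hc ha, h])
  cases s
  · exact ⟨c, hc, rfl, by rw [hs, zb_false, mul_one]⟩
  · obtain ⟨j, hj, hjv⟩ := M.exists_flip_J hv
    refine ⟨j * c, (commute_of_O2c hj).mul_left hc, ?_, ?_⟩
    · rw [M.img_mul (commute_of_O2c hj) hc, M.img_J hj, one_mul]
    · have e : j * c * a * (j * c)⁻¹ = j * (c * a * c⁻¹) * j⁻¹ := by group
      rw [e, hs, zb_true, M.conj_J_eq hj (mul_mem hy M.z_mem), M.vec_mul hy M.z_mem, M.vec_z, add_zero,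
        hjv, zb_true, mul_assoc, M.zz, mul_one]

theorem mem_Ja_of_bb {a y : G} (ha : a ∈ O2c z) (hy : y ∈ O2c z)
    (h : bb (M.vec y) (M.vec a) = false) : y ∈ Ja z a := by
  refine mem_Ja.2 ⟨hy, ?_⟩
  have := M.comm hy ha
  rw [h, zb_false, one_mul] at this
  exact this

theorem bb_of_commute {a y : G} (ha : a ∈ O2c z) (hy : y ∈ O2c z) (h : Commute y a) :
    bb (M.vec y) (M.vec a) = false := by
  have := M.comm hy ha
  rw [h.eq] at this
  exact zb_ne M.ne_one ((right_eq_mul.1 this).trans (zb_false z).symm)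

theorem qe_of_sq {y : G} (hy : y ∈ O2c z) (h : y * y = 1) : qe M.e (M.vec y) = false :=
  zb_ne M.ne_one ((M.sq hy).symm.trans (h.trans (zb_false z).symm))

/-- the vectors of a subgroup of `O₂(C(z))` -/
def vimg (S : Subgroup G) : Set W8 := M.vec '' (S : Set G)

theorem zero_mem_vimg (S : Subgroup G) : (0 : W8) ∈ M.vimg S := ⟨1, one_mem _, M.vec_one⟩

theorem add_mem_vimg {S : Subgroup G} (hS : S ≤ O2c z) {x y : W8} (hx : x ∈ M.vimg S)
    (hy : y ∈ M.vimg S) : x + y ∈ M.vimg S := by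
  obtain ⟨x, hx, rfl⟩ := hx
  obtain ⟨y, hy, rfl⟩ := hy
  exact ⟨x * y, S.mul_mem hx hy, M.vec_mul (hS hx) (hS hy)⟩

theorem Xa_inv {a c x : G} (ha : a ∈ cls z) (hc : Commute c z) (hca : Commute c a)
    (hx : x ∈ Xa z a) : c * x * c⁻¹ ∈ Xa z a :=
  ⟨M.conj_J hc hx.1, (M.ctr_of ha).conj_mem hca.eq hx.2⟩

end Pre

namespace Coord

variable [Finite G] {z : G} (M : Coord z)

include M



theorem shape_cases : (M.e = true ∧ INat M.π.range) ∨ ISplit M.π.range := by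
  rcases M.shape with ⟨he, h⟩ | h
  · exact Or.inl ⟨he, M.simple, h, M.card_img⟩
  · exact Or.inr ⟨M.simple, h.trans (GS_le _), M.card_img⟩

theorem card_Cimg_dvd (a : G) : Nat.card ↥(M.Cimg a) ∣ 25920 :=
  M.card_img ▸ card_dvd_of_le (M.Cimg_le a)

end Coord

end Cfsg.Agent.ThreeTransp.U62Cent
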