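import Cfsg.Agent.Lib.ThreeTransp.U62Cent.Iso

/-!
# The image group of the natural module contains the transvections
-/

set_option autoImplicit false
set_option maxRecDepth 100000

namespace Cfsg.Agent.ThreeTransp.U62Cent

open W8

/-- the forty-five isotropic points -/
def pts : List W8 := ([5, 6, 7, 17, 18, 19, 20, 24, 28, 65, 66, 67, 68, 72, 76, 80, 85, 86, 87, 89, 90, 91, 93, 94, 95, 96, 101, 102, 103, 105, 106, 107, 109, 110, 111, 112, 117, 118, 119, 121, 122, 123, 125, 126, 127] : List ℕ).map mk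

/-- the completions of a vector fixed -/
def stabList : List (W8 × List W8) :=
  [(W8.e 6, (span basis)), (W8.e 4, (span basis)), (W8.e 2, (span basis)), (W8.e 0, [W8.e 0])]

theorem stab_count : (search true true stabList).length ≤ 648 := by decide +kernel

theorem norm_count : ((span basis).filter fun w => qe true w).length ≤ 120 := by decide +kernel

theorem span_all : ∀ v : W8, v ∈ span basis := by decide +kernel

theorem stab_span : ∀ u ∈ basis, u ∈ span (det true (stabList.map Prod.fst)) := by decide +kernel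

theorem card_GN : Nat.card GN ≤ 77760 := by
  refine (card_le_of_search (P := GN) (e := true) (sg := true) (fun g hg => hg) (W8.e 0)
    ((span basis).filter fun w => qe true w) (fun g hg => ?_) stabList stab_span
    fun g _ h p hp => ?_).trans ?_
  · rw [List.mem_filter, hg.q]
    exact ⟨span_all _, by decide +kernel⟩
  · simp only [stabList, List.mem_cons, List.not_mem_nil, or_false] at hp
    rcases hp with rfl | rfl | rfl | rfl
    iterate 3 exact span_all _
    exact List.mem_singleton.2 h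
  · exact (Nat.mul_le_mul norm_count stab_count).trans (by norm_num)

theorem tv_inv : ∀ p ∈ pts, ∀ v : W8, tv p (tv p v) = v ∧ qe true (tv p v) = qe true v ∧
    tv p (W8.sig v) = W8.sig (tv p v) := by decide +kernel

/-- the transvection as a permutation -/
def tvP (p : W8) (hp : p ∈ pts) : Equiv.Perm W8 :=
  Function.Involutive.toPerm (tv p) fun v => (tv_inv p hp v).1

theorem tvP_mem (p : W8) (hp : p ∈ pts) : tvP p hp ∈ GN :=
  ⟨tv_add p, fun v => (tv_inv p hp v).2.1, fun _ v => (tv_inv p hp v).2.2⟩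

theorem tvP_apply (p : W8) (hp : p ∈ pts) (v : W8) : tvP p hp v = tv p v := rfl

/-- the braid relation of two points off one another -/
def braid (p r : W8) : Bool := basis.all fun v => tv p (tv r (tv p v)) == tv r (tv p (tv r v))

theorem point_link : ∀ p ∈ pts, ∀ r ∈ pts, p = r ∨ braid p r = true ∨
    ∃ s ∈ pts, braid p s = true ∧ braid s r = true := by decide +kernel

theorem five_line : ∃ p1 ∈ pts, ∃ p2 ∈ pts, ∃ p3 ∈ pts, ∃ p4 ∈ pts, ∃ p5 ∈ pts,
    p1 = mk 5 ∧ basis.all (fun v => tv p1 (tv p2 (tv p3 (tv p4 (tv p5 v)))) == v) = true := by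
  refine ⟨mk 5, by decide +kernel, mk 80, by decide +kernel, mk 85, by decide +kernel,
    mk 90, by decide +kernel, mk 95, by decide +kernel, rfl, by decide +kernel⟩

/-- A simple group of isometries of order 25920 contains every transvection. -/
theorem tv_mem_of_simple {I : Subgroup (Equiv.Perm W8)} [IsSimpleGroup I] (hI : I ≤ GN)
    (hc : Nat.card I = 25920) (p : W8) (hp : p ∈ pts) : tvP p hp ∈ I := by
  classical
  set J : Subgroup GN := I.subgroupOf GN
  let eqv : J ≃* I := Subgroup.subgroupOfEquivOfLe hI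
  haveI : Nontrivial J := eqv.toEquiv.nontrivial
  haveI : IsSimpleGroup J := IsSimpleGroup.isSimpleGroup_of_surjective eqv.symm.toMonoidHom eqv.symm.surjective
  have hJ : Nat.card J = 25920 := (Nat.card_congr eqv.toEquiv).trans hc
  have hi : J.index ≤ 3 := by
    have h := J.card_mul_index
    have h' := card_GN
    rw [hJ] at h
    omega
  haveI := normal_of_small_index J hi (by omega)
  set χ := QuotientGroup.mk' J with hχ
  have hcomm : ∀ a b : GN ⧸ J, a * b = b * a := by
    intro a b
    have hk : Nat.card (GN ⧸ J) ≤ 3 := hi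
    have hpos : 0 < Nat.card (GN ⧸ J) := Nat.card_pos
    rcases Nat.lt_or_ge (Nat.card (GN ⧸ J)) 2 with h | h
    · haveI : Subsingleton (GN ⧸ J) := Finite.card_le_one_iff_subsingleton.1 (by omega)
      exact Subsingleton.elim _ _
    · have hp : (Nat.card (GN ⧸ J)).Prime := by interval_cases Nat.card (GN ⧸ J) <;> norm_num
      haveI := Fact.mk hp
      haveI : IsCyclic (GN ⧸ J) := isCyclic_of_prime_card rfl
      exact (IsCyclic.commGroup (α := GN ⧸ J)).mul_comm a b
  let c : ∀ p, p ∈ pts → GN ⧸ J := fun p hp => χ ⟨tvP p hp, tvP_mem p hp⟩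
  have hext : ∀ {f g : GN}, (∀ v ∈ basis, (f : Equiv.Perm W8) v = (g : Equiv.Perm W8) v) → f = g := by
    intro f g h
    exact Subtype.ext (Equiv.ext fun v => W8.basis_add v f.2.add g.2.add h)
  have hbr : ∀ p hp r hr, braid p r = true → c p hp = c r hr := by
    intro p hp r hr h
    have h' : (⟨tvP p hp, tvP_mem p hp⟩ : GN) * ⟨tvP r hr, tvP_mem r hr⟩ * ⟨tvP p hp, tvP_mem p hp⟩ =
        ⟨tvP r hr, tvP_mem r hr⟩ * ⟨tvP p hp, tvP_mem p hp⟩ * ⟨tvP r hr, tvP_mem r hr⟩ :=
      hext fun v hv => by simpa [tvP_apply] using List.all_eq_true.1 h v hv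
    have h'' := congrArg χ h'
    rw [map_mul, map_mul, map_mul, map_mul] at h''
    change c p hp * c r hr * c p hp = c r hr * c p hp * c r hr at h''
    rw [hcomm (c r hr) (c p hp), mul_assoc, mul_assoc] at h''
    have h3 := mul_left_cancel h''
    rw [hcomm (c r hr) (c p hp)] at h3
    exact mul_right_cancel h3
  have hall : ∀ p hp r hr, c p hp = c r hr := by
    intro p hp r hr
    rcases point_link p hp r hr with rfl | h | ⟨s, hs, h1, h2⟩
    · rfl
    · exact hbr p hp r hr h
    · exact (hbr p hp s hs h1).trans (hbr s hs r hr h2)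
  obtain ⟨p1, m1, p2, m2, p3, m3, p4, m4, p5, m5, -, hl⟩ := five_line
  have h5 : (⟨tvP p1 m1, tvP_mem p1 m1⟩ : GN) * ⟨tvP p2 m2, tvP_mem p2 m2⟩ * ⟨tvP p3 m3, tvP_mem p3 m3⟩ *
      ⟨tvP p4 m4, tvP_mem p4 m4⟩ * ⟨tvP p5 m5, tvP_mem p5 m5⟩ = 1 :=
    hext fun v hv => by simpa [tvP_apply] using List.all_eq_true.1 hl v hv
  have h2 : (⟨tvP p hp, tvP_mem p hp⟩ : GN) * ⟨tvP p hp, tvP_mem p hp⟩ = 1 :=
    Subtype.ext (Equiv.ext fun v => (tv_inv p hp v).1)
  have e5 := congrArg χ h5
  rw [map_mul, map_mul, map_mul, map_mul, map_one] at e5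
  change c p1 m1 * c p2 m2 * c p3 m3 * c p4 m4 * c p5 m5 = 1 at e5
  rw [hall p1 m1 p hp, hall p2 m2 p hp, hall p3 m3 p hp, hall p4 m4 p hp, hall p5 m5 p hp] at e5
  have e2 := congrArg χ h2
  rw [map_mul, map_one] at e2
  change c p hp * c p hp = 1 at e2
  rw [e2, one_mul, e2, one_mul] at e5
  exact Subgroup.mem_subgroupOf.1 ((QuotientGroup.eq_one_iff _).1 e5)

end Cfsg.Agent.ThreeTransp.U62Cent
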