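import Cfsg.Agent.Lib.ThreeTransp.U62Cent.Iso

/-!
# The image group of the split module contains the pairs of reflections
-/

set_option autoImplicit false
set_option maxRecDepth 100000

namespace Cfsg.Agent.ThreeTransp.U62Cent

open W8

/-- the non-singular vectors of the six-dimensional part -/
def nons : List W8 := ((List.range 64).map mk).filter fun r => qe true r

/-- the six-dimensional part -/
def six : List W8 := (List.range 64).map mk

/-- the completions of a vector fixed -/
def stabListS : List (W8 × List W8) :=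
  [(W8.e 5, six), (W8.e 4, six), (W8.e 3, six), (W8.e 2, six), (W8.e 1, six), (W8.e 0, [W8.e 0]),
    (W8.e 6, [W8.e 6]), (W8.e 7, [W8.e 7])]

theorem stab_countS : ∀ e : Bool, (search e false stabListS).length ≤ 1440 := by decide +kernel

theorem stab_spanS : ∀ u ∈ basis, u ∈ span (det false (stabListS.map Prod.fst)) := by decide +kernel

theorem mem_six : ∀ v : W8, bb v (W8.e 6) = false → bb v (W8.e 7) = false → v ∈ six := by
  decide +kernel

theorem nons_count : nons.length ≤ 36 := by decide +kernel

theorem qe_six : ∀ e : Bool, ∀ v ∈ six, qe e v = qe true v := by decide +kernel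

theorem six_orth : ∀ v ∈ six, bb v (W8.e 6) = false ∧ bb v (W8.e 7) = false := by decide +kernel

theorem GS_six {e : Bool} {g : Equiv.Perm W8} (hg : g ∈ GS e) {v : W8} (hv : v ∈ six) : g v ∈ six :=
  mem_six _ (by rw [← hg.2.1, hg.1.bb]; exact (six_orth v hv).1)
    (by rw [← hg.2.2, hg.1.bb]; exact (six_orth v hv).2)

theorem card_GS (e : Bool) : Nat.card (GS e) ≤ 51840 := by
  have hb : ∀ i < 6, W8.e i ∈ six := by decide +kernel
  refine (card_le_of_search (P := GS e) (e := e) (sg := false) (fun g hg => hg.1) (W8.e 0)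
    nons (fun g hg => ?_) stabListS stab_spanS fun g hg h p hp => ?_).trans ?_
  · have h6 := GS_six hg (hb 0 (by norm_num))
    refine List.mem_filter.2 ⟨h6, ?_⟩
    have hq : qe true (W8.e 0) = true := by decide +kernel
    rw [← qe_six e _ h6, hg.1.q, qe_six e _ (hb 0 (by norm_num)), hq]
  · simp only [stabListS, List.mem_cons, List.not_mem_nil, or_false] at hp
    rcases hp with rfl | rfl | rfl | rfl | rfl | rfl | rfl | rfl
    iterate 5 exact GS_six hg (hb _ (by norm_num))
    exacts [List.mem_singleton.2 h, List.mem_singleton.2 hg.2.1, List.mem_singleton.2 hg.2.2]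
  · exact (Nat.mul_le_mul nons_count (stab_countS e)).trans (by norm_num)

theorem nons_spec : ∀ r ∈ nons, ∀ e : Bool, qe e r = true ∧ rfx r (W8.e 6) = W8.e 6 ∧
    rfx r (W8.e 7) = W8.e 7 := by decide +kernel

/-- the reflection as a permutation -/
def rfP (r : W8) : Equiv.Perm W8 := Function.Involutive.toPerm (rfx r) (rfx_inv r)

theorem rfP_apply (r v : W8) : rfP r v = rfx r v := rfl

theorem rfP_mem (e : Bool) {r : W8} (hr : r ∈ nons) : rfP r ∈ GS e :=
  ⟨⟨rfx_add r, rfx_q (nons_spec r hr e).1, fun h => absurd h (by decide)⟩, (nons_spec r hr e).2.1,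
    (nons_spec r hr e).2.2⟩

/-- two reflections braid -/
def braidS (p r : W8) : Bool := basis.all fun v => rfx p (rfx r (rfx p v)) == rfx r (rfx p (rfx r v))

theorem nons_link : ∀ p ∈ nons, ∀ r ∈ nons, p = r ∨ braidS p r = true ∨
    ∃ s ∈ nons, braidS p s = true ∧ braidS s r = true := by decide +kernel

/-- A simple group of isometries of order 25920 contains every pair of reflections. -/
theorem pair_mem_of_simple {e : Bool} {I : Subgroup (Equiv.Perm W8)} [IsSimpleGroup I] (hI : I ≤ GS e)
    (hc : Nat.card I = 25920) (r s : W8) (hr : r ∈ nons) (hs : s ∈ nons) : rfP r * rfP s ∈ I := by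
  classical
  set J : Subgroup (GS e) := I.subgroupOf (GS e)
  let eqv : J ≃* I := Subgroup.subgroupOfEquivOfLe hI
  haveI : Nontrivial J := eqv.toEquiv.nontrivial
  haveI : IsSimpleGroup J := IsSimpleGroup.isSimpleGroup_of_surjective eqv.symm.toMonoidHom eqv.symm.surjective
  have hJ : Nat.card J = 25920 := (Nat.card_congr eqv.toEquiv).trans hc
  have hi : J.index ≤ 2 := by
    have h := J.card_mul_index
    have h' := card_GS e
    rw [hJ] at h
    omega
  haveI := normal_of_small_index J (hi.trans (by norm_num)) (by omega)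
  set χ := QuotientGroup.mk' J with hχ
  have hcard : Nat.card (GS e ⧸ J) ≤ 2 := hi
  have hsq : ∀ a : GS e ⧸ J, a * a = 1 := by
    intro a
    have hpos : 0 < Nat.card (GS e ⧸ J) := Nat.card_pos
    rcases Nat.lt_or_ge (Nat.card (GS e ⧸ J)) 2 with h | h
    · haveI : Subsingleton (GS e ⧸ J) := Finite.card_le_one_iff_subsingleton.1 (by omega)
      exact Subsingleton.elim _ _
    · have h2 : Nat.card (GS e ⧸ J) = 2 := by omega
      have := pow_card_eq_one' (x := a)
      rwa [h2, pow_two] at this
  have hcomm : ∀ a b : GS e ⧸ J, a * b = b * a := by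
    intro a b
    have hinv : ∀ x : GS e ⧸ J, x⁻¹ = x := fun x => inv_eq_of_mul_eq_one_right (hsq x)
    calc a * b = (a * b)⁻¹ := (hinv _).symm
      _ = _ := by rw [mul_inv_rev, hinv, hinv]
  let c : ∀ p, p ∈ nons → GS e ⧸ J := fun p hp => χ ⟨rfP p, rfP_mem e hp⟩
  have hbr : ∀ p hp r hr, braidS p r = true → c p hp = c r hr := by
    intro p hp r hr h
    have h' : (⟨rfP p, rfP_mem e hp⟩ : GS e) * ⟨rfP r, rfP_mem e hr⟩ * ⟨rfP p, rfP_mem e hp⟩ =
        ⟨rfP r, rfP_mem e hr⟩ * ⟨rfP p, rfP_mem e hp⟩ * ⟨rfP r, rfP_mem e hr⟩ := by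
      refine Subtype.ext (Equiv.ext fun v => W8.basis_add v ?_ ?_ fun u hu => ?_)
      · intro x y; simp [rfP_apply, rfx_add]
      · intro x y; simp [rfP_apply, rfx_add]
      · simpa [rfP_apply] using List.all_eq_true.1 h u hu
    have h'' := congrArg χ h'
    rw [map_mul, map_mul, map_mul, map_mul] at h''
    change c p hp * c r hr * c p hp = c r hr * c p hp * c r hr at h''
    rw [hcomm (c r hr) (c p hp), mul_assoc, mul_assoc] at h''
    have h3 := mul_left_cancel h''
    rw [hcomm (c r hr) (c p hp)] at h3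
    exact mul_right_cancel h3
  have hall : ∀ p hp r hr, c p hp = c r hr := by
    intro p hp r hr
    rcases nons_link p hp r hr with rfl | h | ⟨t, ht, h1, h2⟩
    · rfl
    · exact hbr p hp r hr h
    · exact (hbr p hp t ht h1).trans (hbr t ht r hr h2)
  have e2 : χ (⟨rfP r, rfP_mem e hr⟩ * ⟨rfP s, rfP_mem e hs⟩) = 1 := by
    rw [map_mul]
    change c r hr * c s hs = 1
    rw [hall s hs r hr, hsq]
  exact Subgroup.mem_subgroupOf.1 ((QuotientGroup.eq_one_iff _).1 e2)

end Cfsg.Agent.ThreeTransp.U62Cent
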