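import Cfsg.Agent.Lib.ThreeTransp.U62Cent.AutBasic

/-!
# No other conjugate in `O₂(C(z))`, split shape, automorphism group case
-/

set_option autoImplicit false
set_option linter.unusedSectionVars false
set_option maxRecDepth 100000

namespace Cfsg.Agent.ThreeTransp.U62Cent

open W8 Subgroup Cfsg.Agent.LargeExtra

universe u

namespace S

/-- small vectors -/
def smallVecs : List W8 := vecs [1, 2, 4, 8, 16, 32, 64, 128, 3, 5, 9, 17, 33, 65, 129, 6, 10, 18, 34, 66, 130, 12, 20, 36, 68, 132, 24, 40, 72, 136, 48, 80, 144, 96, 160, 192]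

/-- The hyperplane orthogonal to a vector is not totally isotropic. -/
theorem perp_pair : ∀ u : W8, ∃ v ∈ smallVecs,
    ∃ w ∈ smallVecs,
    bb v u = false ∧ bb w u = false ∧ bb v w = true := by decide +kernel

end S

variable {G : Type u} [Group G]

namespace ACoord

variable [Finite G] {z : G} (M : ACoord z)

include M

theorem split_mem_Ja (hS : ISplit M.I) {a : G} (ha : a ∈ cls z)
    (haJ : a ∈ O2c z) (hne : a ≠ z) : z ∈ O2c a := by
  obtain ⟨-, hav, hac⟩ := M.J_facts ha haJ hne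
  obtain ⟨g, b, hg, hb, hbc, hbz, hbne⟩ := M.flip ha hac hne
  by_contra hcon
  have hbJ : b ∉ O2c z := fun h => hcon ((M.flip_J hg hb).1 h)
  by_cases hbI : M.img b ∈ M.I
  swap
  · have hg' : g⁻¹ * z * g⁻¹⁻¹ = b := by rw [← hb]; group
    have hb' : g⁻¹ * a * g⁻¹⁻¹ = z := by rw [← hg]; group
    obtain ⟨v, -, w, -, hv, hw, hvw⟩ := S.perp_pair (M.vec a)
    have mv : M.lift v ∈ Ja z a :=
      M.mem_Ja_of_bb haJ (M.lift_mem v) (by rw [M.vec_lift]; exact hv)
    have mw : M.lift w ∈ Ja z a :=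
      M.mem_Ja_of_bb haJ (M.lift_mem w) (by rw [M.vec_lift]; exact hw)
    have h := M.bb_of_commute (M.lift_mem w) (M.lift_mem v) (M.abelian_of_outer hg' hb' hbI mv mw)
    rw [M.vec_lift, M.vec_lift, hvw] at h
    exact absurd h (by decide)
  obtain ⟨d, hd, p, hp, hdp, -⟩ := six_split (M.vec a)
  -- the orbit under the simple group has length prime to five
  have hstab : 5 ∣ Nat.card ↥(MulAction.stabilizer ↥M.I (M.vec a)) := by
    let O : Set W8 := {v | ∃ r ∈ six, qe true r = qe true d ∧ (r = 0 ↔ d = 0) ∧ v = r + p}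
    have h := stab_mul (I := M.I) (M.vec a) (O := O)
      (fun t ht => by
        have hts := hS.le ht
        refine ⟨t d, GS_six hts hd, hts.1.q d, ⟨fun e => hts.1.injective (e.trans hts.1.map_zero.symm),
          fun e => by rw [e, hts.1.map_zero]⟩, ?_⟩
        rw [hdp, hts.1.add, S.plane_fix hts hp])
      (fun w hw => by
        obtain ⟨r, hr, hq, h0, rfl⟩ := hw
        have key : ∃ t ∈ M.I, t d = r := by
          by_cases hd0 : d = 0
          · exact ⟨1, one_mem _, by rw [hd0, h0.2 hd0]; rfl⟩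
          rcases Bool.eq_false_or_eq_true (qe true d) with hq' | hq'
          · obtain ⟨s, hs, e1⟩ := hS.trans1 hd hd0 (hq'.trans S.orbit_counts.2.2.2.2.symm)
            obtain ⟨t, ht, e2⟩ := hS.trans1 hr (mt h0.1 hd0) (hq.trans (hq'.trans S.orbit_counts.2.2.2.2.symm))
            exact ⟨t * s⁻¹, mul_mem ht (inv_mem hs), by rw [← e1]; simpa using e2⟩
          · obtain ⟨s, hs, e1⟩ := hS.trans5 hd hd0 (hq'.trans S.orbit_counts.2.2.2.1.symm)
            obtain ⟨t, ht, e2⟩ := hS.trans5 hr (mt h0.1 hd0) (hq.trans (hq'.trans S.orbit_counts.2.2.2.1.symm))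
            exact ⟨t * s⁻¹, mul_mem ht (inv_mem hs), by rw [← e1]; simpa using e2⟩
        obtain ⟨t, ht, e⟩ := key
        exact ⟨t, ht, by rw [hdp, (hS.le ht).1.add, e, S.plane_fix (hS.le ht) hp]⟩)
    have hOc : O.ncard = 1 ∨ O.ncard = 27 ∨ O.ncard = 36 := by
      by_cases hd0 : d = 0
      · left
        rw [Set.ncard_eq_one]
        refine ⟨p, Set.ext fun v => ⟨?_, ?_⟩⟩
        · rintro ⟨r, -, -, h0, rfl⟩; rw [h0.2 hd0, zero_add]; rfl
        · rintro rfl
          exact ⟨0, S.six_zero.1, by rw [hd0], ⟨fun _ => hd0, fun _ => rfl⟩, (zero_add _).symm⟩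
      · right
        have hO : O = (fun r => r + p) '' {r | r ∈ six ∧ qe true r = qe true d ∧ r ≠ 0} := by
          ext v
          constructor
          · rintro ⟨r, h1, h2, h3, rfl⟩; exact ⟨r, ⟨h1, h2, mt h3.1 hd0⟩, rfl⟩
          · rintro ⟨r, ⟨h1, h2, h3⟩, rfl⟩
            exact ⟨r, h1, h2, ⟨fun e => absurd e h3, fun e => absurd e hd0⟩, rfl⟩
        rw [hO, Set.ncard_image_of_injective _ (add_left_injective p)]
        obtain ⟨c27, c36, hn, -, -⟩ := S.orbit_counts
        rcases Bool.eq_false_or_eq_true (qe true d) with hq' | hq'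
        · right
          rw [← c36, ← List.toFinset_card_of_nodup (hn.filter _), ← Set.ncard_coe_finset]
          congr 1; ext v; simp [hq']
        · left
          rw [← c27, ← List.toFinset_card_of_nodup (hn.filter _), ← Set.ncard_coe_finset]
          congr 1; ext v; simp [hq']
    rw [M.icard] at h
    refine ((Nat.Prime.dvd_mul (by norm_num)).1 (h ▸ (by norm_num : (5 : ℕ) ∣ 25920))).resolve_right ?_
    rcases hOc with e | e | e <;> rw [e] <;> norm_num
  have h5 : 5 ∣ Nat.card ↥(Cz z b) := by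
    rw [← card_Cz_flip hg hb, M.card_Cz a]
    refine Dvd.dvd.mul_right ?_ _
    haveI : Fact (Nat.Prime 5) := ⟨by norm_num⟩
    obtain ⟨s, hs⟩ := exists_prime_orderOf_dvd_card' 5 hstab
    have hsC : ((s : ↥M.I) : Equiv.Perm W8) ∈ M.Cimg a :=
      (M.Cimg_J haJ hav).2 ⟨M.I_le (s : ↥M.I).2, s.2⟩
    have := orderOf_dvd_natCard (⟨_, hsC⟩ : ↥(M.Cimg a))
    rwa [Subgroup.orderOf_mk, Subgroup.orderOf_coe, Subgroup.orderOf_coe, hs] at this
  haveI : Fact (Nat.Prime 5) := ⟨by norm_num⟩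
  obtain ⟨h, hh⟩ := exists_prime_orderOf_dvd_card' 5 h5
  obtain ⟨hhz, hhb⟩ := mem_Cz.1 h.2
  have hh5 : (h : G) ^ 5 = 1 := by
    rw [← hh, ← Subgroup.orderOf_coe h]
    exact pow_orderOf_eq_one _
  have himg5 : M.img (h : G) ^ 5 = 1 := by
    rw [M.img_eq (mem_cent.2 hhz), ← map_pow]
    have : (⟨(h : G), mem_cent.2 hhz⟩ : ↥(centralizer ({z} : Set G))) ^ 5 = 1 := Subtype.ext (by simpa using hh5)
    rw [this, map_one]
  have hx : M.img b * M.img b = 1 := by
    rw [← M.img_mul hbz hbz, M.cls_sq hbc, M.img_J (one_mem _)]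
  obtain ⟨R, y, hy, hR⟩ := S.classes_rep hS hbI hx fun e => hbJ ((M.img_eq_one hbz).1 e)
  have hhI : M.img (h : G) ∈ M.I := M.mem_I_of_pow_five (M.img_mem _) himg5
  have hcm : M.img (h : G) * M.img b = M.img b * M.img (h : G) := by
    rw [← M.img_mul hhz hbz, ← M.img_mul hbz hhz, hhb.eq]
  have hone := R.no_five (g := y * M.img (h : G) * y⁻¹)
    (hS.le (mul_mem (mul_mem hy hhI) (inv_mem hy))) (fun v => by
      rw [← hR v, ← hR]
      have e : y * M.img (h : G) * y⁻¹ * (y * M.img b * y⁻¹) =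
          y * M.img b * y⁻¹ * (y * M.img (h : G) * y⁻¹) := by
        rw [show y * M.img (h : G) * y⁻¹ * (y * M.img b * y⁻¹) = y * (M.img (h : G) * M.img b) * y⁻¹ by group,
          hcm]
        group
      exact congrArg (fun s : Equiv.Perm W8 => s v) e)
    (by rw [conj_pow, himg5, mul_one, mul_inv_cancel])
  have h1' : M.img (h : G) = 1 := by
    rw [mul_inv_eq_one, mul_eq_left] at hone
    exact hone
  have hhJ : (h : G) ∈ O2c z := (M.img_eq_one hhz).1 h1'
  obtain ⟨k, hk⟩ := M.ctr.pgroup ⟨_, hhJ⟩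
  have hk' : (h : G) ^ 2 ^ k = 1 := by simpa using congrArg Subtype.val hk
  have := orderOf_dvd_of_pow_eq_one hk'
  rw [Subgroup.orderOf_coe, hh] at this
  exact absurd (Nat.Prime.dvd_of_dvd_pow (by norm_num) this) (by norm_num)

/-- `O₂(C(z))` holds no other conjugate of `z` in the split shape. -/
theorem split_not_J (hS : ISplit M.I) {a : G}
    (ha : a ∈ cls z) (haJ : a ∈ O2c z) : a = z := by
  classical
  by_contra hne
  obtain ⟨haq, hav, hac⟩ := M.J_facts ha haJ hne
  have hz := M.split_mem_Ja hS ha haJ hne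
  obtain ⟨g, b, hg, hb, hbc, hbz, hbne⟩ := M.flip ha hac hne
  have hbJ : b ∈ O2c z := (M.flip_J hg hb).2 hz
  have hQ : Nat.card ↥(Qa z a) = 256 := by
    rw [M.card_Qa hg hb, M.card_Ja_J hbJ (M.J_facts hbc hbJ hbne).2.1]
  obtain ⟨d, hd, p, hp, hdp, -⟩ := six_split (M.vec a)
  obtain ⟨hT0, hTcard⟩ := Pre.split_T M.toPre hS M.I_le ha haJ hne hd hp hdp
  have hX : Nat.card ↥(Xa z a) ≤ 8 :=
    (M.card_le_two_mul (S := Xa z a) inf_le_left (F := M.vimg (Xa z a))
      fun x hx => ⟨x, hx, rfl⟩).trans (by omega)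
  have hfixd : ∀ q, q ∈ Qa z a → M.img q d = d ∧ M.img q p = p := by
    intro q hq
    have h := M.fix_of_commute (mem_Qa.1 hq).2 haJ (commute_of_O2c hq.1)
    rw [hdp, M.img_add] at h
    obtain ⟨e1, e2⟩ := S.proj_unique _ (M.split_six hS (M.img_mem q) hd) _
      (M.split_plane hS (M.img_mem q) hp)
    obtain ⟨e3, e4⟩ := S.proj_unique _ hd _ hp
    rw [h, e3] at e1
    rw [h, e4] at e2
    exact ⟨e1.symm, e2.symm⟩
  have hA : Nat.card ↥(M.Abar a) ≤ 16 := by
    let A' : Subgroup (Equiv.Perm W8) := ((M.Abar a).subgroupOf M.π.range).map (M.kap hS)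
    have hcard : Nat.card ↥A' = Nat.card ↥(M.Abar a) := by
      rw [card_map_of_injective (M.kap_injective hS)]
      exact Nat.card_congr (subgroupOfEquivOfLe (M.Abar_le a)).toEquiv
    rw [← hcard]
    refine S.rad_any hS hd (fun t ⟨s, _, e⟩ => e ▸ M.kap_mem hS s) ?_ ?_
    · rintro _ ⟨s, hs, rfl⟩
      obtain ⟨q, hq, e⟩ := M.mem_Abar.1 hs
      rw [M.kap_six hS s hd]
      simp only [coe_subtype] at e
      rw [← e]
      exact (hfixd q hq).1
    · rintro _ ⟨s, hs, rfl⟩ v hv hvd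
      obtain ⟨q, hq, e⟩ := M.mem_Abar.1 hs
      rw [M.kap_six hS s hv]
      simp only [coe_subtype] at e
      rw [← e]
      obtain ⟨y, hy, rfl⟩ := M.surj v
      have hyJa : y ∈ Ja z a := M.mem_Ja_of_bb haJ hy (by
        rw [hdp, bb_add_right, hvd, S.plane_bb _ hv _ hp]; rfl)
      have hx : M.img q (M.vec y) + M.vec y ∈ M.vimg (Xa z a) :=
        ⟨_, M.commutator_Xa ha hq hyJa, (M.commutator_J (mem_Qa.1 hq).2 hy).2⟩
      have hw6 := S.six_add _ (M.split_six hS (M.img_mem q) hv) _ hv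
      refine hT0 hx hw6 (by decide +kernel) (add_zero _).symm ?_
      have hbq := M.img_bb q (M.vec y) d
      rw [(hfixd q hq).1] at hbq
      rw [bb_add_left, hbq, hvd]
      rfl
  have h := M.card_Qa_eq a
  rw [hQ] at h
  nlinarith

end ACoord

end Cfsg.Agent.ThreeTransp.U62Cent
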