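import Cfsg.Agent.Lib.ThreeTransp.U62Cent.Component
import Cfsg.Agent.Lib.ZStar.InvariantSylow

/-!
# The class is a class of 3-transpositions generating a perfect group without solvable normal subgroups
-/

set_option autoImplicit false
set_option maxRecDepth 100000
set_option linter.unusedSectionVars false

namespace Cfsg.Agent.ThreeTransp.U62Cent

open W8 Subgroup Cfsg.Agent.LargeExtra
open scoped commutatorElement

universe u

variable {G : Type u} [Group G]

theorem basis_singular : ∀ v ∈ basis, ∃ u ∈ span basis, qe true u = false ∧ qe true (v + u) = false := by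
  decide +kernel

/-- A normal solvable subgroup is trivial if the normal abelian subgroups are. -/
theorem solvable_eq_bot [Finite G] (hA : ∀ A : Subgroup G, A.Normal → (∀ x ∈ A, ∀ y ∈ A, x * y = y * x) → A = ⊥) :
    ∀ N : Subgroup G, N.Normal → Group.IsSolvable ↥N → N = ⊥ := by
  intro N
  induction hn : Nat.card ↥N using Nat.strong_induction_on generalizing N with
  | _ n ih =>
    intro hN hsol
    by_contra hne
    haveI : Nontrivial ↥N := (Subgroup.nontrivial_iff_ne_bot N).2 hne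
    haveI := hsol
    have hlt : _root_.commutator ↥N < ⊤ := Group.IsSolvable.commutator_lt_top_of_nontrivial ↥N
    let D : Subgroup G := (_root_.commutator ↥N).map N.subtype
    have hDN : D ≤ N := map_subtype_le _
    haveI : (_root_.commutator ↥N).Characteristic := by unfold _root_.commutator; infer_instance
    have hDn : D.Normal := by
      haveI := hN
      exact ConjAct.normal_of_characteristic_of_normal
    have hDlt : Nat.card ↥D < n := by
      rw [← hn, card_map_of_injective N.subtype_injective]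
      by_contra hge
      exact hlt.ne (eq_top_of_card_eq _ (le_antisymm (Subgroup.card_le_card_group _) (not_lt.1 hge)))
    haveI : Group.IsSolvable ↥D := solvable_of_solvable_injective (inclusion_injective hDN)
    have hD : D = ⊥ := ih _ hDlt D rfl hDn inferInstance
    refine hne (hA N hN fun x hx y hy => ?_)
    have h : ⁅(⟨x, hx⟩ : ↥N), ⟨y, hy⟩⁆ ∈ _root_.commutator ↥N := commutator_mem_commutator (mem_top _) (mem_top _)
    have h1 : (N.subtype ⁅(⟨x, hx⟩ : ↥N), ⟨y, hy⟩⁆) ∈ D := mem_map_of_mem _ h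
    rw [hD, mem_bot] at h1
    exact (commutatorElement_eq_one_iff_mul_comm.1 (by simpa using h1))

namespace Coord

variable [Finite G] {z : G} (M : Coord z)

include M

theorem isolated_case (h : ∀ a, ¬ Mem z a) :
    centralizer ({z} : Set G) ⊔ Cfsg.oddCore G = ⊤ := by
  rw [sup_comm]
  refine Cfsg.Agent.ZStar.InvariantSylow.oddCore_sup_centralizer ⟨M.two, fun g hg => ?_⟩
  by_contra hne
  exact h _ ⟨⟨g, rfl⟩, hg.symm, hne⟩

theorem lift_mem_of (H : Subgroup G) (hz : z ∈ H) {y : G} (hy : y ∈ O2c z)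
    (hv : M.vec y ∈ M.vimg (O2c z ⊓ H)) : y ∈ H := by
  obtain ⟨x, hx, hxv⟩ := hv
  obtain ⟨t, rfl⟩ := M.eq_zb hx.1 hy hxv
  cases t
  · rw [zb_false, mul_one]; exact hx.2
  · exact mul_mem hx.2 hz

/-- A subgroup containing the members at `z` and normalised by the centraliser contains the core. -/
theorem core_le {a0 : G} (h0 : Mem z a0) {H : Subgroup G} (hmem : ∀ a, Mem z a → a ∈ H)
    (hinv : ∀ c, Commute c z → ∀ x ∈ H, c * x * c⁻¹ ∈ H) : O2c z ≤ H := by
  classical
  obtain ⟨he, hN⟩ := M.nat_of_mem h0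
  have hz : z ∈ H := by
    obtain ⟨b1, b2, b3, hb1, hb2, hb3, -, -, -, e⟩ := M.quintet h0
    rw [← e]
    exact mul_mem (mul_mem (mul_mem (hmem _ h0) (hmem _ hb1.1)) (hmem _ hb2.1)) (hmem _ hb3.1)
  set V := M.vimg (O2c z ⊓ H) with hV
  obtain ⟨l, hl, hl0⟩ : ∃ l ∈ M.Lset a0, l ≠ 0 := by
    by_contra hc
    push Not at hc
    have : (M.Lset a0).ncard ≤ 1 :=
      (Set.ncard_le_ncard (t := {0}) (fun v hv => hc v hv) (Set.toFinite _)).trans_eq (Set.ncard_singleton _)
    rw [M.Lset_ncard h0] at this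
    omega
  have hlV : l ∈ V := by
    obtain ⟨b, hb, hi, hv⟩ := M.fibre_surj h0 hl
    exact ⟨a0 * b, ⟨M.diff_mem_J h0 hb hi, mul_mem (hmem _ h0) (hmem _ hb)⟩, hv⟩
  have hsing : ∀ v, qe true v = false → v ∈ V := by
    intro v hv
    by_cases hv0 : v = 0
    · rw [hv0]; exact M.zero_mem_vimg _
    have hlq : qe true l = false := he ▸ M.Lset_q h0 hl
    obtain ⟨s, hs, e1⟩ := hN.trans5 hl0 hlq
    obtain ⟨r, hr, e2⟩ := hN.trans5 hv0 hv
    obtain ⟨c, hc, hci⟩ := M.exists_img (mul_mem hr (inv_mem hs))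
    obtain ⟨x, hx, hxl⟩ := hlV
    refine ⟨c * x * c⁻¹, ⟨M.conj_J hc hx.1, hinv c hc x hx.2⟩, ?_⟩
    rw [M.vec_conj' hc hx.1, hxl, hci, ← e1]
    simpa using e2
  have hbas : ∀ v ∈ basis, v ∈ V := by
    intro v hv
    obtain ⟨u, -, h1, h2⟩ := basis_singular v hv
    have h := M.add_mem_vimg inf_le_left (hsing u h1) (hsing _ h2)
    rwa [add_left_comm, W8.add_self, add_zero] at h
  have hall : ∀ v, v ∈ V := by
    intro v
    have key : ∀ l : List W8, (∀ u ∈ l, u ∈ V) → ∀ u ∈ span l, u ∈ V := by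
      intro l
      induction l with
      | nil => intro _ u hu; rw [List.mem_singleton.1 hu]; exact M.zero_mem_vimg _
      | cons d l ih =>
        intro hl u hu
        have ih' := ih fun w hw => hl w (List.mem_cons_of_mem _ hw)
        rcases List.mem_append.1 hu with hu | hu
        · exact ih' u hu
        · obtain ⟨w, hw, rfl⟩ := List.mem_map.1 hu
          exact M.add_mem_vimg inf_le_left (hl d List.mem_cons_self) (ih' w hw)
    exact key basis hbas v (span_all v)
  intro y hy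
  exact M.lift_mem_of H hz hy (hall _)

theorem exists_far {a0 a : G} (h0 : Mem z a0) (hconn : comp0 z = cls z) (ha : Mem z a) :
    ∃ b ∈ cls z, ¬ Commute b z ∧ ¬ Commute b a := by
  classical
  by_contra hc
  push Not at hc
  have hsub : cls z ⊆ insert z {b | Adj z z b} ∪ insert a {b | Adj a a b} := by
    intro b hb
    by_cases h1 : Commute b z
    · left
      by_cases e : b = z
      · exact Or.inl e
      · exact Or.inr (adj_iff_mem.2 ⟨hb, h1, e⟩)
    · right
      have h2 := hc b hb h1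
      exact Or.inr (adj_iff_mem.2 (M.mem_of_adj ha.cls hb h2 fun e => h1 (e ▸ ha.comm)))
  obtain ⟨b', hb'⟩ := exists_mem_conj h0 ha.cls
  have h1 := M.nbr_count h0
  have h2 := (M.move ha.cls).nbr_count hb'
  have h3 := (Set.ncard_le_ncard hsub (Set.toFinite _)).trans (Set.ncard_union_le _ _)
  have h4 := Set.ncard_insert_le z {b | Adj z z b}
  have h5 := Set.ncard_insert_le a {b | Adj a a b}
  rw [← hconn, M.comp0_count h0] at h3
  omega

theorem closure_top {a0 : G} (h0 : Mem z a0) (hconn : comp0 z = cls z) :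
    closure (cls z) = ⊤ := by
  classical
  set H := closure (cls z) with hH
  have hmem : ∀ {x}, x ∈ cls z → x ∈ H := fun h => subset_closure h
  haveI hn : H.Normal := by
    refine ⟨fun x hx g => ?_⟩
    have hle : H ≤ H.comap (MulAut.conj g).toMonoidHom := by
      rw [hH, closure_le]
      exact fun w hw => subset_closure (conj_mem_cls g hw)
    simpa using hle hx
  -- transitivity
  have hfar : ∀ y ∈ cls z, ¬ Commute y z → ∃ h ∈ H, h * z * h⁻¹ = y := by
    intro y hy hyz
    obtain ⟨m, hm⟩ := (M.commute_or_odd (self_mem_cls z) hy).resolve_left fun h => hyz h.symm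
    exact ⟨_, mul_mem (hmem (self_mem_cls z)) (pow_mem (mul_mem (hmem (self_mem_cls z)) (hmem hy)) _),
      odd_mid M.zz (M.cls_sq hy) hm⟩
  have htrans : ∀ y ∈ cls z, ∃ h ∈ H, h * z * h⁻¹ = y := by
    intro y hy
    by_cases hyz : Commute y z
    · by_cases e : y = z
      · exact ⟨1, one_mem _, by simp [e]⟩
      obtain ⟨b, hb, hbz, hby⟩ := M.exists_far h0 hconn ⟨hy, hyz, e⟩
      obtain ⟨h, hh, rfl⟩ := hfar b hb hbz
      obtain ⟨m, hm⟩ := (M.commute_or_odd hb hy).resolve_left hby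
      have hH2 : (h * z * h⁻¹) * (h * z * h⁻¹ * y) ^ (m + 1) * h ∈ H :=
        mul_mem (mul_mem (hmem hb) (pow_mem (mul_mem (hmem hb) (hmem hy)) _)) hh
      refine ⟨_, hH2, ?_⟩
      have e' := odd_mid (M.cls_sq hb) (M.cls_sq hy) hm
      conv_rhs => rw [← e']
      group
    · exact hfar y hy hyz
  have hJ : O2c z ≤ H := M.core_le h0 (fun a ha => hmem ha.cls) fun c _ x hx => hn.conj_mem x hx c
  -- the centraliser
  haveI : IsSimpleGroup ↥M.π.range := M.simple
  let P : Subgroup ↥M.π.range := ((H.subgroupOf (centralizer ({z} : Set G))).map M.π).subgroupOf M.π.range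
  haveI hPn : P.Normal := by
    refine ⟨fun w hw k => ?_⟩
    rw [mem_subgroupOf] at hw ⊢
    obtain ⟨c, hc, hcw⟩ := hw
    obtain ⟨d, hd⟩ := k.2
    refine ⟨d * c * d⁻¹, (hn.subgroupOf (centralizer ({z} : Set G))).conj_mem c hc d, ?_⟩
    rw [map_mul, map_mul, map_inv, hcw, hd]
    push_cast
    rfl
  have hPtop : P = ⊤ := by
    refine hPn.eq_bot_or_eq_top.resolve_left fun e => M.img_ne h0 ?_
    have hm : (⟨M.img a0, M.img_mem a0⟩ : ↥M.π.range) ∈ P := by
      rw [mem_subgroupOf]
      exact ⟨⟨a0, mem_cent.2 h0.comm⟩, hmem h0.cls, (M.img_eq (mem_cent.2 h0.comm)).symm⟩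
    rw [e, mem_bot] at hm
    exact congrArg Subtype.val hm
  have hC : ∀ c, Commute c z → c ∈ H := by
    intro c hc
    have hm : (⟨M.img c, M.img_mem c⟩ : ↥M.π.range) ∈ P := by rw [hPtop]; exact mem_top _
    rw [mem_subgroupOf] at hm
    obtain ⟨d, hd, hdi⟩ := hm
    have hdi' : M.img (d : G) = M.img c := (M.img_eq d.2).trans hdi
    have hdz : Commute (d : G) z := mem_cent.1 d.2
    have h1 : (d : G)⁻¹ * c ∈ O2c z := by
      rw [← M.img_eq_one (hdz.inv_left.mul_left hc), M.img_mul hdz.inv_left hc, M.img_inv hdz, hdi',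
        inv_mul_cancel]
    have h2 : (d : G) * ((d : G)⁻¹ * c) ∈ H := mul_mem hd (hJ h1)
    rwa [mul_inv_cancel_left] at h2
  rw [eq_top_iff]
  intro g _
  obtain ⟨h, hh, e⟩ := htrans _ ⟨g, rfl⟩
  have hc : Commute (h⁻¹ * g) z := by
    refine mul_inv_eq_iff_eq_mul.1 ?_
    calc h⁻¹ * g * z * (h⁻¹ * g)⁻¹ = h⁻¹ * (g * z * g⁻¹) * h := by group
      _ = z := by rw [← e]; group
  have := mul_mem hh (hC _ hc)
  rwa [mul_inv_cancel_left] at this

theorem three_class {a0 : G} (h0 : Mem z a0) (hconn : comp0 z = cls z) :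
    Cfsg.IsThreeTranspositionClass (cls z) := by
  refine ⟨⟨fun d hd => (M.ctr_of hd).two, fun d hd e he => ?_⟩, ⟨z, self_mem_cls z, ?_⟩, M.closure_top h0 hconn⟩
  · by_cases h : Commute d e
    · left
      rw [h.mul_pow, pow_two, pow_two, M.cls_sq hd, M.cls_sq he, one_mul]
    · right
      obtain ⟨b, hb⟩ := exists_mem_conj h0 hd
      have hD : comp0 d = cls z := (M.comp0_eq h0 (hconn ▸ hd)).trans hconn
      rcases (hD ▸ he : e ∈ comp0 d) with e' | e' | ⟨a, ha, h1, h2, h3⟩
      · exact absurd (e' ▸ Commute.refl d) h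
      · exact absurd e'.comm.symm h
      · rw [← (M.move hd).order_three ha h1 h2 h3]
        exact pow_orderOf_eq_one _
  · ext x
    simp [conjugatesOf, isConj_iff, cls]

theorem perfect {a0 : G} (h0 : Mem z a0) (hconn : comp0 z = cls z) :
    ⁅_root_.commutator G, _root_.commutator G⁆ = _root_.commutator G := by
  have hz : z ∈ _root_.commutator G := by
    obtain ⟨j, hj, hjv⟩ := M.exists_flip_J (v := W8.e 0) (by decide +kernel)
    obtain ⟨w, hw, hwv⟩ := M.surj (W8.e 0)
    have e : ⁅j, w⁆ = z := by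
      rw [commutatorElement_def, M.conj_J_eq hj hw, hwv, hjv, zb_true, M.ctr.comm hw, mul_inv_cancel_right]
    rw [← e]
    exact commutator_mem_commutator (mem_top _) (mem_top _)
  have htop : _root_.commutator G = ⊤ := by
    rw [eq_top_iff, ← M.closure_top h0 hconn, closure_le]
    rintro _ ⟨g, rfl⟩
    exact (inferInstance : (_root_.commutator G).Normal).conj_mem z hz g
  rw [htop]
  exact htop

theorem solvable_trivial {a0 : G} (h0 : Mem z a0) (hconn : comp0 z = cls z) :
    ∀ N : Subgroup G, N.Normal → Group.IsSolvable ↥N → N = ⊥ := by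
  classical
  refine solvable_eq_bot fun A hA hcomm => ?_
  haveI : IsSimpleGroup ↥M.π.range := M.simple
  -- the part in the centraliser
  have himg : ∀ B : Subgroup G, B ≤ centralizer ({z} : Set G) →
      (∀ c, Commute c z → ∀ x ∈ B, c * x * c⁻¹ ∈ B) → (∀ x ∈ B, ∀ y ∈ B, x * y = y * x) → B ≤ O2c z := by
    intro B hBC hBn hBc x hx
    let P : Subgroup ↥M.π.range := ((B.subgroupOf (centralizer ({z} : Set G))).map M.π).subgroupOf M.π.range
    have hPn : P.Normal := by
      refine ⟨fun w hw k => ?_⟩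
      rw [mem_subgroupOf] at hw ⊢
      obtain ⟨c, hc, hcw⟩ := hw
      obtain ⟨d, hd⟩ := k.2
      refine ⟨d * c * d⁻¹, hBn d (mem_cent.1 d.2) c hc, ?_⟩
      rw [map_mul, map_mul, map_inv, hcw, hd]
      push_cast
      rfl
    rcases hPn.eq_bot_or_eq_top with e | e
    · have hxz : Commute x z := mem_cent.1 (hBC hx)
      rw [← M.img_eq_one hxz]
      have hm : (⟨M.img x, M.img_mem x⟩ : ↥M.π.range) ∈ P := by
        rw [mem_subgroupOf]
        exact ⟨⟨x, hBC hx⟩, hx, (M.img_eq (hBC hx)).symm⟩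
      rw [e, mem_bot] at hm
      exact congrArg Subtype.val hm
    · exfalso
      have hall : ∀ b, Mem z b → Commute b a0 := by
        intro b hb
        rw [M.commute_iff hb h0]
        have hin : ∀ t : ↥M.π.range, t ∈ P := fun t => by rw [e]; exact mem_top _
        obtain ⟨c, hc, hcb⟩ := mem_subgroupOf.1 (hin ⟨_, M.img_mem b⟩)
        obtain ⟨d, hd, hdb⟩ := mem_subgroupOf.1 (hin ⟨_, M.img_mem a0⟩)
        show M.img b * M.img a0 = M.img a0 * M.img b
        have hcb' : M.π c = M.img b := hcb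
        have hdb' : M.π d = M.img a0 := hdb
        rw [← hcb', ← hdb', ← map_mul, ← map_mul]
        exact congrArg M.π (Subtype.ext (hBc _ hc _ hd))
      have h1 := M.lambda_count h0
      have h2 := M.nbr_count h0
      have : {b | Mem z b ∧ Commute b a0} = {b | Adj z z b} := by
        ext b
        simp only [Set.mem_setOf_eq, adj_iff_mem]
        exact ⟨fun h => h.1, fun h => ⟨h, hall b h⟩⟩
      rw [this, h2] at h1
      omega
  by_contra hne
  rcases Nat.even_or_odd (Nat.card ↥A) with hev | hodd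
  · haveI : Fact (Nat.Prime 2) := ⟨Nat.prime_two⟩
    let A2 : Subgroup G :=
      { carrier := {x | x ∈ A ∧ x * x = 1}
        one_mem' := ⟨one_mem _, one_mul _⟩
        mul_mem' := fun {x y} hx hy => ⟨mul_mem hx.1 hy.1, by
          rw [mul_assoc, ← mul_assoc y, hcomm y hy.1 x hx.1, mul_assoc x y y, hy.2, mul_one, hx.2]⟩
        inv_mem' := fun {x} hx => ⟨inv_mem hx.1, by rw [← mul_inv_rev, hx.2, inv_one]⟩ }
    have hA2n : ∀ g : G, ∀ x ∈ A2, g * x * g⁻¹ ∈ A2 := fun g x hx => ⟨hA.conj_mem x hx.1 g, by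
      rw [show g * x * g⁻¹ * (g * x * g⁻¹) = g * (x * x) * g⁻¹ by group, hx.2]; group⟩
    obtain ⟨w, hw⟩ := exists_prime_orderOf_dvd_card' (G := ↥A) 2 (even_iff_two_dvd.1 hev)
    have hw2 : (w : G) * w = 1 := by
      have h := pow_orderOf_eq_one w
      rw [hw, pow_two] at h
      exact congrArg Subtype.val h
    have hw1 : (w : G) ≠ 1 := fun e => by
      have : w = 1 := Subtype.ext e
      rw [this, orderOf_one] at hw
      omega
    obtain ⟨x, hx, hxz, hx1⟩ : ∃ x ∈ A2, Commute x z ∧ x ≠ 1 := by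
      let v : G := (w : G) * (z * w * z⁻¹)
      have hzw : z * (w : G) * z⁻¹ ∈ A2 := hA2n z _ ⟨w.2, hw2⟩
      by_cases hv : v = 1
      · refine ⟨w, ⟨w.2, hw2⟩, ?_, hw1⟩
        have e : z * (w : G) * z⁻¹ = w :=
          (eq_inv_of_mul_eq_one_right hv).trans (inv_eq_of_mul_eq_one_right hw2)
        exact (mul_inv_eq_iff_eq_mul.1 e).symm
      · refine ⟨v, mul_mem (⟨w.2, hw2⟩ : (w : G) ∈ A2) hzw, ?_, hv⟩
        have e : z * v * z⁻¹ = v := by
          calc z * v * z⁻¹ = (z * w * z⁻¹) * ((z * z) * w * (z * z)⁻¹) := by simp only [v]; group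
            _ = v := by rw [M.zz, one_mul, inv_one, mul_one, hcomm _ hzw.1 _ w.2]
        exact (mul_inv_eq_iff_eq_mul.1 e).symm
    let B : Subgroup G := A2 ⊓ centralizer ({z} : Set G)
    have hBn : ∀ c, Commute c z → ∀ y ∈ B, c * y * c⁻¹ ∈ B := fun c hc y hy =>
      ⟨hA2n c y hy.1, mem_cent.2 (by
        have := conj_commute c (mem_cent.1 hy.2)
        rwa [hc.eq, mul_inv_cancel_right] at this)⟩
    have hxB : x ∈ B := ⟨hx, mem_cent.2 hxz⟩
    have hxJ := himg B inf_le_right hBn (fun p hp q hq => hcomm p hp.1.1 q hq.1.1) hxB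
    have hzA : z ∈ A := by
      by_cases hv : M.vec x = 0
      · rcases M.vec_cases hxJ hv with e | e
        · exact absurd e hx1
        · exact e ▸ hx.1
      · obtain ⟨j, hj, hjv⟩ := M.exists_flip_J hv
        have hm := hA.conj_mem x hx.1 j
        rw [M.conj_J_eq hj hxJ, hjv, zb_true] at hm
        have := mul_mem (inv_mem hx.1) hm
        rwa [inv_mul_cancel_left] at this
    obtain ⟨b, hb, hbz, -⟩ := M.exists_far h0 hconn h0
    obtain ⟨g, hg⟩ := hb
    exact hbz (hg ▸ hcomm _ (hA.conj_mem z hzA g) z hzA)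
  · have hBodd : ∀ x ∈ A, Commute x z → x = 1 := by
      intro x hx hxz
      let B : Subgroup G := A ⊓ centralizer ({z} : Set G)
      have hxJ := himg B inf_le_right (fun c hc y hy => ⟨hA.conj_mem y hy.1 c, mem_cent.2 (by
        have := conj_commute c (mem_cent.1 hy.2)
        rwa [hc.eq, mul_inv_cancel_right] at this)⟩) (fun p hp q hq => hcomm p hp.1 q hq.1)
        (show x ∈ B from ⟨hx, mem_cent.2 hxz⟩)
      obtain ⟨k, hk⟩ := M.ctr.pgroup ⟨x, hxJ⟩
      have hk' : x ^ 2 ^ k = 1 := by simpa using congrArg Subtype.val hk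
      have hcop : Nat.Coprime (orderOf x) (2 ^ k) :=
        ((Nat.coprime_two_right.2 (hodd.of_dvd_nat (Subgroup.orderOf_dvd_natCard A hx)))).pow_right k
      exact orderOf_eq_one_iff.1 (hcop.eq_one_of_dvd (orderOf_dvd_of_pow_eq_one hk'))
    have hinvz : ∀ x ∈ A, z * x * z = x⁻¹ := inverts_of_no_fixed M.zz
      (fun x hx => by simpa [M.ctr.inv_self] using hA.conj_mem x hx z) fun x hx hc => hBodd x hx hc.symm
    have hinv : ∀ d ∈ cls z, ∀ x ∈ A, d * x * d = x⁻¹ := by
      rintro d hd x hx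
      obtain ⟨g, hg⟩ := hd
      have h := hinvz (g⁻¹ * x * g) (by simpa using hA.conj_mem x hx g⁻¹)
      have hdi : d = g * z⁻¹ * g⁻¹ := by rw [M.ctr.inv_self, hg]
      calc d * x * d = g * z * g⁻¹ * x * (g * z * g⁻¹) := by rw [hg]
        _ = g * (z * (g⁻¹ * x * g) * z) * g⁻¹ := by group
        _ = x⁻¹ := by rw [h]; group
    obtain ⟨x, hx, hx1⟩ := (Subgroup.ne_bot_iff_exists_ne_one.1 hne) |> fun ⟨⟨x, hx⟩, h⟩ =>
      (⟨x, hx, fun e => h (Subtype.ext e)⟩ : ∃ x ∈ A, x ≠ 1)
    obtain ⟨b1, b2, b3, hb1, hb2, hb3, -, -, -, hprod⟩ := M.quintet h0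
    have hi : ∀ {b : G}, b ∈ M.fibre a0 → b⁻¹ = b := fun hb => M.cls_inv hb.1.cls
    have e1 : z * x * z = x := by
      calc z * x * z = z * x * z⁻¹ := by rw [M.ctr.inv_self]
        _ = a0 * (b1 * (b2 * (b3 * x * b3) * b2) * b1) * a0 := by
          rw [← hprod, mul_inv_rev, mul_inv_rev, mul_inv_rev, hi hb1, hi hb2, hi hb3, M.cls_inv h0.cls]
          group
        _ = x := by
          rw [hinv _ hb3.1.cls x hx, hinv _ hb2.1.cls _ (inv_mem hx), inv_inv, hinv _ hb1.1.cls x hx,
            hinv _ h0.cls _ (inv_mem hx), inv_inv]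
    rw [hinvz x hx] at e1
    exact hx1 (odd_sq_one (hodd.of_dvd_nat (Subgroup.orderOf_dvd_natCard A hx))
      (by rw [← mul_inv_cancel x, e1]))

theorem card_group {a0 : G} (h0 : Mem z a0) (hconn : comp0 z = cls z) :
    Nat.card G = 693 * 512 * 25920 := by
  have h := M.card_stab h0
  have htop : setStab (comp0 z) = ⊤ := by
    rw [eq_top_iff]
    intro g _
    rw [M.mem_setStab_iff h0, hconn]
    exact ⟨g, rfl⟩
  rw [htop, Subgroup.card_top] at h
  rw [h, mul_assoc, mul_comm 25920]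

theorem not_central {a0 : G} (h0 : Mem z a0) :
    ¬ Cfsg.pCore 2 ↥(closure {y : G | y ∈ cls z ∧ y ≠ z ∧ Commute z y}) ≤
      center ↥(closure {y : G | y ∈ cls z ∧ y ≠ z ∧ Commute z y}) := by
  intro hle
  set S := {y : G | y ∈ cls z ∧ y ≠ z ∧ Commute z y} with hS
  set H := closure S with hH
  have hHC : H ≤ centralizer ({z} : Set G) := by
    rw [hH, closure_le]
    exact fun y hy => mem_cent.2 hy.2.2.symm
  have hinv : ∀ c, Commute c z → ∀ x ∈ H, c * x * c⁻¹ ∈ H := by
    intro c hc x hx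
    have hle' : H ≤ H.comap (MulAut.conj c).toMonoidHom := by
      rw [hH, closure_le]
      intro w hw
      refine subset_closure ⟨conj_mem_cls c hw.1, fun e => hw.2.1 ?_, ?_⟩
      · have e' : c * w * c⁻¹ = c * z * c⁻¹ := by rw [hc.eq, mul_inv_cancel_right]; exact e
        exact mul_left_cancel (mul_right_cancel e')
      · have := conj_commute c hw.2.2
        rwa [hc.eq, mul_inv_cancel_right] at this
    simpa using hle' hx
  have hJ : O2c z ≤ H := M.core_le h0 (fun a ha => subset_closure ⟨ha.cls, ha.ne, ha.comm.symm⟩) hinv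
  haveI hn : ((O2c z).subgroupOf H).Normal := by
    refine ⟨fun x hx k => ?_⟩
    rw [mem_subgroupOf] at hx ⊢
    push_cast
    exact M.conj_J (mem_cent.1 (hHC k.2)) hx
  have hp := Cfsg.Agent.Cores.le_pCore (N := (O2c z).subgroupOf H)
    (M.ctr.pgroup.of_equiv (subgroupOfEquivOfLe hJ).symm)
  obtain ⟨j, hj, hjv⟩ := M.exists_flip_J (v := W8.e 0) (by decide +kernel)
  obtain ⟨w, hw, hwv⟩ := M.surj (W8.e 0)
  have hc := congrArg Subtype.val
    (mem_center_iff.1 (hle (hp (mem_subgroupOf.2 hw : (⟨w, hJ hw⟩ : ↥H) ∈ _))) ⟨j, hJ hj⟩)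
  have h := M.bb_of_commute hw hj hc
  rw [hwv, hjv] at h
  exact absurd h (by decide)

end Coord

end Cfsg.Agent.ThreeTransp.U62Cent
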