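import Cfsg.Prelude.Def_Classical
import Cfsg.Agent.S1616
import Cfsg.Agent.S0245
import Cfsg.Agent.S0280
import Cfsg.Agent.Lib.MonomialMult.FieldChange

/-!
# The group of order `2^15·3^6·5·7·11` among the symplectic and unitary 3-transposition groups
-/

set_option autoImplicit false

namespace Cfsg.Agent.ThreeTransp.U62Cent.Recognise

theorem sp_card_ne {n : ℕ} : Nat.card (Matrix.symplecticGroup (Fin n) (ZMod 2)) ≠ 693 * 512 * 25920 := by
  haveI : Fact (Nat.Prime 2) := ⟨Nat.prime_two⟩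
  rw [Cfsg.Agent.S0245.result (F := ZMod 2) (q := 2) (by simp) n]
  intro e
  by_cases hn : 4 ≤ n
  · have h : 2 ^ 16 ∣ 693 * 512 * 25920 :=
      e ▸ Dvd.dvd.mul_right (Nat.pow_dvd_pow 2 (by nlinarith)) _
    norm_num at h
  · interval_cases n <;> simp [Finset.prod_range_succ] at e

theorem psu_card_le_one {F : Type*} [Field F] [Fintype F] {n q : ℕ} (hn : n ≤ 1) :
    Nat.card (Cfsg.PSU n F q) ≤ 1 := by
  classical
  haveI : Subsingleton (Fin n) := ⟨fun a b => Fin.ext (by omega)⟩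
  haveI : Subsingleton (Matrix.SpecialLinearGroup (Fin n) F) := ⟨fun a b => Subtype.ext (Matrix.ext fun i j => by
    have ha := a.2
    have hb := b.2
    rw [Matrix.det_eq_elem_of_subsingleton _ i] at ha hb
    rw [Subsingleton.elim j i, ha, hb])⟩
  haveI : Subsingleton (Cfsg.PSU n F q) := ⟨fun a b => by
    obtain ⟨a, rfl⟩ := QuotientGroup.mk_surjective a
    obtain ⟨b, rfl⟩ := QuotientGroup.mk_surjective b
    rw [Subsingleton.elim a b]⟩
  exact Finite.card_le_one_iff_subsingleton.2 inferInstance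

theorem psu_card_eq {F : Type*} [Field F] [Fintype F] (hF : Fintype.card F = 4) {n : ℕ}
    (h : Nat.card (Cfsg.PSU n F 2) = 693 * 512 * 25920) : n = 6 := by
  by_cases hn : n ≤ 1
  · have := psu_card_le_one (F := F) (q := 2) hn
    omega
  have e := Cfsg.Agent.S0280.result (F := F) (q := 2) (by rw [hF]; norm_num) n (by omega)
  rw [h] at e
  by_contra hne
  by_cases h7 : 7 ≤ n
  · have h2 : 16 ≤ n * (n - 1) / 2 := by
      have : 7 * 6 ≤ n * (n - 1) := Nat.mul_le_mul h7 (by omega)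
      omega
    have hd : 2 ^ 16 ∣ Nat.gcd n (2 + 1) * ((2 + 1) * (693 * 512 * 25920)) :=
      e ▸ Dvd.dvd.mul_right (Nat.pow_dvd_pow 2 h2) _
    have hg : Nat.gcd n 3 = 1 ∨ Nat.gcd n 3 = 3 := Nat.prime_three.eq_one_or_self_of_dvd _ (Nat.gcd_dvd_right n 3)
    rw [show (2 : ℕ) + 1 = 3 from rfl] at hd
    rcases hg with hg | hg <;> rw [hg] at hd <;> norm_num at hd
  · interval_cases n <;> simp_all [Finset.prod_range_succ, Nat.even_iff]

theorem psu_six {G : Type*} [Group G] [Finite G] {K : Type*} [Field K] [Fintype K] (hK : Fintype.card K = 4)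
    (hsol : ∀ N : Subgroup G, N.Normal → Group.IsSolvable ↥N → N = ⊥)
    (hperf : ⁅commutator G, commutator G⁆ = commutator G) {D : Set G} (hD : Cfsg.IsThreeTranspositionClass D)
    (x : G) (hx : x ∈ D)
    (h : ¬ Cfsg.pCore 2 ↥(Subgroup.closure {y : G | y ∈ D ∧ y ≠ x ∧ Commute x y}) ≤
      Subgroup.center ↥(Subgroup.closure {y : G | y ∈ D ∧ y ≠ x ∧ Commute x y}))
    (hcard : Nat.card G = 693 * 512 * 25920) : Nonempty (G ≃* Cfsg.PSU 6 K 2) := by
  rcases Cfsg.Agent.S1616.result hsol hperf hD x hx h with ⟨n, ⟨e⟩⟩ | ⟨F, _, _, n, hF, ⟨e⟩⟩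
  · exact absurd ((Nat.card_congr e.toEquiv).symm.trans hcard) sp_card_ne
  · obtain rfl := psu_card_eq hF ((Nat.card_congr e.toEquiv).symm.trans hcard)
    obtain ⟨f⟩ := Cfsg.Agent.MonomialMult.psu_field_equiv (n := 6) (q := 2)
      (FiniteField.ringEquivOfCardEq (hF.trans hK.symm) : F ≃+* K)
    exact ⟨e.trans f⟩

end Cfsg.Agent.ThreeTransp.U62Cent.Recognise
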