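import Mathlib

/-!
# A free automorphism of order 77 of a strongly regular graph `(693, 180, 51, 45)` moves points to neighbours

The eigenvalue idempotent of the graph commutes with a power `P` of the automorphism, so the trace of
its product with `P` is a rational algebraic integer.
-/

set_option autoImplicit false
set_option linter.style.haveILetI false

namespace Cfsg.Agent.ThreeTransp.U62Cent.SrgTrace

open Matrix

section

variable {α : Type*} [Fintype α] [DecidableEq α]

theorem trace_int_of_pow_eq (M : Matrix α α ℚ) {k : ℕ} (h : M ^ (k + 2) = M) :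
    ∃ m : ℤ, (m : ℚ) = M.trace := by
  classical
  set f := algebraMap ℚ ℂ with hf
  set N : Matrix α α ℂ := M.map f with hN
  have hNk : N ^ (k + 2) = N := by
    have e := congrArg f.mapMatrix h
    rwa [map_pow] at e
  have hroot : ∀ r ∈ N.charpoly.roots, IsIntegral ℤ r := by
    intro r hr
    have hr' : r ∈ spectrum ℂ N :=
      Matrix.mem_spectrum_iff_isRoot_charpoly.2 (Polynomial.mem_roots'.1 hr).2
    rcases isEmpty_or_nonempty α with he | he
    · exact absurd hr' (by simp [spectrum.of_subsingleton])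
    have h1 := spectrum.subset_polynomial_aeval N (Polynomial.X ^ (k + 2) - Polynomial.X : Polynomial ℂ)
      ⟨r, hr', rfl⟩
    rw [map_sub, Polynomial.aeval_X_pow, Polynomial.aeval_X, hNk, sub_self, spectrum.zero_eq,
      Set.mem_singleton_iff] at h1
    refine ⟨Polynomial.X ^ (k + 2) - Polynomial.X, Polynomial.monic_X_pow_sub (by simp; exact_mod_cast (show 1 < k + 2 by omega)), ?_⟩
    simpa using h1
  have hint : IsIntegral ℤ (f M.trace) := by
    rw [AddMonoidHom.map_trace f M, ← hN, Matrix.trace_eq_sum_roots_charpoly]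
    exact IsIntegral.multiset_sum hroot
  obtain ⟨m, hm⟩ := IsIntegrallyClosed.isIntegral_iff.1
    ((isIntegral_algebraMap_iff (A := ℚ) (B := ℂ) (algebraMap ℚ ℂ).injective).1 hint)
  exact ⟨m, by simpa using hm⟩

/-- The size of an invariant set of a permutation of prime order without fixed points on it. -/
theorem dvd_card_of_free {p : ℕ} [Fact p.Prime] (σ : Equiv.Perm α) (hσ : σ ^ p = 1) (S : Finset α)
    (hS : ∀ a, a ∈ S ↔ σ a ∈ S) (hfree : ∀ a ∈ S, σ a ≠ a) : p ∣ S.card := by
  classical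
  let s : Equiv.Perm {a // a ∈ S} := σ.subtypePerm fun a => (hS a).symm
  have hs : s ^ p ^ 1 = 1 := by
    rw [pow_one, Equiv.Perm.subtypePerm_pow]
    ext a
    simp [hσ]
  have hsupp : s.supportᶜ = ∅ := by
    rw [Finset.eq_empty_iff_forall_notMem]
    intro a ha
    rw [Finset.mem_compl, Equiv.Perm.notMem_support] at ha
    exact hfree a a.2 (congrArg Subtype.val ha)
  have h := Equiv.Perm.card_compl_support_modEq hs
  rw [hsupp, Finset.card_empty, Fintype.card_coe] at h
  exact (Nat.modEq_zero_iff_dvd).1 h.symm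

theorem perm_mul_apply (τ : Equiv.Perm α) (M : Matrix α α ℚ) (i j : α) :
    (τ.permMatrix ℚ * M) i j = M (τ i) j := by
  simp [Matrix.mul_apply, Equiv.Perm.permMatrix, PEquiv.toMatrix]

theorem mul_perm_apply (τ : Equiv.Perm α) (M : Matrix α α ℚ) (i j : α) :
    (M * τ.permMatrix ℚ) i j = M i (τ.symm j) := by
  simp [Matrix.mul_apply, Equiv.Perm.permMatrix, PEquiv.toMatrix, Equiv.apply_eq_iff_eq_symm_apply]

theorem perm_pow (τ : Equiv.Perm α) (k : ℕ) : (τ.permMatrix ℚ) ^ k = (τ ^ k).permMatrix ℚ := by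
  induction k with
  | zero => simp [Matrix.permMatrix_one]
  | succ k ih => rw [pow_succ, ih, ← Matrix.permMatrix_mul, ← pow_succ']

end

variable {α : Type*} [Fintype α] [DecidableEq α] {R : α → α → Prop}

theorem count_congruence (hsymm : ∀ a b, R a b → R b a) (hirr : ∀ a, ¬ R a a)
    (hn : Fintype.card α = 693) (hk : ∀ a, {b | R a b}.ncard = 180)
    (hl : ∀ a b, R a b → {c | R a c ∧ R b c}.ncard = 51)
    (hm : ∀ a b, a ≠ b → ¬ R a b → {c | R a c ∧ R b c}.ncard = 45)
    (τ : Equiv.Perm α) (haut : ∀ a b, R (τ a) (τ b) ↔ R a b) (hτ : τ ^ 77 = 1) (hfix : ∀ a, τ a ≠ a) :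
    ∃ m : ℤ, ({a | R a (τ a)}.ncard : ℤ) = 24 * m + 189 := by
  classical
  obtain ⟨A, hA⟩ : ∃ A : Matrix α α ℚ, ∀ a b, A a b = if R a b then 1 else 0 := ⟨Matrix.of fun a b => _, fun _ _ => rfl⟩
  obtain ⟨J, hJ⟩ : ∃ J : Matrix α α ℚ, ∀ a b, J a b = 1 := ⟨Matrix.of fun _ _ => 1, fun _ _ => rfl⟩
  set P := τ.permMatrix ℚ with hP
  have hcount : ∀ p : α → Prop, (∑ c, if p c then (1 : ℚ) else 0) = ({c | p c}.ncard : ℚ) := by
    intro p
    rw [Finset.sum_boole, Set.ncard_eq_toFinset_card', Set.toFinset_setOf]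
  have hAA : A * A = (135 : ℚ) • (1 : Matrix α α ℚ) + (6 : ℚ) • A + (45 : ℚ) • J := by
    ext a b
    have e : (A * A) a b = ({c | R a c ∧ R b c}.ncard : ℚ) := by
      rw [← hcount, Matrix.mul_apply]
      refine Finset.sum_congr rfl fun c _ => ?_
      have : R c b ↔ R b c := ⟨hsymm c b, hsymm b c⟩
      by_cases h1 : R a c <;> by_cases h2 : R b c <;> simp [hA, h1, h2, this]
    rw [e]
    by_cases hab : a = b
    · subst hab
      simp [hA, hJ, hirr a, and_self, hk a]
      norm_num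
    · by_cases hR : R a b
      · simp [hA, hJ, hab, hR, hl a b hR]
        norm_num
      · simp [hA, hJ, hab, hR, hm a b hab hR]
  have hAJ : A * J = (180 : ℚ) • J := by
    ext a b
    simp only [Matrix.mul_apply, hA, hJ, mul_one, Matrix.smul_apply, smul_eq_mul]
    rw [hcount (R a), hk a]
    norm_num
  have hJA : J * A = (180 : ℚ) • J := by
    ext a b
    simp only [Matrix.mul_apply, hA, hJ, one_mul, mul_one, Matrix.smul_apply, smul_eq_mul]
    rw [hcount (fun c => R c b), show {c | R c b} = {c | R b c} from Set.ext fun c => ⟨hsymm c b, hsymm b c⟩, hk b]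
    norm_num
  have hJJ : J * J = (693 : ℚ) • J := by
    ext a b
    simp [Matrix.mul_apply, hJ, hn]
  set E : Matrix α α ℚ := (1 / 264 : ℚ) • ((11 : ℚ) • A + (99 : ℚ) • 1 - (3 : ℚ) • J) with hE
  have hEE : E * E = E := by
    simp only [hE, smul_mul_assoc, mul_smul_comm, Matrix.mul_add, Matrix.add_mul, Matrix.mul_sub,
      Matrix.sub_mul, hAA, hAJ, hJA, hJJ, Matrix.one_mul, Matrix.mul_one]
    module
  have hAP : Commute A P := by
    ext i j
    rw [hP, mul_perm_apply, perm_mul_apply]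
    rw [hA, hA]
    refine if_congr ?_ rfl rfl
    conv_rhs => rw [← τ.apply_symm_apply j, haut]
  have hJP : Commute J P := by
    ext i j
    rw [hP, mul_perm_apply, perm_mul_apply, hJ, hJ]
  have hEP : Commute E P :=
    ((((hAP.smul_left (11 : ℚ)).add_left ((Commute.one_left P).smul_left (99 : ℚ))).sub_left
      (hJP.smul_left (3 : ℚ))).smul_left (1 / 264 : ℚ))
  have hP77 : P ^ 77 = 1 := by rw [hP, perm_pow, hτ, Matrix.permMatrix_one]
  have hpow : (E * P) ^ (76 + 2) = E * P := by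
    rw [hEP.mul_pow, pow_succ (n := 77) P, hP77, one_mul]
    rw [IsIdempotentElem.pow_succ_eq 77 (hEE : IsIdempotentElem E)]
  obtain ⟨m, hm'⟩ := trace_int_of_pow_eq (E * P) hpow
  have htr : ∀ M : Matrix α α ℚ, (M * P).trace = ∑ i, M i (τ.symm i) := fun M =>
    Finset.sum_congr rfl fun i _ => mul_perm_apply τ M i i
  have hsymm_fix : ∀ i, i ≠ τ.symm i := fun i e => hfix i ((congrArg τ e).trans (τ.apply_symm_apply i))
  have hT : (∑ i, A i (τ.symm i)) = ({a | R a (τ a)}.ncard : ℚ) := by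
    rw [← Equiv.sum_comp τ, ← hcount]
    refine Finset.sum_congr rfl fun i _ => ?_
    simp only [τ.symm_apply_apply, hA]
    exact if_congr ⟨hsymm _ _, hsymm _ _⟩ rfl rfl
  have e : (E * P).trace = (11 * ({a | R a (τ a)}.ncard : ℚ) - 2079) / 264 := by
    rw [htr, ← hT]
    simp only [hE, hJ, Matrix.smul_apply, Matrix.sub_apply, Matrix.add_apply, smul_eq_mul,
      Matrix.one_apply_ne (hsymm_fix _), mul_zero, add_zero, mul_one]
    rw [← Finset.mul_sum, Finset.sum_sub_distrib, ← Finset.mul_sum, Finset.sum_const, Finset.card_univ, hn,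
      nsmul_eq_mul]
    push_cast
    ring
  refine ⟨m, ?_⟩
  have : ((({a | R a (τ a)}.ncard : ℤ) : ℚ)) = ((24 * m + 189 : ℤ) : ℚ) := by
    push_cast
    rw [hm', e]
    ring
  exact_mod_cast this

theorem aut_iff (σ : Equiv.Perm α) (haut : ∀ a b, R a b → R (σ a) (σ b)) {n : ℕ} (hσ : σ ^ (n + 1) = 1) (a b : α) :
    R (σ a) (σ b) ↔ R a b := by
  refine ⟨fun h => ?_, haut a b⟩
  have hp : ∀ k : ℕ, ∀ a b, R a b → R ((σ ^ k) a) ((σ ^ k) b) := by
    intro k
    induction k with
    | zero => intro a b h; simpa using h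
    | succ k ih => intro a b h; rw [pow_succ', Equiv.Perm.mul_apply, Equiv.Perm.mul_apply]; exact haut _ _ (ih a b h)
  have h' := hp n _ _ h
  rwa [← Equiv.Perm.mul_apply, ← Equiv.Perm.mul_apply, ← pow_succ, hσ, Equiv.Perm.one_apply,
    Equiv.Perm.one_apply] at h'

theorem aut_pow (σ : Equiv.Perm α) (haut : ∀ a b, R (σ a) (σ b) ↔ R a b) (k : ℕ) (a b : α) :
    R ((σ ^ k) a) ((σ ^ k) b) ↔ R a b := by
  induction k with
  | zero => simp
  | succ k ih => rw [pow_succ', Equiv.Perm.mul_apply, Equiv.Perm.mul_apply, haut, ih]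

theorem adj_of_semiregular (R : α → α → Prop) (hsymm : ∀ a b, R a b → R b a) (hirr : ∀ a, ¬ R a a)
    (hn : Fintype.card α = 693) (hk : ∀ a, {b | R a b}.ncard = 180)
    (hl : ∀ a b, R a b → {c | R a c ∧ R b c}.ncard = 51)
    (hm : ∀ a b, a ≠ b → ¬ R a b → {c | R a c ∧ R b c}.ncard = 45)
    (σ : Equiv.Perm α) (hσ : σ ^ 77 = 1) (haut : ∀ a b, R a b → R (σ a) (σ b))
    (hfree : ∀ i, 0 < i → i < 77 → ∀ a, (σ ^ i) a ≠ a) :
    ∀ a i, 0 < i → i < 77 → R a ((σ ^ i) a) := by
  classical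
  intro a i hi hi'
  have hiff := aut_iff σ haut (n := 76) hσ
  set S : Finset α := Finset.univ.filter fun a => R a ((σ ^ i) a) with hS
  have hSc : {a | R a ((σ ^ i) a)}.ncard = S.card := by
    rw [Set.ncard_eq_toFinset_card', Set.toFinset_setOf]
  obtain ⟨m, hm'⟩ := count_congruence hsymm hirr hn hk hl hm (σ ^ i) (aut_pow σ hiff i)
    (by rw [← pow_mul, mul_comm, pow_mul, hσ, one_pow]) (hfree i hi hi')
  have hmem : ∀ j a, a ∈ S ↔ (σ ^ j) a ∈ S := by
    intro j a
    simp only [hS, Finset.mem_filter, Finset.mem_univ, true_and]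
    rw [← Equiv.Perm.mul_apply (σ ^ i), ← pow_add, add_comm i j, pow_add, Equiv.Perm.mul_apply, aut_pow σ hiff j]
  haveI : Fact (Nat.Prime 7) := ⟨by norm_num⟩
  haveI : Fact (Nat.Prime 11) := ⟨by norm_num⟩
  have h7 : 7 ∣ S.card := dvd_card_of_free (σ ^ 11) (by rw [← pow_mul]; exact hσ) S (hmem 11)
    fun a _ => hfree 11 (by norm_num) (by norm_num) a
  have h11 : 11 ∣ S.card := dvd_card_of_free (σ ^ 7) (by rw [← pow_mul]; exact hσ) S (hmem 7)
    fun a _ => hfree 7 (by norm_num) (by norm_num) a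
  have hle : S.card ≤ 693 := hn ▸ S.card_le_univ
  have hcard : S.card = Fintype.card α := by
    rw [hn]
    rw [hSc] at hm'
    omega
  have := Finset.eq_univ_of_card S hcard
  exact (Finset.mem_filter.1 (this ▸ Finset.mem_univ a : a ∈ S)).2

end Cfsg.Agent.ThreeTransp.U62Cent.SrgTrace
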