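import Cfsg.Agent.Lib.ThreeTransp.U62Cent.AutChoice
import Cfsg.Agent.Lib.ThreeTransp.U62Cent.AutInJSplit
import Cfsg.Agent.Lib.Classical.UnitarySimple
import Cfsg.Agent.S3230

/-!
# Recognition of `Aut U₆(2)`-type groups from the centraliser of an involution
-/

set_option autoImplicit false
set_option linter.unusedSectionVars false
set_option linter.style.haveILetI false
set_option maxRecDepth 100000

namespace Cfsg.Agent.ThreeTransp.U62Cent

open W8 Subgroup Cfsg.Agent.LargeExtra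
open scoped commutatorElement

universe u v w

variable {G : Type u} [Group G] [Finite G]

set_option maxHeartbeats 1600000 in
/-- The inner part of the centraliser maps onto `PSp₄(3)` with kernel the core. -/
theorem ACoord.exists_inner_hom {z : G} (M : ACoord z) {S : Type v} [Group S] [IsSimpleGroup S]
    (hS : Nat.card S = 25920) (hconj : Function.Injective (MulAut.conj : S →* MulAut S))
    (hidx : (MulAut.conj : S →* MulAut S).range.index = 2)
    (φ : ↥(centralizer ({z} : Set G)) →* MulAut S) (hφs : Function.Surjective φ)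
    (hφk : ∀ c, φ c = 1 ↔ (c : G) ∈ O2c z) :
    ∃ ψ : ↥M.inner →* S, Function.Surjective ψ ∧ ∀ x, ψ x = 1 ↔ (x : G) ∈ O2c z := by
  haveI : Finite S := Nat.finite_of_card_ne_zero (by omega)
  haveI : Finite (MulAut S) := Finite.of_injective (fun f : MulAut S => (f : S → S)) DFunLike.coe_injective
  let C := centralizer ({z} : Set G)
  let cj : S →* MulAut S := MulAut.conj
  -- the inner part corresponds to the inner automorphisms
  set A := (M.inner.subgroupOf C).map φ with hA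
  have hker : φ.ker ≤ M.inner.subgroupOf C := fun c hc => by
    refine mem_subgroupOf.2 (M.mem_inner.2 ⟨mem_cent.1 c.2, ?_⟩)
    rw [M.img_J ((hφk c).1 hc)]
    exact one_mem _
  have hA2 : A.index = 2 := by
    rw [hA, index_map_eq _ hφs hker, M.inner_index]
  have hcardN : Nat.card ↥cj.range = 25920 := by
    rw [← Nat.card_congr (MonoidHom.ofInjective hconj).toEquiv, hS]
  have hle : cj.range ≤ A := by
    haveI : Nontrivial ↥cj.range := (MonoidHom.ofInjective hconj).symm.toEquiv.nontrivial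
    haveI : IsSimpleGroup ↥cj.range :=
      IsSimpleGroup.isSimpleGroup_of_surjective cj.rangeRestrict cj.rangeRestrict_surjective
    haveI : A.Normal := normal_of_index_eq_two hA2
    rcases (Normal.subgroupOf (inferInstance : A.Normal) cj.range).eq_bot_or_eq_top with h | h
    · exfalso
      have h1 : (A.subgroupOf cj.range).index ∣ A.index := relIndex_dvd_index_of_normal A cj.range
      rw [h, index_bot, hcardN, hA2] at h1
      norm_num at h1
    · exact subgroupOf_eq_top.1 h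
  have heq : A = cj.range := by
    refine (eq_of_le_of_card_ge hle ?_).symm
    have e1 := A.card_mul_index
    have e2 := cj.range.card_mul_index
    rw [hA2] at e1
    rw [hidx] at e2
    omega
  let inc : ↥M.inner →* ↥C := Subgroup.inclusion M.inner_le
  have hmem : ∀ x, φ (inc x) ∈ cj.range := fun x => heq ▸ mem_map_of_mem φ (mem_subgroupOf.2 x.2)
  refine ⟨(MonoidHom.ofInjective hconj).symm.toMonoidHom.comp ((φ.comp inc).codRestrict cj.range hmem),
    fun s => ?_, fun x => ?_⟩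
  · have hs : cj s ∈ A := heq.symm ▸ ⟨s, rfl⟩
    obtain ⟨c, hc, e⟩ := hs
    refine ⟨⟨c, mem_subgroupOf.1 hc⟩, (MonoidHom.ofInjective hconj).symm_apply_eq.2 (Subtype.ext ?_)⟩
    exact e
  · show (MonoidHom.ofInjective hconj).symm _ = 1 ↔ _
    rw [map_eq_one_iff _ (MonoidHom.ofInjective hconj).symm.injective, ← Subtype.coe_inj]
    exact hφk (inc x)

theorem ACoord.not_mem_J {z : G} (M : ACoord z) {a : G} (ha : a ∈ cls z) (haJ : a ∈ O2c z) : a = z := by
  rcases M.shape with ⟨he, hN⟩ | hS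
  · exact M.nat_not_J hN he ha haJ
  · exact M.split_not_J hS ha haJ

set_option maxHeartbeats 1600000 in
/-- The second recognition theorem. -/
theorem aut_main (z : G) (hz : orderOf z = 2) {F : Type v} [Field F] [Fintype F] (hF : Fintype.card F = 3)
    {K : Type w} [Field K] [Fintype K] (hK : Fintype.card K = 4)
    (hJ : Cfsg.IsExtraspecial 2 ↥(Cfsg.pCore 2 ↥(centralizer ({z} : Set G))))
    (hJc : Nat.card ↥(Cfsg.pCore 2 ↥(centralizer ({z} : Set G))) = 2 ^ 9)
    (hCJ : centralizer ((Cfsg.pCore 2 ↥(centralizer ({z} : Set G))) : Set ↥(centralizer ({z} : Set G))) ≤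
      Cfsg.pCore 2 ↥(centralizer ({z} : Set G)))
    [hJn : (Cfsg.pCore 2 ↥(centralizer ({z} : Set G))).Normal]
    (e : (↥(centralizer ({z} : Set G)) ⧸ Cfsg.pCore 2 ↥(centralizer ({z} : Set G))) ≃* MulAut (Cfsg.PSp 2 F)) :
    (∃ G₀ : Subgroup G, G₀.index = 2 ∧ Nonempty (↥G₀ ≃* Cfsg.PSU 6 K 2) ∧ centralizer (G₀ : Set G) = ⊥) ∨
      centralizer ({z} : Set G) ⊔ Cfsg.oddCore G = ⊤ := by
  classical
  haveI : Fact (Nat.Prime 2) := ⟨Nat.prime_two⟩
  haveI : Fact (Nat.Prime 3) := ⟨Nat.prime_three⟩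
  obtain ⟨M⟩ := exists_acoord hz hF hK hJ hJc hCJ e
  obtain ⟨G0, hG0, hinf⟩ := M.exists_half fun _ ha haJ => M.not_mem_J ha haJ
  set C := centralizer ({z} : Set G) with hC
  set P := Cfsg.pCore 2 ↥C with hP
  -- the simple group of order 25920
  obtain ⟨e2⟩ := Cfsg.Agent.S0822.result (F := K) (K := F) hK hF
  haveI hU : IsSimpleGroup (Cfsg.PSU 4 K 2) :=
    Cfsg.Agent.Classical.Unitary.isSimpleGroup_PSU (by rw [hK]; norm_num) (by norm_num) (by norm_num)
  haveI : Nontrivial (Cfsg.PSp 2 F) := e2.symm.toEquiv.nontrivial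
  haveI hsimp : IsSimpleGroup (Cfsg.PSp 2 F) :=
    IsSimpleGroup.isSimpleGroup_of_surjective e2.toMonoidHom e2.surjective
  let φ : ↥C →* MulAut (Cfsg.PSp 2 F) := e.toMonoidHom.comp (QuotientGroup.mk' P)
  have hφs : Function.Surjective φ := e.surjective.comp (QuotientGroup.mk'_surjective P)
  have hφk : ∀ c : ↥C, φ c = 1 ↔ (c : G) ∈ O2c z := by
    intro c
    show e (QuotientGroup.mk' P c) = 1 ↔ _
    rw [map_eq_one_iff e e.injective, QuotientGroup.mk'_apply, QuotientGroup.eq_one_iff]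
    exact ⟨fun h => ⟨c, h, rfl⟩, fun ⟨d, hd, ed⟩ => (C.subtype_injective ed) ▸ hd⟩
  have hcardS : Nat.card (Cfsg.PSp 2 F) = 25920 := by
    have h1 := Cfsg.Agent.AutPSp.Count.card_mulAut (F := F) 3 1
      (by rw [Nat.card_eq_fintype_card, hF]; norm_num) le_rfl
    have h2 : Nat.card (MulAut (Cfsg.PSp 2 F)) = 51840 := by
      have hk : φ.ker = M.π.ker := by
        ext c; rw [MonoidHom.mem_ker, MonoidHom.mem_ker, hφk, M.ker]
      rw [← Nat.card_congr (QuotientGroup.quotientKerEquivOfSurjective φ hφs).toEquiv, hk,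
        Nat.card_congr (QuotientGroup.quotientKerEquivRange M.π).toEquiv, M.card_range]
    rw [h2] at h1
    norm_num [Nat.gcd_eq_left (show 2 ∣ 2 from dvd_rfl)] at h1
    rw [Nat.card_eq_fintype_card]
    omega
  have hconj : Function.Injective (MulAut.conj : Cfsg.PSp 2 F →* MulAut (Cfsg.PSp 2 F)) :=
    Cfsg.Agent.AutPSp.Count.conj_injective (by norm_num)
  have hcidx : (MulAut.conj : Cfsg.PSp 2 F →* MulAut (Cfsg.PSp 2 F)).range.index = 2 := by
    have h1 := (MulAut.conj : Cfsg.PSp 2 F →* MulAut (Cfsg.PSp 2 F)).range.card_mul_index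
    rw [← Nat.card_congr (MonoidHom.ofInjective hconj).toEquiv, hcardS,
      Cfsg.Agent.AutPSp.Count.card_mulAut (F := F) 3 1
        (by rw [Nat.card_eq_fintype_card, hF]; norm_num) le_rfl, hcardS] at h1
    norm_num at h1
    omega
  obtain ⟨ψ0, hψ0s, hψ0k⟩ := M.exists_inner_hom hcardS hconj hcidx φ hφs hφk
  -- the centraliser inside the half
  have hzin : z ∈ M.inner := M.z_mem_inner
  have hzG0 : z ∈ G0 := (hinf.ge hzin).1
  set z0 : ↥G0 := ⟨z, hzG0⟩ with hz0
  set C0 := centralizer ({z0} : Set ↥G0) with hC0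
  have hmemC0 : ∀ x : ↥G0, x ∈ C0 ↔ (x : G) ∈ M.inner := fun x => by
    rw [hC0, mem_centralizer_singleton_iff, ← hinf]
    exact ⟨fun h => ⟨x.2, mem_centralizer_singleton_iff.2 (congrArg Subtype.val h)⟩,
      fun h => Subtype.ext (mem_centralizer_singleton_iff.1 h.2)⟩
  let inc : ↥C0 →* ↥M.inner :=
    { toFun := fun x => ⟨((x : ↥G0) : G), (hmemC0 x.1).1 x.2⟩, map_one' := rfl, map_mul' := fun _ _ => rfl }
  let ψ : ↥C0 →* Cfsg.PSp 2 F := ψ0.comp inc
  have hψs : Function.Surjective ψ := fun s => by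
    obtain ⟨x, hx⟩ := hψ0s s
    exact ⟨⟨⟨x, (hinf.ge x.2).1⟩, (hmemC0 _).2 x.2⟩, hx⟩
  have hψk : ∀ x, ψ x = 1 ↔ ((x : ↥G0) : G) ∈ O2c z := fun x => hψ0k (inc x)
  have hJin : ∀ {y : G}, y ∈ O2c z → y ∈ M.inner := fun {y} hy =>
    M.mem_inner.2 ⟨commute_of_O2c hy, by rw [M.img_J hy]; exact one_mem _⟩
  let ι : ↥(O2c z) →* ↥C0 :=
    { toFun := fun y => ⟨⟨y, (hinf.ge (hJin y.2)).1⟩, (hmemC0 _).2 (hJin y.2)⟩
      map_one' := rfl
      map_mul' := fun _ _ => rfl }
  have hιi : Function.Injective ι := fun a b h =>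
    Subtype.ext (congrArg (fun q : ↥C0 => ((q : ↥G0) : G)) h)
  have hιr : ι.range = ψ.ker := by
    ext x
    rw [MonoidHom.mem_ker, hψk]
    exact ⟨fun ⟨y, hy⟩ => hy ▸ y.2, fun h => ⟨⟨_, h⟩, rfl⟩⟩
  let eJ : ↥(O2c z) ≃* ↥ψ.ker := (MonoidHom.ofInjective hιi).trans (MulEquiv.subgroupCongr hιr)
  have hP0 : Cfsg.pCore 2 ↥C0 = ψ.ker := by
    refine le_antisymm ?_ (Cfsg.Agent.Cores.le_pCore (M.ctr.pgroup.of_equiv eJ))
    intro c hc
    haveI : ((Cfsg.pCore 2 ↥C0).map ψ).Normal := Normal.map inferInstance ψ hψs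
    have hbot : (Cfsg.pCore 2 ↥C0).map ψ = ⊥ := by
      refine (inferInstance : ((Cfsg.pCore 2 ↥C0).map ψ).Normal).eq_bot_or_eq_top.resolve_right fun h => ?_
      have hp := (Cfsg.Agent.Cores.pCore_isPGroup (G := ↥C0) 2).map ψ
      rw [h] at hp
      haveI : Finite (Cfsg.PSp 2 F) := Nat.finite_of_card_ne_zero (by omega)
      obtain ⟨k, hk⟩ := IsPGroup.iff_card.1 (hp.of_equiv Subgroup.topEquiv)
      rw [hcardS] at hk
      have : 3 ∣ 2 ^ k := hk ▸ ⟨8640, by norm_num⟩
      exact absurd (Nat.Prime.dvd_of_dvd_pow Nat.prime_three this) (by norm_num)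
    have h := mem_map_of_mem ψ hc
    rwa [hbot, mem_bot] at h
  let em : ↥P ≃* ↥(O2c z) := P.equivMapOfInjective C.subtype C.subtype_injective
  let eP : ↥P ≃* ↥(Cfsg.pCore 2 ↥C0) := (em.trans eJ).trans (MulEquiv.subgroupCongr hP0.symm)
  have hCJ0 : centralizer ((Cfsg.pCore 2 ↥C0 : Subgroup ↥C0) : Set ↥C0) ≤ Cfsg.pCore 2 ↥C0 := by
    intro x hx
    rw [hP0, MonoidHom.mem_ker, hψk]
    refine (M.ctr.cent.trans_le (zpowers_le.2 M.z_mem)) (mem_centralizer_iff.2 fun y hy => ?_)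
    have h1 : ι ⟨y, hy⟩ ∈ Cfsg.pCore 2 ↥C0 := by
      rw [hP0, MonoidHom.mem_ker, hψk]
      exact hy
    exact congrArg (fun q : ↥C0 => ((q : ↥G0) : G)) (mem_centralizer_iff.1 hx _ h1)
  have hz0o : orderOf z0 = 2 := by rw [← Subgroup.orderOf_coe]; exact hz
  haveI : (Cfsg.pCore 2 ↥C0).Normal := inferInstance
  haveI hG0n : G0.Normal := normal_of_index_eq_two hG0
  rcases Cfsg.Agent.S3230.result z0 hz0o hF hK (isExtraspecial_of_equiv hJ eP)
    (by rw [← Nat.card_congr eP.toEquiv, hJc]) hCJ0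
    ((QuotientGroup.quotientMulEquivOfEq hP0).trans (QuotientGroup.quotientKerEquivOfSurjective ψ hψs)) with
    ⟨⟨eU⟩⟩ | h
  · refine Or.inl ⟨G0, hG0, ⟨eU⟩, eq_bot_iff.2 fun x hx => ?_⟩
    have hxz : x ∈ zpowers z := by
      rw [← M.ctr.cent]
      exact mem_centralizer_iff.2 fun y hy => mem_centralizer_iff.1 hx y (hinf.ge (hJin hy)).1
    have hzc : z ∉ centralizer (G0 : Set G) := by
      intro hzc
      haveI : IsSimpleGroup (Cfsg.PSU 6 K 2) :=
        Cfsg.Agent.Classical.Unitary.isSimpleGroup_PSU (by rw [hK]; norm_num) (by norm_num) (by norm_num)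
      haveI : Nontrivial ↥G0 := eU.toEquiv.nontrivial
      haveI : IsSimpleGroup ↥G0 :=
        IsSimpleGroup.isSimpleGroup_of_surjective eU.symm.toMonoidHom eU.symm.surjective
      rcases (inferInstance : (center ↥G0).Normal).eq_bot_or_eq_top with h | h
      · have hz0c : z0 ∈ center ↥G0 := mem_center_iff.2 fun y =>
          Subtype.ext (mem_centralizer_iff.1 hzc y y.2)
        rw [h, mem_bot] at hz0c
        exact M.ne_one (congrArg Subtype.val hz0c)
      · obtain ⟨u, -, hu⟩ := (N.nondeg (W8.mk 1)).resolve_left (by decide +kernel)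
        have hl := fun w : W8 => (hinf.ge (hJin (M.lift_mem w))).1
        have hc : Commute (⟨_, hl u⟩ : ↥G0) ⟨_, hl (W8.mk 1)⟩ :=
          (mem_center_iff.1 (h ▸ mem_top _ : (⟨_, hl (W8.mk 1)⟩ : ↥G0) ∈ center ↥G0) ⟨_, hl u⟩)
        have := M.bb_of_commute (M.lift_mem u) (M.lift_mem (W8.mk 1)) (congrArg Subtype.val hc).symm
        rw [M.vec_lift, M.vec_lift, hu] at this
        exact absurd this (by decide)
    rw [mem_zpowers_iff] at hxz
    obtain ⟨k, rfl⟩ := hxz
    rcases Int.even_or_odd k with ⟨m, rfl⟩ | ⟨m, rfl⟩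
    · rw [mem_bot, zpow_add, ← (Commute.refl z).mul_zpow, M.zz, one_zpow]
    · refine absurd ?_ hzc
      rw [zpow_add, zpow_mul, zpow_one, show z ^ (2 : ℤ) = 1 by
        rw [zpow_two, M.zz], one_zpow, one_mul] at hx
      exact hx
  · refine Or.inr ?_
    have hO : (Cfsg.oddCore ↥G0).map G0.subtype ≤ Cfsg.oddCore G :=
      Cfsg.Agent.Cores.map_pPrimeCore_subtype_le 2 G0
    have hC0C : C0.map G0.subtype ≤ C := by
      rintro _ ⟨x, hx, rfl⟩
      exact M.inner_le ((hmemC0 x).1 hx)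
    have hle : G0 ≤ C ⊔ Cfsg.oddCore G := by
      have h' := congrArg (fun L : Subgroup ↥G0 => L.map G0.subtype) h
      simp only [Subgroup.map_sup, ← MonoidHom.range_eq_map, range_subtype] at h'
      rw [← h']
      exact sup_le_sup hC0C hO
    refine index_eq_one.1 ?_
    have h1 := relIndex_mul_index hle
    rw [hG0] at h1
    rcases (Nat.dvd_prime Nat.prime_two).1 ⟨_, h1.symm⟩ with h2 | h2
    · exfalso
      have hge : C ⊔ Cfsg.oddCore G ≤ G0 := relIndex_eq_one.1 h2
      have h3 : M.inner = C := by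
        rw [← hinf]
        exact inf_eq_right.2 (le_sup_left.trans hge)
      have h4 := M.inner_index
      rw [h3, subgroupOf_self, index_top] at h4
      norm_num at h4
    · rw [h2] at h1
      omega

end Cfsg.Agent.ThreeTransp.U62Cent
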