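import Mathlib.GroupTheory.Transfer
import Mathlib.GroupTheory.PGroup

/-!
A subgroup of index two avoiding `u`, by transfer from the centralizer of an involution `z` all whose
conjugates in that centralizer lie in a subgroup of index two not containing `u`.
-/

set_option autoImplicit false
set_option linter.style.haveILetI false

namespace Cfsg.Agent.ThreeTransp.U62Cent.TransferTwo

open Subgroup MulAction

variable {G : Type*} [Group G]

/-- The character of a group with kernel a subgroup of index two. -/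
noncomputable def sgn {C : Subgroup G} (H : Subgroup G) (hidx : (H.subgroupOf C).index = 2) :
    ↥C →* ℤˣ := by
  classical
  exact
    { toFun := fun c => if (c : G) ∈ H then 1 else -1
      map_one' := if_pos H.one_mem
      map_mul' := fun a b => by
        have h := mul_mem_iff_of_index_two hidx (a := a) (b := b)
        simp only [mem_subgroupOf] at h
        by_cases ha : (a : G) ∈ H <;> by_cases hb : (b : G) ∈ H <;> simp_all }

theorem sgn_eq_one {C : Subgroup G} {H : Subgroup G} (hidx : (H.subgroupOf C).index = 2)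
    {c : ↥C} (h : (c : G) ∈ H) : sgn H hidx c = 1 := by simp [sgn, h]

theorem sgn_eq_neg {C : Subgroup G} {H : Subgroup G} (hidx : (H.subgroupOf C).index = 2)
    {c : ↥C} (h : (c : G) ∉ H) : sgn H hidx c = -1 := by simp [sgn, h]

/-- At such an element the transfer agrees with the character. -/
theorem transfer_eq {G : Type*} [Group G] [Finite G] {z u : G} (hz : orderOf z = 2)
    {H0 : Subgroup G}
    (hidx : (H0.subgroupOf (Subgroup.centralizer ({z} : Set G))).index = 2)
    (huz : Commute u z) (hu2 : u * u = 1 ∨ u * u = z)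
    (hmem : u * u = z → ∀ g : G, Commute (g * z * g⁻¹) z → g * z * g⁻¹ ∈ H0)
    {P : Subgroup G} (hP : IsPGroup 2 ↥P) (hPu : ∀ p ∈ P, Commute p u)
    (hPz : ∀ p ∈ P, Commute p z)
    (hfix : ∀ g : G, Commute (g * z * g⁻¹) u → (∀ p ∈ P, Commute (g * z * g⁻¹) p) →
      g * z * g⁻¹ = z) :
    MonoidHom.transfer (sgn H0 hidx) u =
      sgn H0 hidx ⟨u, mem_centralizer_singleton_iff.2 huz.eq⟩ := by
  classical
  set C := centralizer ({z} : Set G) with hC
  set χ := sgn H0 hidx with hχ
  have hz2 : z * z = 1 := by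
    have := pow_orderOf_eq_one z
    rwa [hz, pow_two] at this
  have hu4 : u ^ 4 = 1 := by
    rw [show (4 : ℕ) = 2 * 2 from rfl, pow_mul, pow_two u]
    rcases hu2 with h | h <;> rw [h, pow_two]
    · exact one_mul 1
    · exact hz2
  -- membership in `C` of a conjugate means commuting with the conjugate of `z`
  have hmemC : ∀ a g : G, g⁻¹ * a * g ∈ C ↔ Commute (g * z * g⁻¹) a := by
    intro a g
    rw [hC, mem_centralizer_singleton_iff, commute_iff_eq]
    constructor <;> intro h
    · calc g * z * g⁻¹ * a = g * (z * (g⁻¹ * a * g)) * g⁻¹ := by group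
        _ = g * (g⁻¹ * a * g * z) * g⁻¹ := by rw [h]
        _ = a * (g * z * g⁻¹) := by group
    · calc g⁻¹ * a * g * z = g⁻¹ * (a * (g * z * g⁻¹)) * g := by group
        _ = g⁻¹ * (g * z * g⁻¹ * a) * g := by rw [h]
        _ = z * (g⁻¹ * a * g) := by group
  have hfixq : ∀ a g : G, a • (g : G ⧸ C) = g ↔ g⁻¹ * a * g ∈ C := by
    intro a g
    rw [Quotient.smul_mk, smul_eq_mul, QuotientGroup.eq, ← inv_mem_iff]
    simp [mul_assoc]
  -- the predicate on cosets counted by the transfer
  let Q : G → Prop := fun g => g⁻¹ * u * g ∈ C ∧ g⁻¹ * u * g ∉ H0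
  have hQc : ∀ g c : G, c ∈ C → Q g → Q (g * c) := by
    rintro g c hc ⟨h1, h2⟩
    have e : (g * c)⁻¹ * u * (g * c) = c⁻¹ * (g⁻¹ * u * g) * c := by group
    have hm : c⁻¹ * (g⁻¹ * u * g) * c ∈ C := mul_mem (mul_mem (inv_mem hc) h1) hc
    refine ⟨e ▸ hm, fun h => h2 ?_⟩
    rw [e] at h
    have m1 := mul_mem_iff_of_index_two hidx (a := ⟨c, hc⟩⁻¹ * ⟨_, h1⟩) (b := ⟨c, hc⟩)
    have m2 := mul_mem_iff_of_index_two hidx (a := (⟨c, hc⟩ : C)⁻¹) (b := ⟨_, h1⟩)
    simp only [mem_subgroupOf, Subgroup.coe_mul, Subgroup.coe_inv, inv_mem_iff] at m1 m2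
    tauto
  let A := {x : G ⧸ C // ∃ g : G, (g : G ⧸ C) = x ∧ Q g}
  have hA : ∀ g : G, (∃ g' : G, (g' : G ⧸ C) = (g : G ⧸ C) ∧ Q g') ↔ Q g := by
    refine fun g => ⟨?_, fun h => ⟨g, rfl, h⟩⟩
    rintro ⟨g', e, h⟩
    have := hQc g' _ (QuotientGroup.eq.1 e) h
    rwa [mul_inv_cancel_left] at this
  -- `P` acts on this set of cosets with at most one fixed point
  have hpar : u ∈ H0 ∧ Even (Nat.card A) ∨ u ∉ H0 ∧ Odd (Nat.card A) := by
    letI : MulAction ↥P A :=
      { smul := fun p x => ⟨(p : G) • x.1, by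
          obtain ⟨g, e, h⟩ := x.2
          refine ⟨(p : G) * g, by rw [← e, Quotient.smul_mk, smul_eq_mul], ?_⟩
          have e' : ((p : G) * g)⁻¹ * u * ((p : G) * g) = g⁻¹ * u * g := by
            calc ((p : G) * g)⁻¹ * u * ((p : G) * g)
                = g⁻¹ * ((p : G)⁻¹ * (u * p)) * g := by group
              _ = g⁻¹ * ((p : G)⁻¹ * (p * u)) * g := by rw [(hPu p p.2).eq]
              _ = g⁻¹ * u * g := by group
          show _ ∧ _
          rw [e']
          exact h⟩
        one_smul := fun x => Subtype.ext (one_smul G x.1)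
        mul_smul := fun a b x => Subtype.ext (mul_smul (a : G) (b : G) x.1) }
    have huC : (1 : G)⁻¹ * u * 1 ∈ C := by simpa [hC, mem_centralizer_singleton_iff] using huz.eq
    have hfp : ∀ x : A, x ∈ fixedPoints ↥P A → x.1 = ((1 : G) : G ⧸ C) := by
      intro x h
      obtain ⟨g, e, hg⟩ := x.2
      have hz' := hfix g ((hmemC u g).1 hg.1) fun p hp => (hmemC p g).1 <| (hfixq p g).1 <| by
        rw [e]
        exact congrArg Subtype.val (mem_fixedPoints.1 h ⟨p, hp⟩)
      rw [← e, QuotientGroup.eq, mul_one, inv_mem_iff, hC, mem_centralizer_singleton_iff]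
      exact mul_inv_eq_iff_eq_mul.1 hz'
    by_cases hu0 : u ∈ H0
    · refine Or.inl ⟨hu0, ?_⟩
      have hnone : fixedPoints ↥P A = ∅ := by
        refine Set.eq_empty_of_forall_notMem fun x h => ?_
        obtain ⟨g, e, hg⟩ := x.2
        exact ((hA 1).1 ⟨g, e.trans (hfp x h), hg⟩).2 (by simpa using hu0)
      have h := hP.card_modEq_card_fixedPoints A
      rw [hnone, Nat.card_coe_set_eq, Set.ncard_empty] at h
      exact Nat.even_iff.2 h
    refine Or.inr ⟨hu0, ?_⟩
    have hQ1 : Q 1 := ⟨huC, by simpa using hu0⟩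
    let x0 : A := ⟨((1 : G) : G ⧸ C), 1, rfl, hQ1⟩
    have hone : fixedPoints ↥P A = {x0} := by
      ext x
      rw [mem_fixedPoints, Set.mem_singleton_iff]
      constructor
      · exact fun h => Subtype.ext (hfp x (mem_fixedPoints.2 h))
      · rintro rfl p
        refine Subtype.ext ((hfixq (p : G) 1).2 ?_)
        simpa [hC, mem_centralizer_singleton_iff] using (hPz p p.2).eq
    have h := hP.card_modEq_card_fixedPoints A
    rw [hone, Nat.card_coe_set_eq, Set.ncard_singleton] at h
    exact Nat.odd_iff.2 h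
  -- the transfer
  letI := C.fintypeQuotientOfFiniteIndex
  haveI : Fintype (Quotient (orbitRel (zpowers u) (G ⧸ C))) := Fintype.ofFinite _
  have hV : MonoidHom.transfer χ u = (-1) ^ Nat.card A := by
    rw [MonoidHom.transfer_eq_prod_quotient_orbitRel_zpowers_quot]
    let Bad : Quotient (orbitRel (zpowers u) (G ⧸ C)) → Prop := fun q =>
      u • q.out = q.out ∧ q.out.out⁻¹ * u * q.out.out ∉ H0
    rw [Finset.prod_congr rfl (g := fun q => if Bad q then (-1 : ℤˣ) else 1) fun q _ => ?val,
      Finset.prod_ite, Finset.prod_const, Finset.prod_const_one, mul_one]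
    case val =>
      set k := Function.minimalPeriod (u • ·) q.out with hk
      set b := q.out.out with hb
      have hb' : (b : G ⧸ C) = q.out := q.out.out_eq
      have hCk : b⁻¹ * u ^ k * b ∈ C := QuotientGroup.out_conj_pow_minimalPeriod_mem C u q.out
      have hdvd : k ∣ 4 := Function.IsPeriodicPt.minimalPeriod_dvd <| by
        show (u • ·)^[4] q.out = q.out
        rw [smul_iterate]
        show u ^ 4 • q.out = q.out
        rw [hu4, one_smul]
      by_cases hk1 : k = 1
      · have hfx : u • q.out = q.out := Function.minimalPeriod_eq_one_iff_isFixedPt.1 hk1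
        by_cases hH : b⁻¹ * u * b ∈ H0
        · rw [if_neg fun h => h.2 hH]
          exact sgn_eq_one hidx (by show b⁻¹ * u ^ k * b ∈ H0; rw [hk1, pow_one]; exact hH)
        · rw [if_pos ⟨hfx, hH⟩]
          exact sgn_eq_neg hidx (by show b⁻¹ * u ^ k * b ∉ H0; rw [hk1, pow_one]; exact hH)
      · rw [if_neg fun h => hk1 (Function.minimalPeriod_eq_one_iff_isFixedPt.2 h.1)]
        refine sgn_eq_one hidx ?_
        show b⁻¹ * u ^ k * b ∈ H0
        have h4 : k ≤ 4 := Nat.le_of_dvd (by norm_num) hdvd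
        interval_cases k
        · simp
        · exact absurd rfl hk1
        · rcases hu2 with h | h
          · rw [pow_two, h]; simp
          · rw [pow_two, h] at hCk ⊢
            have := hmem h b⁻¹ (by
              rw [inv_inv, commute_iff_eq]
              exact mem_centralizer_singleton_iff.1 hCk)
            rwa [inv_inv] at this
        · norm_num at hdvd
        · simp [hu4]
    have hbij : Nat.card {q // Bad q} = Nat.card A := by
      refine Nat.card_eq_of_bijective (fun q => ⟨q.1.out, q.1.out.out, q.1.out.out_eq, ?_, q.2.2⟩)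
        ⟨fun a b h => Subtype.ext (Quotient.out_injective (congrArg Subtype.val h)), ?_⟩
      · exact (hfixq u _).1 (by rw [QuotientGroup.out_eq']; exact q.2.1)
      · rintro ⟨x, g, e, hg⟩
        have hux : u • x = x := by rw [← e]; exact (hfixq u g).2 hg.1
        obtain ⟨⟨a, ha⟩, hax⟩ := Quotient.exact
          (Quotient.out_eq (Quotient.mk (orbitRel (zpowers u) (G ⧸ C)) x))
        obtain ⟨n, rfl⟩ := mem_zpowers_iff.1 ha
        have hx : (Quotient.mk (orbitRel (zpowers u) (G ⧸ C)) x).out = x := by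
          rw [← hax]
          exact zpow_mem (K := stabilizer G x) hux n
        refine ⟨⟨Quotient.mk (orbitRel (zpowers u) (G ⧸ C)) x,
          (congrArg (u • ·) hx).trans (hux.trans hx.symm), fun h => ?_⟩, Subtype.ext hx⟩
        have h2 := congrArg (fun y : G ⧸ C => y.out⁻¹ * u * y.out) hx
        exact ((hA x.out).1 ⟨g, e.trans x.out_eq.symm, hg⟩).2 (h2 ▸ h)
    rw [← Fintype.card_subtype, ← Nat.card_eq_fintype_card, hbij]
  rcases hpar with ⟨h, hA'⟩ | ⟨h, hA'⟩
  · rw [hV, hA'.neg_one_pow]
    exact (sgn_eq_one hidx h).symm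
  · rw [hV, hA'.neg_one_pow]
    exact (sgn_eq_neg hidx h).symm

/-- A subgroup of index two avoiding `u` and containing every element of `H0` of the same kind. -/
theorem exists_index_two {G : Type*} [Group G] [Finite G] {z u : G} (hz : orderOf z = 2)
    {H0 : Subgroup G}
    (hidx : (H0.subgroupOf (Subgroup.centralizer ({z} : Set G))).index = 2)
    (huz : Commute u z) (hu0 : u ∉ H0) (hu2 : u * u = 1 ∨ u * u = z)
    (hmem : u * u = z → ∀ g : G, Commute (g * z * g⁻¹) z → g * z * g⁻¹ ∈ H0)
    {P : Subgroup G} (hP : IsPGroup 2 ↥P) (hPu : ∀ p ∈ P, Commute p u)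
    (hPz : ∀ p ∈ P, Commute p z)
    (hfix : ∀ g : G, Commute (g * z * g⁻¹) u → (∀ p ∈ P, Commute (g * z * g⁻¹) p) →
      g * z * g⁻¹ = z) :
    ∃ G0 : Subgroup G, G0.index = 2 ∧ u ∉ G0 ∧
      ∀ j ∈ H0, j * j = 1 → Commute j z → ∀ Q : Subgroup G, IsPGroup 2 ↥Q →
        (∀ p ∈ Q, Commute p j) → (∀ p ∈ Q, Commute p z) →
        (∀ g : G, Commute (g * z * g⁻¹) j → (∀ p ∈ Q, Commute (g * z * g⁻¹) p) →
          g * z * g⁻¹ = z) → j ∈ G0 := by
  classical
  have hV := transfer_eq hz hidx huz hu2 hmem hP hPu hPz hfix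
  rw [sgn_eq_neg hidx hu0] at hV
  set V := MonoidHom.transfer (sgn H0 hidx)
  refine ⟨V.ker, ?_, ?_, fun j hj hj2 hjz Q hQ h1 h2 h3 => ?_⟩
  · have hsurj : Function.Surjective V := by
      intro a
      rcases Int.units_eq_one_or a with rfl | rfl
      · exact ⟨1, map_one _⟩
      · exact ⟨u, hV⟩
    rw [Subgroup.index_ker, MonoidHom.range_eq_top.2 hsurj]
    simp [Nat.card_eq_fintype_card]
  · rw [MonoidHom.mem_ker, hV]
    decide
  · have hj1 : j * j = z → False := fun e => by
      rw [hj2] at e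
      rw [← e, orderOf_one] at hz
      norm_num at hz
    rw [MonoidHom.mem_ker,
      transfer_eq hz hidx hjz (Or.inl hj2) (fun e => (hj1 e).elim) hQ h1 h2 h3]
    exact sgn_eq_one hidx hj

end Cfsg.Agent.ThreeTransp.U62Cent.TransferTwo
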