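import Cfsg.Agent.Lib.ThreeTransp.U62Cent.AutInJNat

/-!
# Split shape: no member acts on the six-part as a transvection (automorphism group case)
-/

set_option autoImplicit false
set_option linter.unusedSectionVars false
set_option maxRecDepth 100000

namespace Cfsg.Agent.ThreeTransp.U62Cent

open W8 Subgroup Cfsg.Agent.LargeExtra

universe u

namespace S

theorem one_facts : W8.mk 1 ∈ six ∧ W8.mk 2 ∈ six ∧ rfx (W8.mk 1) (W8.mk 2) + W8.mk 2 = W8.mk 1 ∧
    qe true (W8.mk 1) = true ∧ W8.mk 1 ≠ 0 ∧ bb (W8.mk 2) (W8.mk 1) = true := by decide +kernel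

theorem one_pair : W8.mk 4 ∈ six ∧ W8.mk 8 ∈ six ∧ bb (W8.mk 4) (W8.mk 1) = false ∧
    bb (W8.mk 8) (W8.mk 1) = false ∧ bb (W8.mk 4) (W8.mk 8) = true := by decide +kernel

theorem rep_pairs : (∃ d ∈ six, ∃ d' ∈ six, a0 d = d ∧ a0 d' = d' ∧ bb d d' = true) ∧
    ∃ d ∈ six, ∃ d' ∈ six, a1 d = d ∧ a1 d' = d' ∧ bb d d' = true := by decide +kernel

theorem plane_pair : W8.mk 64 ∈ vecs [0, 64, 128, 192] ∧ W8.mk 128 ∈ vecs [0, 64, 128, 192] ∧
    bb (W8.mk 64) (W8.mk 128) = true := by decide +kernel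

end S

variable {G : Type u} [Group G]

namespace ACoord

variable [Finite G] {z : G} (M : ACoord z)

include M

theorem nonabelian_of_Kset {b : G} (hb : Commute b z) {v w : W8} (hv : v ∈ M.Kset b) (hw : w ∈ M.Kset b)
    (hvw : bb v w = true) : ∃ x ∈ Ja z b, ∃ y ∈ Ja z b, ¬ Commute x y := by
  refine ⟨M.lift v, (M.mem_Ja_iff hb (M.lift_mem v)).2 (by rwa [M.vec_lift]),
    M.lift w, (M.mem_Ja_iff hb (M.lift_mem w)).2 (by rwa [M.vec_lift]), fun hc => ?_⟩
  have := M.bb_of_commute (M.lift_mem w) (M.lift_mem v) hc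
  rw [M.vec_lift, M.vec_lift, hvw] at this
  exact absurd this (by decide)

/-- A hyperplane of a nondegenerate fixed four-space is not isotropic. -/
theorem nonabelian_of_four {b : G} (hb : Commute b z) {p p' d d' : W8} (hp : M.img b p = p)
    (hp' : M.img b p' = p') (hd : M.img b d = d) (hd' : M.img b d' = d') (hpp : bb p p' = true)
    (hdd : bb d d' = true) (h1 : bb p d = false) (h2 : bb p d' = false) (h3 : bb p' d = false)
    (h4 : bb p' d' = false) : ∃ x ∈ Ja z b, ∃ y ∈ Ja z b, ¬ Commute x y := by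
  have key : ∀ {q : W8}, M.img b q = q → M.phi b q = true → bb q d = false → bb q d' = false →
      ∃ x ∈ Ja z b, ∃ y ∈ Ja z b, ¬ Commute x y := by
    intro q hq hpq hqd hqd'
    have hqq : bb q q = false := by
      have := qe_add M.e q q
      rw [W8.add_self] at this
      revert this
      rw [show qe M.e (0 : W8) = false by cases M.e <;> decide +kernel]
      cases qe M.e q <;> simp
    cases hd1 : M.phi b d <;> cases hd2 : M.phi b d'
    · exact M.nonabelian_of_Kset hb ⟨hd, hd1⟩ ⟨hd', hd2⟩ hdd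
    · refine M.nonabelian_of_Kset hb ⟨hd, hd1⟩ (w := d' + q)
        ⟨by rw [M.img_add, hd', hq], by rw [M.phi_add hb hd' hq, hd2, hpq]; rfl⟩ ?_
      rw [bb_add_right, hdd, bb_comm d q, hqd]
      rfl
    · refine M.nonabelian_of_Kset hb (v := d + q)
        ⟨by rw [M.img_add, hd, hq], by rw [M.phi_add hb hd hq, hd1, hpq]; rfl⟩ ⟨hd', hd2⟩ ?_
      rw [bb_add_left, hdd, hqd']
      rfl
    · refine M.nonabelian_of_Kset hb (v := d + q)
        ⟨by rw [M.img_add, hd, hq], by rw [M.phi_add hb hd hq, hd1, hpq]; rfl⟩ (w := d' + q)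
        ⟨by rw [M.img_add, hd', hq], by rw [M.phi_add hb hd' hq, hd2, hpq]; rfl⟩ ?_
      rw [bb_add_left, bb_add_right, bb_add_right, hdd, hqd', hqq, bb_comm d q, hqd]
      rfl
  cases hp1 : M.phi b p
  · cases hp2 : M.phi b p'
    · exact M.nonabelian_of_Kset hb ⟨hp, hp1⟩ ⟨hp', hp2⟩ hpp
    · exact key hp' hp2 h3 h4
  · exact key hp hp1 h1 h2

/-- The inner members have nonabelian centralisers in the core. -/
theorem split_inner_nonabelian (hS : ISplit M.I) {b : G} (hb : Mem z b) (hI : M.img b ∈ M.I) :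
    ∃ x ∈ Ja z b, ∃ y ∈ Ja z b, ¬ Commute x y := by
  by_cases h1 : M.img b = 1
  · have hbJ := (M.img_eq_one hb.comm).1 h1
    exact M.Ja_J_nonabelian hbJ (M.J_facts hb.cls hbJ hb.ne).2.1
  obtain ⟨y, hy, hc⟩ := hS.classes hI (M.img_sq hb) h1
  obtain ⟨d, hd, d', hd', e, e', hdd⟩ : ∃ d ∈ six, ∃ d' ∈ six,
      (y * M.img b * y⁻¹ : Equiv.Perm W8) d = d ∧ (y * M.img b * y⁻¹ : Equiv.Perm W8) d' = d' ∧
      bb d d' = true := by
    rcases hc with hc | hc
    · simpa only [hc] using S.rep_pairs.1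
    · simpa only [hc] using S.rep_pairs.2
  have hyi := hS.le (inv_mem hy)
  have hfix : ∀ {x : W8}, (y * M.img b * y⁻¹ : Equiv.Perm W8) x = x → M.img b (y⁻¹ x) = y⁻¹ x := by
    intro x hx
    conv_rhs => rw [← hx]
    simp
  have hpl : ∀ {p x : W8}, p ∈ vecs [0, 64, 128, 192] → x ∈ six → bb p (y⁻¹ x) = false := by
    intro p x hp hx
    rw [← hS.fix_plane (inv_mem hy) hp, hyi.1.bb, bb_comm]
    exact S.plane_bb x hx p hp
  obtain ⟨hp, hp', hpp⟩ := S.plane_pair
  exact M.nonabelian_of_four hb.comm (hS.fix_plane hI hp) (hS.fix_plane hI hp') (hfix e) (hfix e') hpp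
    ((hyi.1.bb d d').trans hdd) (hpl hp hd) (hpl hp hd') (hpl hp' hd) (hpl hp' hd')

/-- In the split shape no member induces a transvection on the six-part. -/
theorem split_transvection_false (hS : ISplit M.I) {a : G} (h : Mem z a) (hout : M.img a ∉ M.I)
    (hr : ∀ d ∈ six, M.img a d = rfx (W8.mk 1) d) : False := by
  obtain ⟨h1, h2, h12, hq1, -, -⟩ := S.one_facts
  obtain ⟨h4, h8, b4, b8, b48⟩ := S.one_pair
  have hphi1 : M.phi a (W8.mk 1) = true := by
    have := M.phi_comm h (W8.mk 2)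
    rw [hr _ h2, h12, qe_six M.e _ h1, hq1] at this
    exact this
  have hf1 : M.img a (W8.mk 1) = W8.mk 1 := by
    rw [hr _ h1]
    decide +kernel
  have hfix : ∀ {d : W8}, d ∈ six → bb d (W8.mk 1) = false → M.img a d = d := fun {d} hd hb => by
    rw [hr _ hd, rfx, hb]
    simp
  -- the centraliser of the member in the core is not abelian
  obtain ⟨x, hx, y, hy, hxy⟩ : ∃ x ∈ Ja z a, ∃ y ∈ Ja z a, ¬ Commute x y := by
    have hadj : ∀ {d : W8}, d ∈ six → bb d (W8.mk 1) = false →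
        d + (if M.phi a d then W8.mk 1 else 0) ∈ M.Kset a := by
      intro d hd hb
      cases hp : M.phi a d
      · simp only [Bool.false_eq_true, if_false, add_zero]
        exact ⟨hfix hd hb, hp⟩
      · rw [if_pos rfl]
        exact ⟨by rw [M.img_add, hfix hd hb, hf1],
          by rw [M.phi_add h.comm (hfix hd hb) hf1, hp, hphi1]; rfl⟩
    refine M.nonabelian_of_Kset h.comm (hadj h4 b4) (hadj h8 b8) ?_
    cases M.phi a (W8.mk 4) <;> cases M.phi a (W8.mk 8) <;> decide +kernel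
  obtain ⟨g, b, hg, hb, hmb⟩ := M.flip' h
  by_cases hbI : M.img b ∈ M.I
  · obtain ⟨x', hx', y', hy', hxy'⟩ := M.split_inner_nonabelian hS hmb hbI
    exact hxy' (M.abelian_of_outer hg hb hout hx' hy')
  · refine hxy (M.abelian_of_outer (g := g⁻¹) (a := b) (b := a) ?_ ?_ hbI hx hy)
    · rw [← hb]; group
    · rw [← hg]; group

end ACoord

end Cfsg.Agent.ThreeTransp.U62Cent
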