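import Cfsg.Agent.Lib.ThreeTransp.U62Cent.AutNatOuter
import Cfsg.Agent.Lib.ThreeTransp.U62Cent.AutSplitOuter
import Cfsg.Agent.Lib.ThreeTransp.U62Cent.TransferTwo

/-!
# The subgroup of index two (automorphism group case)
-/

set_option autoImplicit false
set_option linter.unusedSectionVars false
set_option maxRecDepth 100000

namespace Cfsg.Agent.ThreeTransp.U62Cent

open W8 Subgroup Cfsg.Agent.LargeExtra
open scoped commutatorElement

universe u

namespace N

/-- a semilinear isometry with totally singular fixed space -/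
def tau0 (v : W8) : W8 := app (vecs [4, 12, 1, 3, 64, 192, 16, 48]) v

theorem tau0_spec : ∀ v : W8, tau0 (tau0 v) = v ∧ qe true (tau0 v) = qe true v ∧
    tau0 (W8.sig v) = W8.sig (W8.sig (tau0 v)) ∧ (tau0 v = v → qe true v = false) ∧
    (W8.sig (tau0 v) = v → qe true v = false) ∧ (W8.sig (W8.sig (tau0 v)) = v → qe true v = false) := by
  decide +kernel

theorem tau0_add (v w : W8) : tau0 (v + w) = tau0 v + tau0 w := app_add _ v w

end N

namespace S

theorem one_perp : ∀ d ∈ six, (∀ v ∈ six, bb v (W8.mk 1) = false → bb d v = false) →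
    d = 0 ∨ d = W8.mk 1 := by decide +kernel

theorem one_split : W8.mk 1 ∈ nons ∧ (∀ v : W8, rfx (W8.mk 1) v = v ↔ bb v (W8.mk 1) = false) ∧
    (∀ d ∈ six, bb d (W8.mk 1) = true → d + W8.mk 2 ∈ six ∧ bb (d + W8.mk 2) (W8.mk 1) = false) ∧
    ∀ e : Bool, qe e (W8.mk 4 + W8.mk 8) = !(xor (qe e (W8.mk 4)) (qe e (W8.mk 8))) := by
  decide +kernel

theorem plane_two : ∀ f ∈ vecs [0, 64, 128, 192], ∀ p ∈ vecs [0, 64, 128, 192],
    bb f p = false → f = 0 ∨ p = 0 ∨ p = f := by decide +kernel

theorem plane_nondeg : ∀ p ∈ vecs [0, 64, 128, 192],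
    (∀ v ∈ vecs [0, 64, 128, 192], bb p v = false) → p = 0 := by decide +kernel

theorem plane_sum : ∀ p ∈ vecs [0, 64, 128, 192], ∀ r ∈ vecs [0, 64, 128, 192],
    p + r ∈ vecs [0, 64, 128, 192] := by decide +kernel

end S

theorem two_singular : ∀ e : Bool, ∀ v : W8, ∃ a ∈ span basis, qe e a = false ∧ qe e (v + a) = false := by
  decide +kernel

variable {G : Type u} [Group G]

namespace ACoord

variable [Finite G] {z : G} (M : ACoord z)

include M

/-- An isometry fixing the orthogonal space of a singular vector is trivial. -/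
theorem eq_one_of_fix_perp {t : Equiv.Perm W8} (ht : t ∈ M.π.range) {v : W8} (hv : v ≠ 0)
    (hq : qe M.e v = false) (hfix : ∀ w, bb w v = false → t w = w) : t = 1 := by
  have hi := M.iso t ht
  obtain ⟨w0, hw0⟩ : ∃ w0, bb w0 v = true := by
    obtain ⟨w, -, hw⟩ := (N.nondeg v).resolve_left hv
    exact ⟨w, by rwa [bb_comm]⟩
  set d := t w0 + w0 with hd
  have hperp : ∀ x, bb x v = false → bb d x = false := fun x hx => by
    have h1 := hi.bb w0 x
    rw [hfix x hx] at h1
    rw [hd, bb_add_left, h1, Bool.xor_self]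
  have hd0 : d = 0 := by
    cases hc : bb d w0
    · refine (N.nondeg d).resolve_right ?_
      rintro ⟨x, -, hx⟩
      cases hxv : bb x v
      · rw [hperp x hxv] at hx
        exact absurd hx (by decide)
      · have := hperp (x + w0) (by rw [bb_add_left, hxv, hw0]; rfl)
        rw [bb_add_right, hx, hc] at this
        exact absurd this (by decide)
    · have he : d + v = 0 := by
        refine (N.nondeg (d + v)).resolve_right ?_
        rintro ⟨x, -, hx⟩
        rw [bb_add_left] at hx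
        cases hxv : bb x v
        · rw [hperp x hxv, bb_comm v, hxv] at hx
          exact absurd hx (by decide)
        · have := hperp (x + w0) (by rw [bb_add_left, hxv, hw0]; rfl)
          rw [bb_add_right, hc] at this
          rw [bb_comm v, hxv] at hx
          revert this hx
          cases bb d x <;> decide
      have hqd := hi.q w0
      rw [show t w0 = v + w0 by rw [← W8.eq_of_add he, hd, add_assoc, W8.add_self, add_zero],
        qe_add, hq, bb_comm v, hw0] at hqd
      revert hqd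
      cases qe M.e w0 <;> simp
  refine Equiv.ext fun x => ?_
  show t x = x
  cases hxv : bb x v
  · exact hfix x hxv
  · have h1 := hfix (x + w0) (by rw [bb_add_left, hxv, hw0]; rfl)
    rw [hi.add, W8.eq_of_add hd0] at h1
    exact add_right_cancel h1

theorem sq_zb {y : G} (hy : y ∈ O2c z) : y * y = zb z (qe M.e (M.vec y)) := M.sq hy

/-- An element of square one or `z` in the coset of a given one. -/
theorem exists_sq_central {c : G} (hc : Commute c z) (h2 : M.img c * M.img c = 1)
    {w : W8} (hw : M.img c w + w = M.vec (c * c)) :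
    ∃ u, Commute u z ∧ M.img u = M.img c ∧ (u * u = 1 ∨ u * u = z) := by
  have hy := M.lift_mem w
  have hyz : Commute (M.lift w) z := commute_of_O2c hy
  refine ⟨M.lift w * c, hyz.mul_left hc, by rw [M.img_mul hyz hc, M.img_J hy, one_mul], ?_⟩
  have hcc : c * c ∈ O2c z := by
    rw [← M.img_eq_one (hc.mul_left hc), M.img_mul hc hc, h2]
  have e : M.lift w * c * (M.lift w * c) = M.lift w * (c * M.lift w * c⁻¹) * (c * c) := by group
  have hmem : M.lift w * c * (M.lift w * c) ∈ O2c z := by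
    rw [e]; exact mul_mem (mul_mem hy (M.conj_J hc hy)) hcc
  have hv : M.vec (M.lift w * c * (M.lift w * c)) = 0 := by
    rw [e, M.vec_mul (mul_mem hy (M.conj_J hc hy)) hcc, M.vec_mul hy (M.conj_J hc hy),
      M.vec_conj' hc hy, M.vec_lift, ← hw, add_comm w, W8.add_self]
  obtain ⟨t, ht⟩ := M.eq_zb (one_mem _) hmem (by rw [M.vec_one, hv])
  cases t
  · exact Or.inl (by rw [ht, zb_false, mul_one])
  · exact Or.inr (by rw [ht, zb_true, one_mul])

/-- A commutator with an element of central square is inverted. -/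
theorem conj_commutator {u y : G} (hy : y ∈ O2c z)
    (hu : u * u = 1 ∨ u * u = z) : u * (u * y * u⁻¹ * y⁻¹) * u⁻¹ = (u * y * u⁻¹ * y⁻¹)⁻¹ := by
  have hc : Commute (u * u) y := by
    rcases hu with e | e <;> rw [e]
    · exact Commute.one_left y
    · exact (commute_of_O2c hy).symm
  calc u * (u * y * u⁻¹ * y⁻¹) * u⁻¹ = (u * u * y) * (u * u)⁻¹ * (u * y⁻¹ * u⁻¹) := by group
    _ = y * (u * u) * (u * u)⁻¹ * (u * y⁻¹ * u⁻¹) := by rw [hc.eq]
    _ = (u * y * u⁻¹ * y⁻¹)⁻¹ := by group

/-- The data for the transfer in the natural shape. -/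
theorem nat_choice (hN : INat M.I) (he : M.e = true) :
    ∃ u, Commute u z ∧ M.img u ∉ M.I ∧ (u * u = 1 ∨ u * u = z) ∧
      ∀ x ∈ cls z, Commute x z → Commute x u → (∀ y ∈ Ja z u, Commute x y) → x = z := by
  obtain ⟨t, ht, htI⟩ : ∃ t ∈ M.π.range, t ∉ M.I := by
    by_contra hc
    push Not at hc
    have := M.I_index
    rw [subgroupOf_eq_top.2 hc, index_top] at this
    exact absurd this (by norm_num)
  let T0 : Equiv.Perm W8 := Function.Involutive.toPerm N.tau0 fun v => (N.tau0_spec v).1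
  have hT0 : ∀ v, T0 v = N.tau0 v := fun _ => rfl
  have hsemi := M.nat_semi hN he ht htI
  have hprod : t * T0 ∈ GN := by
    refine ⟨fun v w => ?_, fun v => ?_, fun _ v => ?_⟩
    · show t (N.tau0 (v + w)) = t (N.tau0 v) + t (N.tau0 w)
      rw [N.tau0_add, (M.iso t ht).add]
    · show qe true (t (N.tau0 v)) = qe true v
      rw [← (N.tau0_spec v).2.1]
      exact (he ▸ (M.iso t ht).q : ∀ v, qe true (t v) = qe true v) _
    · show t (N.tau0 (W8.sig v)) = W8.sig (t (N.tau0 v))
      rw [(N.tau0_spec v).2.2.1, hsemi, hsemi, W8.sig_three]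
  obtain ⟨k, i, hi, e⟩ := hN.cases_GN hprod
  have hτ : t⁻¹ * i ∈ M.π.range := mul_mem (inv_mem ht) (M.I_le hi)
  have hτI : t⁻¹ * i ∉ M.I := fun h => htI (inv_mem_iff.1
    (by have := mul_mem h (inv_mem hi); rwa [mul_inv_cancel_right] at this))
  set τ := t⁻¹ * i with hτdef
  have hval : (∀ v, τ v = N.tau0 v) ∨ (∀ v, τ v = W8.sig (N.tau0 v)) ∨
      ∀ v, τ v = W8.sig (W8.sig (N.tau0 v)) := by
    have hk : sigP ^ k = sigP ^ (k % 3) := by
      conv_lhs => rw [← Nat.mod_add_div k 3, pow_add, pow_mul, sigP_pow_three, one_pow, mul_one]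
    rw [hk] at e
    have hlt : k % 3 < 3 := Nat.mod_lt _ (by norm_num)
    have hev : ∀ v, t (N.tau0 v) = (sigP ^ (k % 3)) (i v) := fun v =>
      congrArg (fun s : Equiv.Perm W8 => s v) e
    interval_cases hk3 : k % 3
    · left; intro v
      refine t.injective ?_
      rw [hev v]
      simp [hτdef]
    · right; left; intro v
      refine t.injective ?_
      rw [hsemi, hev v, pow_one, sigP_apply, W8.sig_three]
      simp [hτdef]
    · right; right; intro v
      refine t.injective ?_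
      rw [hsemi, hsemi, W8.sig_three, hev v]
      simp [hτdef, pow_two, sigP_apply, W8.sig_three]
  have hfixq : ∀ v, τ v = v → qe true v = false := by
    intro v hv
    rcases hval with h | h | h <;> rw [h] at hv
    · exact (N.tau0_spec v).2.2.2.1 hv
    · exact (N.tau0_spec v).2.2.2.2.1 hv
    · exact (N.tau0_spec v).2.2.2.2.2 hv
  have hinv : τ * τ = 1 := by
    refine Equiv.ext fun v => ?_
    show τ (τ v) = v
    rcases hval with h | h | h <;> rw [h, h] <;>
      simp [(N.tau0_spec _).2.2.1, (N.tau0_spec _).1, W8.sig_three]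
  have hS := M.nat_semi_struct hN he hτ hτI hinv
  obtain ⟨c, hc, hct⟩ := M.exists_img hτ
  have hcc : c * c ∈ O2c z := by
    rw [← M.img_eq_one (hc.mul_left hc), M.img_mul hc hc, hct, hinv]
  have hs : τ (M.vec (c * c)) = M.vec (c * c) := by
    rw [← hct, ← M.vec_conj' hc hcc]
    congr 1
    group
  obtain ⟨u, huz, hui, hu2⟩ := M.exists_sq_central hc (by rw [hct, hinv]) (w := W8.sig (M.vec (c * c)))
    (by rw [hct, hS.fix_im hs])
  rw [hct] at hui
  refine ⟨u, huz, by rw [hui]; exact hτI, hu2, fun x hx hxz hxu hxJ => ?_⟩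
  by_contra hne
  have hm : Mem z x := ⟨hx, hxz, hne⟩
  have h1 : M.img x = 1 := by
    refine hS.ext (hN.le (M.nat_mem_inner hN he hm)) GN.one_mem fun v hv => ?_
    set y := M.lift (W8.sig v) with hy
    have hym : y ∈ O2c z := M.lift_mem _
    obtain ⟨hw, hwv⟩ := M.commutator_J huz hym
    set w := u * y * u⁻¹ * y⁻¹ with hwd
    rw [hui, hy, M.vec_lift, hS.fix_im hv] at hwv
    have hw2 : w * w = 1 := by rw [M.sq_zb hw, hwv, he, hfixq v hv, zb_false]
    have hwu : Commute w u := by
      have e := M.conj_commutator (u := u) hym hu2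
      rw [← hwd, ← eq_inv_of_mul_eq_one_left hw2, mul_inv_eq_iff_eq_mul] at e
      exact e.symm
    have := M.fix_of_commute hxz hw (hxJ w (mem_Ja.2 ⟨hw, hwu⟩))
    rw [hwv] at this
    exact this
  exact hne (M.nat_not_J hN he hx ((M.img_eq_one hxz).1 h1))

/-- The data for the transfer in the split shape. -/
theorem split_choice (hS : ISplit M.I) (hnot : ∀ a ∈ cls z, a ∈ O2c z → a = z) :
    ∃ u, Commute u z ∧ M.img u ∉ M.I ∧ u * u = 1 ∧
      ∀ x ∈ cls z, Commute x z → Commute x u → (∀ y ∈ Ja z u, Commute x y) → x = z := by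
  obtain ⟨h1, h2, h12, hq1, hne1, hb21⟩ := S.one_facts
  obtain ⟨h4, h8, b4, b8, -⟩ := S.one_pair
  obtain ⟨hn1, hfix1, hsplit, hq12⟩ := S.one_split
  have hmem := rfP_mem true hn1
  rw [← M.kap_range hS] at hmem
  obtain ⟨τ, hτ⟩ := hmem
  have hτ2 : τ * τ = 1 := M.kap_injective hS (by
    rw [map_mul, map_one, hτ]
    exact Equiv.ext fun v => rfx_inv (W8.mk 1) v)
  have hsix : ∀ d ∈ six, (τ : Equiv.Perm W8) d = rfx (W8.mk 1) d := fun d hd => by
    rw [← M.kap_six hS τ hd, hτ, rfP_apply]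
  have hinv : ∀ v, (τ : Equiv.Perm W8) ((τ : Equiv.Perm W8) v) = v := fun v =>
    congrArg (fun s : ↥M.π.range => (s : Equiv.Perm W8) v) hτ2
  have hiso := M.iso _ τ.2
  have hτI : (τ : Equiv.Perm W8) ∉ M.I := by
    intro hI
    have e : ∀ v, (τ : Equiv.Perm W8) v = rfx (W8.mk 1) v := by
      intro v
      rw [← rfP_apply, ← hτ, M.kap_apply]
      obtain ⟨-, hp, he'⟩ := S.proj_spec v
      conv_lhs => rw [← he', hiso.add, hS.fix_plane hI hp]
    obtain ⟨R, y, -, hy⟩ := S.classes_rep hS hI (congrArg Subtype.val hτ2) fun e1 => by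
      have := e (W8.mk 2)
      rw [e1, Equiv.Perm.one_apply] at this
      revert this
      decide +kernel
    have h64 : {v : W8 | (τ : Equiv.Perm W8) v = v}.ncard = 64 := by
      rw [ncard_fix_conj hy, ← R.C_len, ← List.toFinset_card_of_nodup R.C_nodup, ← Set.ncard_coe_finset]
      congr 1
      ext v
      simp [R.C_iff]
    have h128 : {v : W8 | (τ : Equiv.Perm W8) v = v}.ncard = 128 := by
      rw [← ncard_perp hne1]
      congr 1
      ext v
      simp only [Set.mem_setOf_eq, e, hfix1]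
    omega
  have hf : ∀ {d : W8}, d ∈ six → bb d (W8.mk 1) = false → (τ : Equiv.Perm W8) d = d := fun {d} hd hb => by
    rw [hsix d hd, (hfix1 d).2 hb]
  have hf1 : (τ : Equiv.Perm W8) (W8.mk 1) = W8.mk 1 := by
    rw [hsix _ h1]
    decide +kernel
  obtain ⟨c, hc, hct⟩ := M.exists_img τ.2
  have hcc : c * c ∈ O2c z := by
    rw [← M.img_eq_one (hc.mul_left hc), M.img_mul hc hc, hct]
    exact congrArg Subtype.val hτ2
  set s := M.vec (c * c) with hsdef
  have hs : (τ : Equiv.Perm W8) s = s := by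
    rw [← hct, hsdef, ← M.vec_conj' hc hcc]
    congr 1
    group
  have hperp : ∀ v, (τ : Equiv.Perm W8) v = v → bb s v = false := by
    intro v hv
    rw [bb_comm]
    have hym := M.lift_mem v
    have e := M.phi_spec hc hym (by rw [M.vec_lift, hct, hv])
    rw [M.vec_lift] at e
    have key : Commute (M.lift v) (c * c) := by
      refine (mul_inv_eq_iff_eq_mul.1 ?_).symm
      generalize hb : M.phi c v = b at e
      calc c * c * M.lift v * (c * c)⁻¹ = c * (c * M.lift v * c⁻¹) * c⁻¹ := by group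
        _ = c * (M.lift v * zb z b) * c⁻¹ := by rw [e]
        _ = c * M.lift v * c⁻¹ * (c * zb z b * c⁻¹) := by group
        _ = M.lift v * zb z b * (c * zb z b * c⁻¹) := by rw [e]
        _ = M.lift v := by cases b <;> simp [zb, hc.eq, M.zz, mul_assoc]
    have := M.bb_of_commute hcc hym key
    rwa [M.vec_lift] at this
  -- the square lies in the commutator space
  obtain ⟨w, hw⟩ : ∃ w, (τ : Equiv.Perm W8) w + w = s := by
    obtain ⟨hd, hp, hdp⟩ := S.proj_spec s
    have hdpf : (τ : Equiv.Perm W8) (S.sixp s) = S.sixp s ∧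
        (τ : Equiv.Perm W8) (S.planep s) = S.planep s := by
      have hu := S.proj_unique _ (M.split_six hS τ.2 hd) _ (M.split_plane hS τ.2 hp)
      rw [← hiso.add, hdp, hs] at hu
      exact ⟨hu.1.symm, hu.2.symm⟩
    obtain ⟨w1, hw1⟩ : ∃ w1, (τ : Equiv.Perm W8) w1 + w1 = S.sixp s := by
      rcases S.one_perp _ hd (fun v hv hb => by
        have := hperp v (hf hv hb)
        rw [← hdp, bb_add_left, bb_comm (S.planep s), S.plane_bb v hv _ hp, Bool.xor_false] at this
        exact this) with e | e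
      · exact ⟨0, by rw [hiso.map_zero, add_zero, e]⟩
      · exact ⟨W8.mk 2, by rw [e, hsix _ h2, h12]⟩
    obtain ⟨w2, hw2⟩ : ∃ w2, (τ : Equiv.Perm W8) w2 + w2 = S.planep s := by
      by_cases hall : ∀ p ∈ vecs [0, 64, 128, 192], (τ : Equiv.Perm W8) p = p
      · refine ⟨0, ?_⟩
        rw [hiso.map_zero, add_zero, S.plane_nondeg _ hp fun v hv => ?_]
        have := hperp v (hall v hv)
        rw [← hdp, bb_add_left, S.plane_bb _ hd v hv, Bool.false_xor] at this
        exact this
      · push Not at hall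
        obtain ⟨p, hp1, hp2⟩ := hall
        have hf0 : (τ : Equiv.Perm W8) p + p ≠ 0 := fun e => hp2 (W8.eq_of_add e)
        rcases S.plane_two _ (S.plane_sum _ (M.split_plane hS τ.2 hp1) _ hp1) _ hp (by
          rw [bb_add_left]
          conv_lhs => arg 1; rw [← hdpf.2]
          rw [hiso.bb, Bool.xor_self]) with e | e | e
        · exact absurd e hf0
        · exact ⟨0, by rw [hiso.map_zero, add_zero, e]⟩
        · exact ⟨p, e.symm⟩
    refine ⟨w1 + w2, ?_⟩
    rw [hiso.add, ← hdp, ← hw1, ← hw2]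
    abel
  obtain ⟨u0, hu0z, hu0i, hu0⟩ := M.exists_sq_central hc (by rw [hct]; exact congrArg Subtype.val hτ2)
    (w := w) (by rw [hct]; exact hw)
  rw [hct] at hu0i
  obtain ⟨u, huz, hui, hu2⟩ : ∃ u, Commute u z ∧ M.img u = τ ∧ u * u = 1 := by
    rcases hu0 with e | e
    · exact ⟨u0, hu0z, hu0i, e⟩
    -- a fixed vector where the form differs from the correction
    obtain ⟨v, hv, hne⟩ : ∃ v, (τ : Equiv.Perm W8) v = v ∧ M.phi u0 v = !(qe M.e v) := by
      by_contra hcon
      push Not at hcon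
      have heq : ∀ v, (τ : Equiv.Perm W8) v = v → M.phi u0 v = qe M.e v := fun v hv => by
        have := hcon v hv
        revert this
        cases M.phi u0 v <;> cases qe M.e v <;> decide
      have e4 := hf h4 b4
      have e8 := hf h8 b8
      have e12 := heq (W8.mk 4 + W8.mk 8) (by rw [hiso.add, e4, e8])
      rw [M.phi_add hu0z (by rw [hu0i, e4]) (by rw [hu0i, e8]), heq _ e4, heq _ e8, hq12] at e12
      revert e12
      cases qe M.e (W8.mk 4) <;> cases qe M.e (W8.mk 8) <;> decide
    have hym := M.lift_mem v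
    have hyz : Commute (M.lift v) z := commute_of_O2c hym
    refine ⟨M.lift v * u0, hyz.mul_left hu0z, by rw [M.img_mul hyz hu0z, M.img_J hym, one_mul, hu0i], ?_⟩
    have ec := M.phi_spec hu0z hym (by rw [M.vec_lift, hu0i, hv])
    rw [M.vec_lift, hne] at ec
    calc M.lift v * u0 * (M.lift v * u0) = M.lift v * (u0 * M.lift v * u0⁻¹) * (u0 * u0) := by group
      _ = M.lift v * M.lift v * zb z (!(qe M.e v)) * z := by rw [ec, e]; group
      _ = 1 := by
        rw [M.sq_zb hym, M.vec_lift]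
        cases qe M.e v <;> simp [zb, M.zz]
  refine ⟨u, huz, by rw [hui]; exact hτI, hu2, fun x hx hxz hxu hxJ => ?_⟩
  by_contra hne
  have hm : Mem z x := ⟨hx, hxz, hne⟩
  have hphi1 : M.phi u (W8.mk 1) = true := by
    have hym := M.lift_mem (W8.mk 2)
    obtain ⟨hw', hwv⟩ := M.commutator_J huz hym
    rw [hui, M.vec_lift, hsix _ h2, h12] at hwv
    have hinv' := M.conj_commutator (u := u) hym (Or.inl hu2)
    rw [← hwv]
    refine M.phi_eq huz hw' ?_ ?_
    · rw [hwv, hui, hf1]
    · rw [hinv', zb_true]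
      refine inv_eq_of_mul_eq_one_right ?_
      rw [← mul_assoc, M.sq_zb hw', hwv, qe_six M.e _ h1, hq1, zb_true, M.zz]
  have hcomm : ∀ v, M.img x ((τ : Equiv.Perm W8) v) = (τ : Equiv.Perm W8) (M.img x v) := fun v => by
    rw [← hui]
    show (M.img x * M.img u) v = (M.img u * M.img x) v
    rw [← M.img_mul hxz huz, ← M.img_mul huz hxz, hxu.eq]
  set t : ↥M.π.range := ⟨M.img x, M.img_mem x⟩ with htdef
  have hit := M.iso _ (M.img_mem x)
  have ht2six : M.img x (W8.mk 2) ∈ six := M.split_six hS (M.img_mem x) h2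
  have ht1 : M.img x (W8.mk 1) = W8.mk 1 := by
    conv_lhs => rw [← h12, ← hsix _ h2]
    rw [hit.add, hcomm, hsix _ ht2six, rfx]
    cases hb : bb (M.img x (W8.mk 2)) (W8.mk 1)
    · exfalso
      have h0 : M.img x ((τ : Equiv.Perm W8) (W8.mk 2) + W8.mk 2) = 0 := by
        rw [hit.add, hcomm, hsix _ ht2six, rfx, hb]
        simp [W8.add_self]
      rw [hsix _ h2, h12] at h0
      exact hne1 ((M.img x).injective (h0.trans hit.map_zero.symm))
    · rw [if_pos rfl, add_right_comm, W8.add_self, zero_add]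
  have hperp' : ∀ d ∈ six, bb d (W8.mk 1) = false → M.img x d = d := by
    intro d hd hb
    have hdf : M.img u d = d := by rw [hui, hf hd hb]
    have hf1' : M.img u (W8.mk 1) = W8.mk 1 := by rw [hui, hf1]
    cases hp : M.phi u d
    · have := M.fix_of_commute hxz (M.lift_mem d) (hxJ _ ((M.mem_Ja_iff huz (M.lift_mem d)).2
        (by rw [M.vec_lift]; exact ⟨hdf, hp⟩)))
      rwa [M.vec_lift] at this
    · have := M.fix_of_commute hxz (M.lift_mem (d + W8.mk 1))
        (hxJ _ ((M.mem_Ja_iff huz (M.lift_mem _)).2 (by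
          rw [M.vec_lift]
          exact ⟨by rw [M.img_add, hdf, hf1'], by rw [M.phi_add huz hdf hf1', hp, hphi1]; rfl⟩)))
      rw [M.vec_lift, hit.add, ht1] at this
      exact add_right_cancel this
  have hd2 : M.img x (W8.mk 2) + W8.mk 2 ∈ six := S.six_add _ ht2six _ h2
  have hsame : ∀ {t' : W8 → W8}, (∀ v w, t' (v + w) = t' v + t' w) →
      (∀ d ∈ six, bb d (W8.mk 1) = false → t' d = d) → t' (W8.mk 2) = M.img x (W8.mk 2) →
      ∀ d ∈ six, M.img x d = t' d := by
    intro t' hadd hfx h2' d hd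
    cases hb : bb d (W8.mk 1)
    · rw [hperp' d hd hb, hfx d hd hb]
    · obtain ⟨hd', hb'⟩ := hsplit d hd hb
      have e : d = (d + W8.mk 2) + W8.mk 2 := by rw [add_assoc, W8.add_self, add_zero]
      rw [e, hit.add, hadd, hperp' _ hd' hb', hfx _ hd' hb', h2']
  have hkap : ∀ s' : ↥M.π.range, (∀ d ∈ six, M.img x d = (s' : Equiv.Perm W8) d) → t = s' := by
    intro s' h
    refine M.kap_injective hS (Equiv.ext fun v => ?_)
    rw [M.kap_apply, M.kap_apply, ← h _ (S.proj_spec v).1]
  rcases S.one_perp _ hd2 (fun v hv hb => by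
    have e := hit.bb (W8.mk 2) v
    rw [hperp' v hv hb] at e
    rw [bb_add_left, e, Bool.xor_self]) with e | e
  · have he1 := hkap 1 (hsame (fun _ _ => rfl) (fun _ _ _ => rfl) (W8.eq_of_add e).symm)
    exact hne (hnot x hx ((M.img_eq_one hxz).1 (congrArg Subtype.val he1)))
  · have hx2 : (τ : Equiv.Perm W8) (W8.mk 2) = M.img x (W8.mk 2) := by
      rw [hsix _ h2]
      exact add_right_cancel (h12.trans e.symm)
    have he1 := hkap τ (hsame hiso.add (fun d hd hb => hf hd hb) hx2)
    have hxτ : M.img x = τ := congrArg Subtype.val he1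
    exact M.split_transvection_false hS hm (hxτ ▸ hτI) fun d hd => by rw [hxτ, hsix d hd]

theorem I_perfect : ⁅M.I, M.I⁆ = M.I := by
  haveI hsimp : IsSimpleGroup ↥M.I := by
    rcases M.shape with ⟨-, h⟩ | h
    · exact h.simple
    · exact h.simple
  rcases (inferInstance : (commutator ↥M.I).Normal).eq_bot_or_eq_top with h | h
  · exfalso
    letI : CommGroup ↥M.I :=
      { (inferInstance : Group ↥M.I) with
        mul_comm := fun a b => by
          have : ⁅a, b⁆ ∈ commutator ↥M.I :=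
            commutator_mem_commutator (mem_top a) (mem_top b)
          rw [h, mem_bot] at this
          exact commutatorElement_eq_one_iff_mul_comm.1 this }
    have := IsSimpleGroup.prime_card (α := ↥M.I)
    rw [M.icard] at this
    norm_num at this
  · rw [← map_subtype_commutator, h, ← MonoidHom.range_eq_map, range_subtype]

/-- A subgroup of index two meeting the centraliser in the inner part. -/
theorem exists_half (hnot : ∀ a ∈ cls z, a ∈ O2c z → a = z) :
    ∃ G0 : Subgroup G, G0.index = 2 ∧ G0 ⊓ centralizer ({z} : Set G) = M.inner := by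
  haveI : Fact (Nat.Prime 2) := ⟨Nat.prime_two⟩
  obtain ⟨u, huz, hui, hu2, hmem, hfix⟩ : ∃ u, Commute u z ∧ M.img u ∉ M.I ∧ (u * u = 1 ∨ u * u = z) ∧
      (u * u = z → ∀ g : G, Commute (g * z * g⁻¹) z → g * z * g⁻¹ ∈ M.inner) ∧
      ∀ x ∈ cls z, Commute x z → Commute x u → (∀ y ∈ Ja z u, Commute x y) → x = z := by
    rcases M.shape with ⟨he, hN⟩ | hS
    · obtain ⟨u, h1, h2, h3, h4⟩ := M.nat_choice hN he
      refine ⟨u, h1, h2, h3, fun _ g hg => ?_, h4⟩
      by_cases hne : g * z * g⁻¹ = z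
      · rw [hne]; exact M.z_mem_inner
      · exact M.mem_inner.2 ⟨hg, M.nat_mem_inner hN he ⟨⟨g, rfl⟩, hg, hne⟩⟩
    · obtain ⟨u, h1, h2, h3, h4⟩ := M.split_choice hS hnot
      exact ⟨u, h1, h2, Or.inl h3, fun e => absurd (h3.symm.trans e).symm M.ne_one, h4⟩
  have hu0 : u ∉ M.inner := fun h => hui (M.mem_inner.1 h).2
  have hP : ∀ w : G, IsPGroup 2 ↥(Ja z w) := fun w => M.ctr.pgroup.to_le inf_le_left
  have hzJ : ∀ {w : G}, Commute w z → z ∈ Ja z w := fun h => mem_Ja.2 ⟨M.z_mem, h.symm⟩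
  obtain ⟨G0, h2, hnu, hj⟩ := TransferTwo.exists_index_two M.two M.inner_index huz hu0 hu2 hmem (hP u)
    (fun p hp => (mem_Ja.1 hp).2) (fun p hp => commute_of_O2c hp.1)
    fun g hgu hgP => hfix _ ⟨g, rfl⟩ (hgP z (hzJ huz)) hgu fun y hy => hgP y hy
  refine ⟨G0, h2, ?_⟩
  have hsing : ∀ y ∈ O2c z, qe M.e (M.vec y) = false → M.vec y ≠ 0 → y ∈ G0 := by
    intro y hy hq hv
    refine hj y (M.mem_inner.2 ⟨commute_of_O2c hy, by rw [M.img_J hy]; exact one_mem _⟩)
      (by rw [M.sq_zb hy, hq, zb_false]) (commute_of_O2c hy) (Ja z y) (hP y)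
      (fun p hp => (mem_Ja.1 hp).2) (fun p hp => commute_of_O2c hp.1) fun g _ hgP => ?_
    have hxz := hgP z (hzJ (commute_of_O2c hy))
    refine hnot _ ⟨g, rfl⟩ ((M.img_eq_one hxz).1 (M.eq_one_of_fix_perp (M.img_mem _) hv hq fun w hw => ?_))
    have := M.fix_of_commute hxz (M.lift_mem w)
      (hgP _ (M.mem_Ja_of_bb hy (M.lift_mem w) (by rw [M.vec_lift]; exact hw)))
    rwa [M.vec_lift] at this
  have hsq : ∀ x : G, x * x ∈ G0 := fun x => (mul_mem_iff_of_index_two h2).2 Iff.rfl
  have hz0 : z ∈ G0 := by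
    obtain ⟨v, hv⟩ : ∃ v : W8, qe M.e v = true := ⟨W8.mk 1, by cases M.e <;> decide +kernel⟩
    have := hsq (M.lift v)
    rwa [M.sq_zb (M.lift_mem v), M.vec_lift, hv, zb_true] at this
  have hzb : ∀ t, zb z t ∈ G0 := by rintro (_ | _) <;> simp [zb, hz0]
  have hJ : ∀ y ∈ O2c z, y ∈ G0 := by
    intro y hy
    obtain ⟨a, -, ha, hb⟩ := two_singular M.e (M.vec y)
    have key : ∀ v, qe M.e v = false → M.lift v ∈ G0 := fun v hv => by
      by_cases h0 : v = 0
      · obtain ⟨t, ht⟩ := M.eq_zb (one_mem _) (M.lift_mem v) (by rw [M.vec_one, M.vec_lift, h0])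
        rw [ht, one_mul]
        exact hzb t
      · exact hsing _ (M.lift_mem v) (by rwa [M.vec_lift]) (by rwa [M.vec_lift])
    obtain ⟨t, ht⟩ := M.eq_zb (mul_mem (M.lift_mem a) (M.lift_mem (M.vec y + a))) hy (by
      rw [M.vec_mul (M.lift_mem _) (M.lift_mem _), M.vec_lift, M.vec_lift, add_comm (M.vec y),
        ← add_assoc, W8.add_self, zero_add])
    rw [ht]
    exact mul_mem (mul_mem (key a ha) (key _ hb)) (hzb t)
  let A : Subgroup (Equiv.Perm W8) :=
    (G0.comap (centralizer ({z} : Set G)).subtype).map M.π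
  have hA : M.I ≤ A := by
    rw [← M.I_perfect, commutator_le]
    intro s hs t ht
    obtain ⟨c, hc⟩ := M.I_le hs
    obtain ⟨d, hd⟩ := M.I_le ht
    refine ⟨⁅c, d⁆, ?_, by rw [map_commutatorElement, hc, hd]⟩
    show ((⁅c, d⁆ : ↥(centralizer ({z} : Set G))) : G) ∈ G0
    simp only [commutatorElement_def, Subgroup.coe_mul, Subgroup.coe_inv]
    simp only [mul_mem_iff_of_index_two h2, inv_mem_iff]
    tauto
  have hin : ∀ c, Commute c z → M.img c ∈ M.I → c ∈ G0 := by
    intro c hc hI
    obtain ⟨d, hd, hdi⟩ := hA hI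
    have hdz : Commute (d : G) z := mem_cent.1 d.2
    have : ((d : G))⁻¹ * c ∈ O2c z := by
      rw [← M.img_eq_one (hdz.inv_left.mul_left hc), M.img_mul hdz.inv_left hc, M.img_inv hdz,
        M.img_eq d.2, hdi, inv_mul_cancel]
    have h' := mul_mem (show (d : G) ∈ G0 from hd) (hJ _ this)
    rwa [mul_inv_cancel_left] at h'
  ext c
  constructor
  · rintro ⟨h0, hcC⟩
    refine M.mem_inner.2 ⟨mem_cent.1 hcC, ?_⟩
    by_contra hout
    have hcu : c * u ∈ G0 := hin _ ((mem_cent.1 hcC).mul_left huz) (by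
      rw [M.img_mul (mem_cent.1 hcC) huz]
      exact (M.mul_mem_I_iff (M.img_mem _) (M.img_mem _)).2 ⟨fun h => absurd h hout, fun h => absurd h hui⟩)
    exact hnu ((G0.mul_mem_cancel_left h0).1 hcu)
  · intro h
    obtain ⟨hc, hI⟩ := M.mem_inner.1 h
    exact ⟨hin c hc hI, mem_cent.2 hc⟩

end ACoord

end Cfsg.Agent.ThreeTransp.U62Cent
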