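import Cfsg.Agent.Lib.ThreeTransp.U62Cent.Outside
import Cfsg.Agent.Lib.AutPSp.Count

/-!
# Coordinates when the quotient of the centraliser is `Aut(PSp₄(3))`
-/

set_option autoImplicit false
set_option linter.unusedSectionVars false
set_option maxRecDepth 100000

namespace Cfsg.Agent.ThreeTransp.U62Cent

open W8 Subgroup Cfsg.Agent.LargeExtra

universe u

variable {G : Type u} [Group G]

/-- coordinates with the full automorphism group of `Ω₆⁻(2)` induced -/
structure ACoord (z : G) extends Pre z where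
  I : Subgroup (Equiv.Perm W8)
  I_le : I ≤ π.range
  card_range : Nat.card ↥π.range = 51840
  cent : ∀ t ∈ π.range, (∀ g ∈ I, t * g = g * t) → t = 1
  shape : (e = true ∧ INat I) ∨ ISplit I

/-- An automorphism commuting with all inner ones is trivial when the centre is. -/
theorem eq_one_of_commute_inn {S : Type*} [Group S] (hS : center S = ⊥) {α : MulAut S}
    (h : ∀ s, α * MulAut.conj s = MulAut.conj s * α) : α = 1 := by
  refine MulEquiv.ext fun s => ?_
  show α s = s
  have h1 : (α s)⁻¹ * s ∈ center S := by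
    rw [mem_center_iff]
    intro x
    obtain ⟨y, rfl⟩ := α.surjective x
    have e := DFunLike.congr_fun (h s) y
    simp only [MulAut.mul_apply, MulAut.conj_apply, map_mul, map_inv] at e
    calc α y * ((α s)⁻¹ * s) = (α s)⁻¹ * (α s * α y * (α s)⁻¹) * s := by group
      _ = (α s)⁻¹ * s * α y := by rw [e]; group
  rw [hS, mem_bot] at h1
  exact inv_mul_eq_one.1 h1

set_option maxHeartbeats 1600000 in
/-- coordinates from the hypotheses of the second recognition theorem -/
theorem exists_acoord [Finite G] {z : G} (hz : orderOf z = 2) {F : Type*} [Field F] [Fintype F]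
    (hF : Fintype.card F = 3) {K : Type*} [Field K] [Fintype K] (hK : Fintype.card K = 4)
    (hJ : Cfsg.IsExtraspecial 2 ↥(Cfsg.pCore 2 ↥(centralizer ({z} : Set G))))
    (hJc : Nat.card ↥(Cfsg.pCore 2 ↥(centralizer ({z} : Set G))) = 2 ^ 9)
    (hCJ : centralizer ((Cfsg.pCore 2 ↥(centralizer ({z} : Set G))) : Set ↥(centralizer ({z} : Set G))) ≤
      Cfsg.pCore 2 ↥(centralizer ({z} : Set G)))
    [hJn : (Cfsg.pCore 2 ↥(centralizer ({z} : Set G))).Normal]
    (e : (↥(centralizer ({z} : Set G)) ⧸ Cfsg.pCore 2 ↥(centralizer ({z} : Set G))) ≃* MulAut (Cfsg.PSp 2 F)) :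
    Nonempty (ACoord z) := by
  classical
  haveI : Fact (Nat.Prime 2) := ⟨Nat.prime_two⟩
  haveI : Fact (Nat.Prime 3) := ⟨Nat.prime_three⟩
  set C := centralizer ({z} : Set G) with hC
  set P := Cfsg.pCore 2 ↥C with hP
  let em : ↥P ≃* ↥(O2c z) := P.equivMapOfInjective C.subtype C.subtype_injective
  have hE : Cfsg.IsExtraspecial 2 ↥(O2c z) := isExtraspecial_of_equiv hJ em
  have hzC : z ∈ C := mem_centralizer_singleton_iff.2 rfl
  have hcent : centralizer ((O2c z : Subgroup G) : Set G) ≤ O2c z := by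
    intro x hx
    have hzP : (⟨z, hzC⟩ : ↥C) ∈ P := hCJ (mem_centralizer_iff.2 fun u _ =>
      Subtype.ext (mem_centralizer_singleton_iff.1 u.2))
    have hxC : x ∈ C := by
      rw [hC, mem_centralizer_singleton_iff]
      exact (mem_centralizer_iff.1 hx z ⟨_, hzP, rfl⟩).symm
    exact ⟨⟨x, hxC⟩, hCJ (mem_centralizer_iff.2 fun u hu =>
      Subtype.ext (mem_centralizer_iff.1 hx _ ⟨u, hu, rfl⟩)), rfl⟩
  have hctr : Ctr (O2c z) z := setting_base (fun x => O2c x) (fun _ => rfl) hz hE hcent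
  have hQ : Nat.card ↥(O2c z) = 512 := by
    rw [← Nat.card_congr em.toEquiv, hJc]; norm_num
  -- the simple group
  obtain ⟨e2⟩ := Cfsg.Agent.S0822.result (F := K) (K := F) hK hF
  obtain ⟨e3⟩ := Cfsg.Agent.S0303.result (F := ZMod 2) (K := K) (q := 2) (ZMod.card 2)
    (by rw [hK]; norm_num) (1 : ZMod 2) 1 Cfsg.Agent.SuzukiType.anis
  rw [← Cfsg.Agent.Classical.OrthForms.minQ_eq] at e3
  have hc := Cfsg.Agent.Classical.Orth.natCard_center_one
    (Cfsg.Agent.Classical.OrthForms.minQ_nondeg 2 Cfsg.Agent.SuzukiType.anis)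
    (Cfsg.Agent.Classical.OrthForms.minFrame (ZMod 2) le_rfl 1 1) (by simp) (Or.inl (show (2 : ZMod 2) = 0 from rfl))
  rw [Subgroup.card_eq_one] at hc
  let e1 : OmG ≃* Cfsg.PSU 4 K 2 :=
    ((QuotientGroup.quotientMulEquivOfEq hc).trans QuotientGroup.quotientBot).symm.trans e3
  let ι : Cfsg.PSp 2 F ≃* OmG := e2.symm.trans e1.symm
  haveI : IsSimpleGroup OmG := Cfsg.Agent.SuzukiType.omega_simple
  haveI : Nontrivial (Cfsg.PSp 2 F) := ι.toEquiv.nontrivial
  haveI hsimp : IsSimpleGroup (Cfsg.PSp 2 F) :=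
    IsSimpleGroup.isSimpleGroup_of_surjective ι.symm.toMonoidHom ι.symm.surjective
  have hcardS : Nat.card (Cfsg.PSp 2 F) = 25920 :=
    (Nat.card_congr ι.toEquiv).trans Cfsg.Agent.SuzukiType.card_omega
  have hcardA : Nat.card (MulAut (Cfsg.PSp 2 F)) = 51840 := by
    rw [Cfsg.Agent.AutPSp.Count.card_mulAut 3 1 (by rw [Nat.card_eq_fintype_card, hF]; norm_num) le_rfl, hcardS]
    norm_num
  have hcS : center (Cfsg.PSp 2 F) = ⊥ := by
    refine (inferInstance : (center (Cfsg.PSp 2 F)).Normal).eq_bot_or_eq_top.resolve_right fun h => ?_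
    letI : CommGroup (Cfsg.PSp 2 F) :=
      { (inferInstance : Group (Cfsg.PSp 2 F)) with
        mul_comm := fun a b => mem_center_iff.1 (h ▸ mem_top b : b ∈ center _) a }
    have hp := IsSimpleGroup.prime_card (α := Cfsg.PSp 2 F)
    rw [hcardS] at hp
    norm_num at hp
  let cj : Cfsg.PSp 2 F →* MulAut (Cfsg.PSp 2 F) := MulAut.conj
  have hcj : Function.Injective cj := Cfsg.Agent.AutPSp.Count.conj_injective (by norm_num)
  -- the subgroup inducing inner automorphisms
  let φ : ↥C →* MulAut (Cfsg.PSp 2 F) := e.toMonoidHom.comp (QuotientGroup.mk' P)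
  have hφs : Function.Surjective φ := e.surjective.comp (QuotientGroup.mk'_surjective P)
  have hφk : ∀ c : ↥C, φ c = 1 ↔ (c : G) ∈ O2c z := by
    intro c
    show e (QuotientGroup.mk' P c) = 1 ↔ _
    rw [map_eq_one_iff e e.injective, QuotientGroup.mk'_apply, QuotientGroup.eq_one_iff]
    exact ⟨fun h => ⟨c, h, rfl⟩, fun ⟨d, hd, ed⟩ => (C.subtype_injective ed) ▸ hd⟩
  let H0 : Subgroup G := (cj.range.comap φ).map C.subtype
  have hH0 : ∀ {x : G}, x ∈ H0 ↔ ∃ h : x ∈ C, φ ⟨x, h⟩ ∈ cj.range := by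
    intro x
    constructor
    · rintro ⟨c, hc, rfl⟩; exact ⟨c.2, hc⟩
    · rintro ⟨h, hx⟩; exact ⟨⟨x, h⟩, hx, rfl⟩
  have hJH : O2c z ≤ H0 := by
    intro x hx
    refine hH0.2 ⟨map_subtype_le _ hx, ?_⟩
    rw [(hφk _).2 hx]; exact one_mem _
  let inc : ↥H0 →* ↥C :=
    { toFun := fun x => ⟨x, (hH0.1 x.2).1⟩, map_one' := rfl, map_mul' := fun _ _ => rfl }
  have hincr : ∀ x, φ (inc x) ∈ cj.range := fun x => (hH0.1 x.2).2
  let ψ : ↥H0 →* Cfsg.PSp 2 F :=
    (MonoidHom.ofInjective hcj).symm.toMonoidHom.comp ((φ.comp inc).codRestrict cj.range hincr)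
  have hψ : ∀ x, cj (ψ x) = φ (inc x) := fun x => by
    have h := (MonoidHom.ofInjective hcj).apply_symm_apply ⟨φ (inc x), hincr x⟩
    exact congrArg Subtype.val h
  have hψs : Function.Surjective ψ := by
    intro s
    obtain ⟨c, hc⟩ := hφs (cj s)
    refine ⟨⟨c, hH0.2 ⟨c.2, by rw [Subtype.coe_eta, hc]; exact ⟨s, rfl⟩⟩⟩, hcj ?_⟩
    rw [hψ]
    exact hc
  have hψk : ∀ x : ↥H0, ψ x = 1 ↔ (x : G) ∈ O2c z := by
    intro x
    show ψ x = 1 ↔ ((inc x : ↥C) : G) ∈ O2c z
    rw [← hφk (inc x), ← hψ x, map_eq_one_iff cj hcj]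
  -- the same setting inside
  set z1 : ↥H0 := ⟨z, hJH hctr.z_mem⟩ with hz1d
  have htop : centralizer ({z1} : Set ↥H0) = ⊤ := by
    refine eq_top_iff.2 fun x _ => mem_centralizer_singleton_iff.2 (Subtype.ext ?_)
    exact mem_centralizer_singleton_iff.1 (inc x).2
  have mem_ctop : ∀ x : ↥H0, x ∈ centralizer ({z1} : Set ↥H0) := fun x => by
    rw [htop]; exact mem_top x
  have hO : ∀ x : ↥H0, x ∈ O2c z1 ↔ (x : G) ∈ O2c z := by
    intro x
    set C1 := centralizer ({z1} : Set ↥H0) with hC1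
    let ψ1 : ↥C1 →* Cfsg.PSp 2 F := ψ.comp C1.subtype
    have hψ1s : Function.Surjective ψ1 := fun s => by
      obtain ⟨x, hx⟩ := hψs s
      exact ⟨⟨x, mem_ctop x⟩, hx⟩
    have hker : IsPGroup 2 ↥ψ1.ker := by
      refine hctr.pgroup.of_injective
        ({ toFun := fun y => (⟨((y : ↥C1) : ↥H0), (hψk _).1 y.2⟩ : ↥(O2c z))
           map_one' := rfl
           map_mul' := fun _ _ => rfl } : ↥ψ1.ker →* ↥(O2c z)) ?_
      intro a b h
      have h' : (((a : ↥C1) : ↥H0) : G) = (((b : ↥C1) : ↥H0) : G) :=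
        congrArg (fun q : ↥(O2c z) => (q : G)) h
      exact Subtype.ext (Subtype.ext (Subtype.ext h'))
    have hbot : (Cfsg.pCore 2 ↥C1).map ψ1 = ⊥ := by
      haveI : (Cfsg.pCore 2 ↥C1).Normal := inferInstance
      haveI hn : ((Cfsg.pCore 2 ↥C1).map ψ1).Normal := Normal.map inferInstance ψ1 hψ1s
      refine hn.eq_bot_or_eq_top.resolve_right fun h => ?_
      have hp := (Cfsg.Agent.Cores.pCore_isPGroup (G := ↥C1) 2).map ψ1
      rw [h] at hp
      obtain ⟨k, hk⟩ := IsPGroup.iff_card.1 (hp.of_equiv Subgroup.topEquiv)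
      rw [hcardS] at hk
      have : 3 ∣ 2 ^ k := hk ▸ ⟨8640, by norm_num⟩
      exact absurd (Nat.Prime.dvd_of_dvd_pow Nat.prime_three this) (by norm_num)
    constructor
    · rintro ⟨c, hc, rfl⟩
      refine (hψk _).1 ?_
      have : ψ1 c ∈ (Cfsg.pCore 2 ↥C1).map ψ1 := mem_map_of_mem _ hc
      rw [hbot, mem_bot] at this
      exact this
    · intro hx
      exact ⟨⟨x, mem_ctop x⟩, Cfsg.Agent.Cores.le_pCore hker (show ψ1 ⟨x, _⟩ = 1 from (hψk x).2 hx), rfl⟩
  have hmap : (O2c z1).map H0.subtype = O2c z := by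
    ext x
    constructor
    · rintro ⟨y, hy, rfl⟩; exact (hO y).1 hy
    · intro hx; exact ⟨⟨x, hJH hx⟩, (hO _).2 hx, rfl⟩
  let em1 : ↥(O2c z1) ≃* ↥(O2c z) :=
    ((O2c z1).equivMapOfInjective H0.subtype H0.subtype_injective).trans (MulEquiv.subgroupCongr hmap)
  have hz1 : orderOf z1 = 2 := by rw [← Subgroup.orderOf_coe]; exact hz
  have hctr1 : Ctr (O2c z1) z1 := by
    refine setting_base (fun x => O2c x) (fun _ => rfl) hz1 (isExtraspecial_of_equiv hE em1.symm) ?_
    intro x hx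
    refine (hO x).2 (hcent (mem_centralizer_iff.2 fun y hy => ?_))
    exact congrArg Subtype.val (mem_centralizer_iff.1 hx ⟨y, hJH hy⟩ ((hO _).2 hy))
  obtain ⟨M1⟩ := exists_coord_of_hom hctr1 (by rw [Nat.card_congr em1.toEquiv, hQ])
    (ι.toMonoidHom.comp (ψ.comp (centralizer ({z1} : Set ↥H0)).subtype))
    (fun o => by
      obtain ⟨x, hx⟩ := hψs (ι.symm o)
      exact ⟨⟨x, mem_ctop x⟩, by simp [hx]⟩)
    (fun c => by
      show ι (ψ c) = 1 ↔ _
      rw [map_eq_one_iff ι ι.injective, hψk, hO])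
  -- transport
  let vec : G → W8 := fun x => if h : x ∈ H0 then M1.vec ⟨x, h⟩ else 0
  have hvec : ∀ {x : G} (h : x ∈ H0), vec x = M1.vec ⟨x, h⟩ := fun h => dif_pos h
  have hmul : ∀ {x y : G}, x ∈ O2c z → y ∈ O2c z → vec (x * y) = vec x + vec y := by
    intro x y hx hy
    rw [hvec (hJH hx), hvec (hJH hy), hvec (hJH (mul_mem hx hy))]
    exact M1.vec_mul ((hO ⟨x, hJH hx⟩).2 hx) ((hO ⟨y, hJH hy⟩).2 hy)
  have hsurj : ∀ v, ∃ x ∈ O2c z, vec x = v := by
    intro v
    obtain ⟨y, hy, hv⟩ := M1.surj v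
    exact ⟨y, (hO y).1 hy, by rw [hvec y.2, Subtype.coe_eta, hv]⟩
  have hvz : vec z = 0 := by rw [hvec (hJH hctr.z_mem)]; exact M1.vec_z
  have hcases : ∀ {x : G}, x ∈ O2c z → vec x = 0 → x = 1 ∨ x = z := by
    intro x hx h0
    rw [hvec (hJH hx)] at h0
    exact (M1.vec_cases ((hO ⟨x, hJH hx⟩).2 hx) h0).imp (congrArg Subtype.val) (congrArg Subtype.val)
  have hzbv : ∀ t, ((zb z1 t : ↥H0) : G) = zb z t := fun t => by cases t <;> rfl
  have hsq : ∀ {x : G}, x ∈ O2c z → x * x = zb z (qe M1.e (vec x)) := by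
    intro x hx
    rw [hvec (hJH hx), ← hzbv, ← M1.sq ((hO ⟨x, hJH hx⟩).2 hx)]
    rfl
  have hcomm : ∀ {x y : G}, x ∈ O2c z → y ∈ O2c z → x * y = zb z (bb (vec x) (vec y)) * (y * x) := by
    intro x y hx hy
    have h := congrArg Subtype.val (M1.comm ((hO ⟨x, hJH hx⟩).2 hx) ((hO ⟨y, hJH hy⟩).2 hy))
    push_cast at h
    rw [hzbv] at h
    rw [hvec (hJH hx), hvec (hJH hy)]
    exact h
  choose out hout houtv using hsurj
  let act : ↥C → W8 → W8 := fun c v => vec ((c : G) * out v * (c : G)⁻¹)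
  have hcJ : ∀ (c : ↥C) {x : G}, x ∈ O2c z → (c : G) * x * (c : G)⁻¹ ∈ O2c z := fun c {x} hx =>
    hctr.conj_mem (mem_centralizer_singleton_iff.1 c.2) hx
  have hact : ∀ (c : ↥C) {x : G}, x ∈ O2c z → vec ((c : G) * x * (c : G)⁻¹) = act c (vec x) := by
    intro c x hx
    have hd : vec ((out (vec x))⁻¹ * x) = 0 := by
      have h1 := hmul (hout (vec x)) (mul_mem (inv_mem (hout (vec x))) hx)
      rw [mul_inv_cancel_left, houtv] at h1
      exact left_eq_add.1 h1
    have hzc : (c : G) * z * (c : G)⁻¹ = z := by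
      rw [mem_centralizer_singleton_iff.1 c.2, mul_inv_cancel_right]
    have e0 : vec ((c : G) * ((out (vec x))⁻¹ * x) * (c : G)⁻¹) = 0 := by
      rcases hcases (mul_mem (inv_mem (hout _)) hx) hd with h | h <;> rw [h]
      · rw [mul_one, mul_inv_cancel, hvec (hJH (one_mem _))]; exact M1.vec_one
      · rw [hzc, hvz]
    calc vec ((c : G) * x * (c : G)⁻¹)
        = vec ((c : G) * out (vec x) * (c : G)⁻¹ * ((c : G) * ((out (vec x))⁻¹ * x) * (c : G)⁻¹)) := by
          congr 1; group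
      _ = _ := by rw [hmul (hcJ c (hout _)) (hcJ c (mul_mem (inv_mem (hout _)) hx)), e0, add_zero]
  have hact_mul : ∀ (c d : ↥C) (v : W8), act (c * d) v = act c (act d v) := by
    intro c d v
    rw [← hact c (hcJ d (hout v))]
    show vec (((c * d : ↥C) : G) * out v * ((c * d : ↥C) : G)⁻¹) = _
    congr 1; push_cast; group
  have hact_one : ∀ v, act 1 v = v := fun v => by
    show vec ((1 : G) * out v * (1 : G)⁻¹) = v
    rw [one_mul, inv_one, mul_one, houtv]
  let π : ↥C →* Equiv.Perm W8 :=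
    { toFun := fun c =>
        { toFun := act c
          invFun := act c⁻¹
          left_inv := fun v => by rw [← hact_mul, inv_mul_cancel, hact_one]
          right_inv := fun v => by rw [← hact_mul, mul_inv_cancel, hact_one] }
      map_one' := Equiv.ext hact_one
      map_mul' := fun c d => Equiv.ext (hact_mul c d) }
  have hagree : ∀ (c : ↥C) (hc : (c : G) ∈ H0),
      π c = M1.π ⟨⟨c, hc⟩, mem_ctop _⟩ := by
    intro c hc
    refine Equiv.ext fun v => ?_
    show vec ((c : G) * out v * (c : G)⁻¹) = _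
    rw [hvec (hJH (hcJ c (hout v)))]
    have h := M1.vec_conj ⟨⟨c, hc⟩, mem_ctop _⟩ ((hO ⟨out v, hJH (hout v)⟩).2 (hout v))
    rw [← hvec (hJH (hout v)), houtv] at h
    rw [← h]
    congr 1
  have hIle : M1.π.range ≤ π.range := by
    rintro _ ⟨c, rfl⟩
    refine ⟨inc c.1, ?_⟩
    rw [hagree (inc c.1) c.1.2]
    rfl
  have hker : ∀ c : ↥C, π c = 1 ↔ (c : G) ∈ O2c z := by
    intro c
    constructor
    · intro hc
      rw [← hφk]
      refine eq_one_of_commute_inn hcS fun s => ?_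
      obtain ⟨x, hx⟩ := hψs s
      have hn : cj.range.Normal := by
        refine ⟨fun a ha g => ?_⟩
        obtain ⟨t, rfl⟩ := ha
        exact ⟨g t, MulEquiv.ext fun w => by simp [cj, MulAut.conj_apply, MulAut.mul_apply, map_mul, map_inv]⟩
      set d : ↥C := c * inc x * c⁻¹ * (inc x)⁻¹ with hd
      have hdH : (d : G) ∈ H0 := hH0.2 ⟨d.2, by
        rw [Subtype.coe_eta, hd, map_mul, map_mul, map_mul, map_inv, map_inv]
        exact mul_mem (hn.conj_mem _ (hincr x) _) (inv_mem (hincr x))⟩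
      have hd1 : π d = 1 := by
        rw [hd, map_mul, map_mul, map_mul, map_inv, map_inv, hc]; simp
      rw [hagree d hdH, M1.ker, hO] at hd1
      have h := (hφk d).2 hd1
      rw [hd, map_mul, map_mul, map_mul, map_inv, map_inv, mul_inv_eq_one, mul_inv_eq_iff_eq_mul, ← hψ x, hx] at h
      exact h
    · intro hc
      rw [hagree c (hJH hc), M1.ker, hO]
      exact hc
  have hcardR : Nat.card ↥π.range = 51840 := by
    have hk : π.ker = φ.ker := by
      ext c; rw [MonoidHom.mem_ker, MonoidHom.mem_ker, hker, hφk]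
    rw [← Nat.card_congr (QuotientGroup.quotientKerEquivRange π).toEquiv, hk,
      Nat.card_congr (QuotientGroup.quotientKerEquivOfSurjective φ hφs).toEquiv, hcardA]
  refine ⟨{
    two := hz
    ctr := hctr
    card := hQ
    e := M1.e
    vec := vec
    π := π
    vec_mul := hmul
    vec_z := hvz
    vec_cases := hcases
    surj := fun v => ⟨out v, hout v, houtv v⟩
    sq := hsq
    comm := hcomm
    vec_conj := fun c {x} hx => hact c hx
    ker := hker
    iso := ?_
    I := M1.π.range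
    I_le := hIle
    card_range := hcardR
    cent := ?_
    shape := ?_ }⟩
  · rintro _ ⟨c, rfl⟩
    refine ⟨fun v w => ?_, fun v => ?_, fun h => absurd h (by decide)⟩
    · show act c (v + w) = act c v + act c w
      conv_lhs => rw [← houtv v, ← houtv w, ← hmul (hout v) (hout w), ← hact c (mul_mem (hout v) (hout w))]
      rw [← hmul (hcJ c (hout v)) (hcJ c (hout w))]
      congr 1; group
    · show qe M1.e (act c v) = qe M1.e v
      conv_rhs => rw [← houtv v]
      apply zb_ne hctr.ne_one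
      rw [← hsq (hout v), show act c v = vec ((c : G) * out v * (c : G)⁻¹) from rfl, ← hsq (hcJ c (hout v))]
      have e' : (c : G) * out v * (c : G)⁻¹ * ((c : G) * out v * (c : G)⁻¹) =
          (c : G) * (out v * out v) * (c : G)⁻¹ := by group
      rw [e']
      rcases hctr.sq_cases (hout v) with h | h <;> rw [h]
      · group
      · rw [mem_centralizer_singleton_iff.1 c.2, mul_inv_cancel_right]
  · rintro _ ⟨c, rfl⟩ hcom
    rw [hker, ← hφk]
    refine eq_one_of_commute_inn hcS fun s => ?_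
    obtain ⟨x, hx⟩ := hψs s
    have h := hcom (π (inc x)) ⟨⟨x, mem_ctop _⟩, (hagree (inc x) x.2).symm⟩
    have h' : π (c * inc x * c⁻¹ * (inc x)⁻¹) = 1 := by
      rw [map_mul, map_mul, map_mul, map_inv, map_inv, h]; group
    rw [hker, ← hφk, map_mul, map_mul, map_mul, map_inv, map_inv, mul_inv_eq_one, mul_inv_eq_iff_eq_mul,
      ← hψ x, hx] at h'
    exact h'
  · rcases M1.shape_cases with h | h
    · exact Or.inl h
    · exact Or.inr h

end Cfsg.Agent.ThreeTransp.U62Cent
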