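import Cfsg.Agent.Lib.ThreeTransp.U62Cent.AutNatFacts
import Cfsg.Agent.S5596

/-!
# In the natural shape `O₂(C(z))` holds no other conjugate of `z` (automorphism group case)
-/

set_option autoImplicit false
set_option linter.unusedSectionVars false
set_option maxRecDepth 100000

namespace Cfsg.Agent.ThreeTransp.U62Cent

open W8 Subgroup Cfsg.Agent.LargeExtra

universe u

variable {G : Type u} [Group G]

namespace ACoord

variable [Finite G] {z : G} (M : ACoord z)

include M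

/-- The centraliser in the core of a core element outside the centre is not abelian. -/
theorem Ja_J_nonabelian {a : G} (haJ : a ∈ O2c z) (hv : M.vec a ≠ 0) :
    ∃ x ∈ Ja z a, ∃ y ∈ Ja z a, ¬ Commute x y := by
  obtain ⟨v, -, hv1, w, -, hw1, hvw⟩ := (N.perp_pair (M.vec a)).resolve_left hv
  refine ⟨M.lift v, M.mem_Ja_of_bb haJ (M.lift_mem v) (by rw [M.vec_lift, hv1]),
    M.lift w, M.mem_Ja_of_bb haJ (M.lift_mem w) (by rw [M.vec_lift, hw1]), fun hc => ?_⟩
  have := M.bb_of_commute (M.lift_mem w) (M.lift_mem v) hc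
  rw [M.vec_lift, M.vec_lift, hvw] at this
  exact absurd this (by decide)

/-- The flip of a member in the core acts as an inner element. -/
theorem flip_inner_of_J {g a b : G} (ha : a ∈ cls z) (haJ : a ∈ O2c z) (hne : a ≠ z)
    (hg : g * z * g⁻¹ = a) (hb : g * b * g⁻¹ = z) : M.img b ∈ M.I := by
  by_contra hout
  obtain ⟨x, hx, y, hy, hxy⟩ := M.Ja_J_nonabelian haJ (M.J_facts ha haJ hne).2.1
  refine hxy (M.abelian_of_outer (g := g⁻¹) (a := b) (b := a) ?_ ?_ hout hx hy)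
  · rw [← hb]; group
  · rw [← hg]; group

theorem singular_mem_cls (hN : INat M.I) (he : M.e = true) {a : G} (ha : a ∈ cls z)
    (haJ : a ∈ O2c z) (hne : a ≠ z) {y : G} (hy : y ∈ O2c z) (hy0 : M.vec y ≠ 0)
    (hq : qe true (M.vec y) = false) : y ∈ cls z ∧ y ≠ z := by
  obtain ⟨haq, hav, -⟩ := M.J_facts ha haJ hne
  rw [he] at haq
  obtain ⟨g, hg, e1⟩ := hN.trans5 hav haq
  obtain ⟨h, hh, e2⟩ := hN.trans5 hy0 hq
  obtain ⟨c, -, -, e⟩ := M.lift_exact (t := h * g⁻¹) (M.I_le (mul_mem hh (inv_mem hg))) haJ hy hy0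
    (by rw [← e1]; simpa using e2)
  exact ⟨e ▸ conj_mem_cls c ha, fun h' => hy0 (h' ▸ M.vec_z)⟩

theorem nat_mem_Ja (hN : INat M.I) (he : M.e = true) {a : G} (ha : a ∈ cls z)
    (haJ : a ∈ O2c z) (hne : a ≠ z) : z ∈ O2c a := by
  obtain ⟨haq, hav, hac⟩ := M.J_facts ha haJ hne
  rw [he] at haq
  obtain ⟨g, b, hg, hb, hbc, hbz, hbne⟩ := M.flip ha hac hne
  by_contra hcon
  have hbJ : b ∉ O2c z := fun h => hcon ((M.flip_J hg hb).1 h)
  have h1 : Nat.card ↥(Cz z a) * 135 = 51840 * 256 := by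
    rw [M.card_Cz a, M.card_Ja_J haJ hav, ← M.card_range, ← N.ncard_singular,
      ← stab_mul (I := M.π.range) (M.vec a) (O := {v | qe true v = false ∧ v ≠ 0})
        (fun t ht => ⟨by rw [← he, (M.iso t ht).q, he]; exact haq,
          fun e => hav ((M.iso t ht).injective (e.trans (M.iso t ht).map_zero.symm))⟩)
        (fun w hw => by
          obtain ⟨s, hs, e1⟩ := hN.trans5 hav haq
          obtain ⟨r, hr, e2⟩ := hN.trans5 hw.2 hw.1
          exact ⟨r * s⁻¹, M.I_le (mul_mem hr (inv_mem hs)), by rw [← e1]; simpa using e2⟩)]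
    have e : Nat.card ↥(M.Cimg a) = Nat.card ↥(MulAction.stabilizer ↥M.π.range (M.vec a)) := by
      refine Nat.card_congr
        { toFun := fun t => ⟨⟨t, ((M.Cimg_J haJ hav).1 t.2).1⟩, ((M.Cimg_J haJ hav).1 t.2).2⟩
          invFun := fun s => ⟨s.1, (M.Cimg_J haJ hav).2 ⟨s.1.2, s.2⟩⟩
          left_inv := fun _ => rfl
          right_inv := fun _ => rfl }
    rw [e]
    ring
  rw [card_Cz_flip hg hb, M.card_Cz b] at h1
  have hx : M.img b * M.img b = 1 := by
    rw [← M.img_mul hbz hbz, show b * b = 1 by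
      obtain ⟨k, rfl⟩ := hbc
      rw [show k * z * k⁻¹ * (k * z * k⁻¹) = k * (z * z) * k⁻¹ by group, M.zz, mul_one, mul_inv_cancel],
      M.img_J (one_mem _)]
  obtain ⟨y, -, hy⟩ := hN.classes (M.flip_inner_of_J ha haJ hne hg hb) hx
    fun e => hbJ ((M.img_eq_one hbz).1 e)
  have hfix : {v : W8 | M.img b v = v}.ncard ≤ 64 := by
    rcases hy with hy | hy
    · exact le_of_eq ((ncard_fix_conj hy).trans N.ncard_fix0)
    · exact le_of_eq_of_le ((ncard_fix_conj hy).trans N.ncard_fix1) (by norm_num)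
  have h2 : Nat.card ↥(Ja z b) ≤ 128 :=
    (M.card_le_two_mul (S := Ja z b) inf_le_left (F := {v | M.img b v = v})
      fun x hx' => M.fix_of_commute hbz hx'.1 (mem_Ja.1 hx').2.symm).trans (by omega)
  obtain ⟨k, hk⟩ := M.card_Ja_pow b
  rw [hk] at h1 h2
  have hk7 : k ≤ 7 := (Nat.pow_le_pow_iff_right (by norm_num : 1 < 2)).1 (h2.trans_eq (by norm_num))
  have hd : 98304 ∣ 51840 * 2 ^ 7 :=
    dvd_trans ⟨1, by omega⟩ (mul_dvd_mul (M.card_range ▸ card_dvd_of_le (M.Cimg_le b)) (pow_dvd_pow 2 hk7))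
  norm_num at hd

/-- `σ (vec a)` lies in the core of `a` for the standard member. -/
theorem nat_sig_std (hN : INat M.I) (he : M.e = true) {a0 : G} (ha0 : a0 ∈ cls z)
    (ha0J : a0 ∈ O2c z) (hne0 : a0 ≠ z) (hva0 : M.vec a0 = W8.mk 5) :
    W8.mk 10 ∈ M.vimg (Xa z a0) := by
  have h5 : qe true (W8.mk 5) = false ∧ W8.mk 5 ≠ 0 ∧ W8.sig (W8.mk 5) = W8.mk 10 ∧
      W8.mk 15 + W8.mk 5 = W8.mk 10 := by decide +kernel
  have hz0 := M.nat_mem_Ja hN he ha0 ha0J hne0
  have hctr : Ctr (O2c a0) a0 := M.ctr_of ha0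
  have hX : Xa z a0 ≤ O2c z := inf_le_left
  have haX : a0 ∈ Xa z a0 := ⟨ha0J, hctr.z_mem⟩
  have hsq : ∀ x ∈ Xa z a0, x * x = 1 := by
    intro x hx
    rcases M.ctr.sq_cases hx.1 with e | e
    · exact e
    · rcases hctr.sq_cases hx.2 with e' | e'
      · exact e'
      · exact absurd (e'.symm.trans e) hne0
  have hnotsmall : ∃ v ∈ M.vimg (Xa z a0), v ≠ 0 ∧ v ≠ W8.mk 5 := by
    by_contra hcon
    push Not at hcon
    obtain ⟨g, b, hg, hb, hbc, hbz, hbne⟩ := M.flip ha0 (commute_of_O2c ha0J) hne0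
    have hbJ : b ∈ O2c z := (M.flip_J hg hb).2 hz0
    have hQ : Nat.card ↥(Qa z a0) = 256 := by
      rw [M.card_Qa hg hb, M.card_Ja_J hbJ (M.J_facts hbc hbJ hbne).2.1]
    have hfix : ∀ t ∈ M.Abar a0, t (W8.mk 5) = W8.mk 5 := fun t ht => by
      obtain ⟨q, hq, rfl⟩ := M.mem_Abar.1 ht
      rw [← hva0]
      exact M.fix_of_commute (mem_Qa.1 hq).2 ha0J (commute_of_O2c hq.1)
    have hmove : ∀ t ∈ M.Abar a0, ∀ v, bb v (W8.mk 5) = false → t v + v = 0 ∨ t v + v = W8.mk 5 := by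
      intro t ht v hv
      obtain ⟨q, hq, rfl⟩ := M.mem_Abar.1 ht
      obtain ⟨y, hy, rfl⟩ := M.surj v
      have hyJa : y ∈ Ja z a0 := M.mem_Ja_of_bb ha0J hy (by rw [hva0]; exact hv)
      have hx := M.commutator_Xa ha0 hq hyJa
      rw [← (M.commutator_J (mem_Qa.1 hq).2 hy).2]
      by_cases e : M.vec (q * y * q⁻¹ * y⁻¹) = 0
      · exact Or.inl e
      · exact Or.inr (hcon _ ⟨_, hx, rfl⟩ e)
    have hlin : M.Abar a0 ≤ M.I := by
      intro t ht
      by_contra hout
      have htR := M.Abar_le a0 ht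
      obtain ⟨hb1, hb2, hb3⟩ := N.semi_test
      have hmem : ∀ v, bb v (W8.mk 5) = false → t v + v ∈ vecs [0, 5] := fun v hv => by
        rcases hmove t ht v hv with e | e <;> rw [e] <;> decide +kernel
      refine hb3 _ (hmem _ hb1) _ (hmem _ hb2) ?_
      rw [M.nat_semi hN he htR hout, add_left_comm, W8.add_self, add_zero]
    have hA : Nat.card ↥(M.Abar a0) < 64 :=
      N.rad_group (hlin.trans hN.le) hfix hmove
    have hXc : Nat.card ↥(Xa z a0) ≤ 4 := by
      refine (M.card_le_two_mul hX (F := (↑({0, W8.mk 5} : Finset W8) : Set W8)) fun x hx => ?_).trans ?_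
      · by_cases e : M.vec x = 0
        · simp [e]
        · simp [hcon _ ⟨x, hx, rfl⟩ e]
      · rw [Set.ncard_coe_finset]
        exact (Nat.mul_le_mul_left 2 Finset.card_le_two)
    have h := M.card_Qa_eq a0
    rw [hQ] at h
    nlinarith
  obtain ⟨v, hv, hv0, hv5⟩ := hnotsmall
  obtain ⟨x, hx, rfl⟩ := hv
  have hxq : qe true (M.vec x) = false := he ▸ M.qe_of_sq hx.1 (hsq x hx)
  have hxb : bb (M.vec x) (W8.mk 5) = false := by
    rw [← hva0]
    exact M.bb_of_commute ha0J hx.1 (commute_of_O2c hx.2)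
  have hinv : ∀ w ∈ Data.mvN, ∀ v ∈ M.vimg (Xa z a0), wT w v ∈ M.vimg (Xa z a0) := by
    rintro w hw _ ⟨y, hy, rfl⟩
    obtain ⟨hok, hfix⟩ := N.mv_ok w hw
    obtain ⟨t, ht, et⟩ := hN.word hok
    obtain ⟨c, h1, h2, h3⟩ := M.lift_exact (M.I_le ht) ha0J ha0J (by rw [hva0]; exact h5.2.1)
      (by rw [hva0, et, hfix])
    refine ⟨c * y * c⁻¹, ⟨M.conj_J h1 hy.1, hctr.conj_mem (mul_inv_eq_iff_eq_mul.1 h3) hy.2⟩, ?_⟩
    rw [M.vec_conj' h1 hy.1, h2, et]
  have hadd : ∀ {p r : W8}, p ∈ M.vimg (Xa z a0) → r ∈ M.vimg (Xa z a0) → p + r ∈ M.vimg (Xa z a0) :=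
    fun hp hr => M.add_mem_vimg hX hp hr
  have hx' : M.vec x ∈ M.vimg (Xa z a0) := ⟨x, hx, rfl⟩
  have h5m : W8.mk 5 ∈ M.vimg (Xa z a0) := ⟨a0, haX, hva0⟩
  have hfin : ∀ {r : W8}, r ∈ M.vimg (Xa z a0) → r = W8.mk 10 ∨ r = W8.mk 15 →
      W8.mk 10 ∈ M.vimg (Xa z a0) := by
    rintro r hr (rfl | rfl)
    · exact hr
    · exact h5.2.2.2 ▸ hadd hr h5m
  rcases N.move (M.vec x) with e | e | e | e | e | e | ⟨g, hg, e⟩ | ⟨g, hg, h, hh, e⟩
  · rw [hxq] at e; exact absurd e (by decide)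
  · rw [hxb] at e; exact absurd e (by decide)
  · exact absurd e hv0
  · exact absurd e hv5
  · exact hfin hx' (Or.inl e)
  · exact hfin hx' (Or.inr e)
  · exact hfin (hadd (hinv g hg _ hx') hx') e
  · exact hfin (hadd (hinv h hh _ (hadd (hinv g hg _ hx') hx')) (hadd (hinv g hg _ hx') hx')) e

/-- In the natural module `σ u` lies in the core of a lift of `u`. -/
theorem nat_sig_mem (hN : INat M.I) (he : M.e = true) {a : G} (ha : a ∈ cls z)
    (haJ : a ∈ O2c z) (hne : a ≠ z) :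
    ∃ b ∈ O2c z, M.vec b = W8.sig (M.vec a) ∧ b ∈ O2c a := by
  obtain ⟨haq, hav, -⟩ := M.J_facts ha haJ hne
  rw [he] at haq
  have h5 : qe true (W8.mk 5) = false ∧ W8.mk 5 ≠ 0 := by decide +kernel
  obtain ⟨a0, ha0J, hva0⟩ := M.surj (W8.mk 5)
  obtain ⟨ha0, hne0⟩ := M.singular_mem_cls hN he ha haJ hne ha0J (by rw [hva0]; exact h5.2)
    (by rw [hva0]; exact h5.1)
  obtain ⟨x, hx, hxv⟩ := M.nat_sig_std hN he ha0 ha0J hne0 hva0
  obtain ⟨t, ht, et⟩ := hN.trans5 hav haq
  obtain ⟨c, h1, h2, h3⟩ := M.lift_exact (M.I_le ht) ha0J haJ hav (by rw [hva0, et])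
  refine ⟨c * x * c⁻¹, M.conj_J h1 hx.1, ?_, h3 ▸ (mem_O2c_conj c a0 x).2 hx.2⟩
  rw [M.vec_conj' h1 hx.1, h2, hxv, ← N.semi_ten.2, (hN.le ht).sig rfl, et]

/-- A normal `2`-subgroup of the centraliser of the singular group moves the fixed space into the line. -/
theorem normal_two_small (hN : INat M.I) {a b : G} (haJ : a ∈ O2c z) (hbJ : b ∈ O2c z)
    (hva : M.vec a = W8.mk 5) (hvb : M.vec b = W8.mk 10) {K P : Subgroup G}
    (hK : ∀ {c : G}, c ∈ K ↔ Commute c z ∧ Commute c a ∧ Commute c b)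
    (hKI : ∀ c ∈ K, M.img c ∈ M.I) (hPK : P ≤ K) (hn : ∀ d ∈ K, ∀ p ∈ P, d * p * d⁻¹ ∈ P)
    (hP : IsPGroup 2 ↥P) : ∀ p ∈ P, ∀ v ∈ N.C0, M.img p v + v ∈ N.L0 := by
  classical
  haveI : Fact (Nat.Prime 2) := ⟨Nat.prime_two⟩
  have hz : ∀ {p}, p ∈ P → Commute p z := fun hp => (hK.1 (hPK hp)).1
  have hlin : ∀ {p}, p ∈ P → IsIso true true (M.img p) := fun hp => hN.le (hKI _ (hPK hp))
  have h5 : ∀ {p}, p ∈ P → M.img p (W8.mk 5) = W8.mk 5 := fun hp => by
    rw [← hva]; exact M.fix_of_commute (hz hp) haJ (hK.1 (hPK hp)).2.1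
  have h10 : ∀ {p}, p ∈ P → M.img p (W8.mk 10) = W8.mk 10 := fun hp => by
    rw [← hvb]; exact M.fix_of_commute (hz hp) hbJ (hK.1 (hPK hp)).2.2
  have hC : ∀ {p}, p ∈ P → ∀ v ∈ N.C0, M.img p v ∈ N.C0 := fun hp v hv => by
    rw [← N.perp_C0] at hv ⊢
    exact ⟨by conv_lhs => rw [← h5 hp]
              rw [M.img_bb, hv.1],
           by conv_lhs => rw [← h10 hp]
              rw [M.img_bb, hv.2]⟩
  have hL : ∀ {p}, p ∈ P → ∀ l ∈ N.L0, M.img p l = l := fun hp l hl => by
    rcases N.L0_comb (W8.mk 5) (by decide +kernel) l hl with e | e | e | e | e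
    · exact absurd e (by decide +kernel)
    · rw [e, M.img_zero]
    · rw [e, h5 hp]
    · rw [e, N.semi_ten.2, h10 hp]
    · rw [e, N.semi_ten.2, M.img_add, h10 hp, h5 hp]
  -- the action on the complement
  have hprj : ∀ {p}, p ∈ P → ∀ v ∈ N.C0, prj N.L0 N.W0 (M.img p (prj N.L0 N.W0 v)) = prj N.L0 N.W0 (M.img p v) := by
    intro p hp v hv
    obtain ⟨h1, h2⟩ := N.split0.prj_mem v hv
    refine N.split0.prj_eq (hC hp _ (N.split0.W_sub _ h1)) (N.split0.prj_mem _ (hC hp v hv)).1 ?_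
    have h3 := (N.split0.prj_mem _ (hC hp v hv)).2
    have h4 : M.img p (v + prj N.L0 N.W0 v) ∈ N.L0 := by rw [hL hp _ h2]; exact h2
    rw [M.img_add] at h4
    have h5' := N.split0.L_add _ h3 _ h4
    rwa [show M.img p v + prj N.L0 N.W0 (M.img p v) + (M.img p v + M.img p (prj N.L0 N.W0 v)) =
      M.img p (prj N.L0 N.W0 v) + prj N.L0 N.W0 (M.img p v) + (M.img p v + M.img p v) by abel,
      W8.add_self, add_zero] at h5'
  letI act : MulAction ↥P {w // w ∈ N.W0} :=
    { smul := fun p w => ⟨prj N.L0 N.W0 (M.img (p : G) w),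
        (N.split0.prj_mem _ (hC p.2 _ (N.split0.W_sub _ w.2))).1⟩
      one_smul := fun w => Subtype.ext (by
        show prj N.L0 N.W0 (M.img 1 w) = w
        rw [M.img_J (one_mem _)]
        exact N.split0.prj_W w.2 (by decide +kernel))
      mul_smul := fun p q w => Subtype.ext (by
        show prj N.L0 N.W0 (M.img ((p : G) * q) w) = prj N.L0 N.W0 (M.img (p : G) (prj N.L0 N.W0 (M.img (q : G) w)))
        rw [M.img_mul (hz p.2) (hz q.2), hprj p.2 _ (hC q.2 _ (N.split0.W_sub _ w.2))]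
        rfl) }
  have h0W : (0 : W8) ∈ N.W0 := by decide +kernel
  have hW16 : Nat.card {w // w ∈ N.W0} = 16 := by
    rw [Nat.card_eq_fintype_card, Fintype.card_of_subtype N.W0.toFinset (fun w => List.mem_toFinset)]
    decide +kernel
  obtain ⟨w, hw, hw0⟩ := hP.exists_fixed_point_of_prime_dvd_card_of_fixed_point {w // w ∈ N.W0}
    (by rw [hW16]; norm_num) (a := ⟨0, h0W⟩) (fun p => Subtype.ext (by
      show prj N.L0 N.W0 (M.img (p : G) 0) = 0
      rw [M.img_zero]; exact N.split0.prj_W h0W (by decide +kernel)))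
  have hfixw : ∀ {p}, p ∈ P → M.img p w.1 + w.1 ∈ N.L0 := fun {p} hp => by
    have e := congrArg Subtype.val (hw ⟨p, hp⟩)
    have h := (N.split0.prj_mem _ (hC hp _ (N.split0.W_sub _ w.2))).2
    rwa [show prj N.L0 N.W0 (M.img p w.1) = w.1 from e] at h
  -- a translate
  obtain ⟨g, hg, hgr⟩ := (N.grow w.1 w.2).resolve_left fun e => hw0 (Subtype.ext e.symm)
  obtain ⟨hok, hg5⟩ := N.mv_ok g hg
  obtain ⟨t, ht, et⟩ := hN.word hok
  have hv0 : W8.mk 5 ≠ 0 := by decide +kernel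
  obtain ⟨c, hc1, hc2, hc3⟩ := M.lift_exact (M.I_le ht) haJ haJ (by rw [hva]; exact hv0)
    (by rw [hva, et, hg5])
  have ht10 : t (W8.mk 10) = W8.mk 10 := by
    rw [← N.semi_ten.2, (hN.le ht).sig rfl, et, hg5]
  obtain ⟨s, hs⟩ := M.eq_zb hbJ (M.conj_J hc1 hbJ) (by rw [M.vec_conj' hc1 hbJ, hc2, hvb, ht10])
  obtain ⟨j, hjK, hjt⟩ : ∃ j, j ∈ K ∧ M.img j = t := by
    cases s
    · refine ⟨c, hK.2 ⟨hc1, mul_inv_eq_iff_eq_mul.1 hc3, ?_⟩, hc2⟩
      rw [zb_false, mul_one] at hs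
      exact mul_inv_eq_iff_eq_mul.1 hs
    · obtain ⟨f, hf5, hf10⟩ := N.flip_ten
      refine ⟨M.lift f * c, hK.2 ⟨(commute_of_O2c (M.lift_mem f)).mul_left hc1, ?_, ?_⟩, ?_⟩
      · refine mul_inv_eq_iff_eq_mul.1 ?_
        rw [show M.lift f * c * a * (M.lift f * c)⁻¹ = M.lift f * (c * a * c⁻¹) * (M.lift f)⁻¹ by group, hc3,
          M.conj_J_eq (M.lift_mem f) haJ, M.vec_lift, hva, hf5, zb_false, mul_one]
      · refine mul_inv_eq_iff_eq_mul.1 ?_
        rw [show M.lift f * c * b * (M.lift f * c)⁻¹ = M.lift f * (c * b * c⁻¹) * (M.lift f)⁻¹ by group, hs,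
          zb_true, M.conj_J_eq (M.lift_mem f) (mul_mem hbJ M.z_mem), M.vec_mul hbJ M.z_mem, M.vec_z,
          add_zero, M.vec_lift, hvb, hf10, zb_true, mul_assoc, M.zz, mul_one]
      · rw [M.img_mul (commute_of_O2c (M.lift_mem f)) hc1, M.img_J (M.lift_mem f), one_mul, hc2]
  intro p hp
  have hL0 : ∀ l ∈ N.L0, wT g l ∈ N.L0 := fun l hl => by
    rw [← et]
    rcases N.L0_comb (W8.mk 5) (by decide +kernel) l hl with e | e | e | e | e
    · exact absurd e (by decide +kernel)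
    · rw [e, (hN.le ht).map_zero]; decide +kernel
    · rw [e, et, hg5]; decide +kernel
    · rw [e, N.semi_ten.2, ht10]; decide +kernel
    · rw [e, N.semi_ten.2, (hN.le ht).add, ht10, et, hg5]; decide +kernel
  have hgw : M.img p (wT g w.1) + wT g w.1 ∈ N.L0 := by
    have hq : j⁻¹ * p * j ∈ P := by
      have := hn j⁻¹ (inv_mem hjK) p hp
      rwa [inv_inv] at this
    have h := hL0 _ (hfixw hq)
    rw [← et, ← hjt] at h
    have e2 : M.img j (M.img (j⁻¹ * p * j) w.1) = M.img p (M.img j w.1) := by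
      have hjz := (hK.1 hjK).1
      show (M.img j * M.img (j⁻¹ * p * j)) w.1 = (M.img p * M.img j) w.1
      rw [← M.img_mul hjz (hz hq), ← M.img_mul (hz hp) hjz, mul_assoc, mul_inv_cancel_left]
    rw [← et, ← hjt]
    rwa [M.img_add, e2] at h
  have hsig : ∀ {v}, M.img p v + v ∈ N.L0 → M.img p (W8.sig v) + W8.sig v ∈ N.L0 := fun {v} hv => by
    rw [(hlin hp).sig rfl, ← W8.sig_add]
    exact N.C0_lt.2.2.2.2.2.2.2.1 _ hv
  have hspan : ∀ l : List W8, (∀ x ∈ l, M.img p x + x ∈ N.L0) → ∀ x ∈ span l, M.img p x + x ∈ N.L0 := by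
    intro l
    induction l with
    | nil => intro _ x hx; rw [List.mem_singleton.1 hx, M.img_zero, add_zero]; decide +kernel
    | cons d l ih =>
      intro hl x hx
      have ih' := ih fun u hu => hl u (List.mem_cons_of_mem _ hu)
      rcases List.mem_append.1 hx with hx | hx
      · exact ih' x hx
      · obtain ⟨y, hy, rfl⟩ := List.mem_map.1 hx
        rw [M.img_add, add_add_add_comm]
        exact N.split0.L_add _ (hl d List.mem_cons_self) _ (ih' y hy)
  intro v hv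
  refine hspan _ ?_ v (List.contains_iff_mem.1 (List.all_eq_true.1 hgr v hv))
  intro x hx
  simp only [List.mem_cons, List.not_mem_nil, or_false] at hx
  rcases hx with rfl | rfl | rfl | rfl | rfl | rfl
  · rw [h5 hp, W8.add_self]; decide +kernel
  · rw [h10 hp, W8.add_self]; decide +kernel
  · exact hfixw hp
  · exact hsig (hfixw hp)
  · exact hgw
  · exact hsig hgw

theorem nat_not_J (hN : INat M.I) (he : M.e = true) {a : G} (ha' : a ∈ cls z)
    (haJ' : a ∈ O2c z) : a = z := by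
  classical
  haveI : Fact (Nat.Prime 2) := ⟨Nat.prime_two⟩
  by_contra hne'
  obtain ⟨a, haJ, hva⟩ := M.surj (W8.mk 5)
  have h5f : qe true (W8.mk 5) = false ∧ W8.mk 5 ≠ 0 ∧ W8.mk 10 ≠ 0 ∧ W8.mk 10 + W8.mk 5 ≠ 0 := by
    decide +kernel
  obtain ⟨ha, hne⟩ := M.singular_mem_cls hN he ha' haJ' hne' haJ (by rw [hva]; exact h5f.2.1)
    (by rw [hva]; exact h5f.1)
  obtain ⟨b, hbJ, hbv, hba⟩ := M.nat_sig_mem hN he ha haJ hne
  rw [hva, N.semi_ten.2] at hbv
  -- the singular group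
  let U : Subgroup G :=
    { carrier := {x | x ∈ O2c z ∧ M.vec x ∈ N.L0}
      one_mem' := ⟨one_mem _, by rw [M.vec_one]; decide +kernel⟩
      mul_mem' := fun {x y} hx hy => ⟨mul_mem hx.1 hy.1, by
        rw [M.vec_mul hx.1 hy.1]; exact N.split0.L_add _ hx.2 _ hy.2⟩
      inv_mem' := fun {x} hx => ⟨inv_mem hx.1, by rw [M.vec_inv hx.1]; exact hx.2⟩ }
  have hsq : ∀ x ∈ U, x * x = 1 := fun x hx => by
    rw [M.sq hx.1, he, N.L0_sing _ hx.2, zb_false]
  have hcls : ∀ x ∈ U, x ≠ 1 → x ∈ cls z := by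
    intro x hx h1
    by_cases h0 : M.vec x = 0
    · rcases M.vec_cases hx.1 h0 with e | e
      · exact absurd e h1
      · rw [e]; exact self_mem_cls z
    · exact (M.singular_mem_cls hN he ha haJ hne hx.1 h0 (N.L0_sing _ hx.2)).1
  have horth : ∀ y ∈ U, y ≠ 1 → ∀ x ∈ U, x ∈ O2c y := by
    intro y hy hy1 x hx
    by_cases h0 : M.vec y = 0
    · rcases M.vec_cases hy.1 h0 with e | e
      · exact absurd e hy1
      · rw [e]; exact hx.1
    · obtain ⟨hycls, hyne⟩ := M.singular_mem_cls hN he ha haJ hne hy.1 h0 (N.L0_sing _ hy.2)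
      obtain ⟨d, hdJ, hdv, hd⟩ := M.nat_sig_mem hN he hycls hy.1 hyne
      have hzy := M.nat_mem_Ja hN he hycls hy.1 hyne
      have hyy := (M.ctr_of hycls).z_mem
      have hclose : ∀ w ∈ O2c y, w ∈ O2c z → M.vec x = M.vec w → x ∈ O2c y := by
        intro w hw hwJ e
        obtain ⟨t, rfl⟩ := M.eq_zb hwJ hx.1 e.symm
        cases t
        · rwa [zb_false, mul_one]
        · exact mul_mem hw hzy
      rcases N.L0_comb _ hy.2 _ hx.2 with e | e | e | e | e
      · exact absurd e h0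
      · exact hclose 1 (one_mem _) (one_mem _) (by rw [e, M.vec_one])
      · exact hclose y hyy hy.1 e
      · exact hclose d hd hdJ (by rw [e, hdv])
      · exact hclose (d * y) (mul_mem hd hyy) (mul_mem hdJ hy.1)
          (by rw [e, M.vec_mul hdJ hy.1, hdv])
  have haU : a ∈ U := ⟨haJ, by rw [hva]; decide +kernel⟩
  have hbU : b ∈ U := ⟨hbJ, by rw [hbv]; decide +kernel⟩
  have hzU : z ∈ U := ⟨M.z_mem, by rw [M.vec_z]; decide +kernel⟩
  have hcard : Nat.card ↥U = 2 ^ 3 := by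
    have hLc : ({v | v ∈ N.L0} : Set W8).ncard = 4 := by
      rw [show ({v | v ∈ N.L0} : Set W8) = (↑N.L0.toFinset : Set W8) by ext v; simp,
        Set.ncard_coe_finset]
      decide +kernel
    refine le_antisymm ((M.card_le_two_mul (S := U) (fun x hx => hx.1) (F := {v | v ∈ N.L0})
      fun x hx => hx.2).trans (by omega)) ?_
    refine le_trans (by omega) (M.ncard_le_card (S := U) (F := {v | v ∈ N.L0}) fun v hv t =>
      ⟨mul_mem (M.lift_mem v) (M.zb_mem t), by
        rw [M.vec_mul (M.lift_mem v) (M.zb_mem t), M.vec_lift, M.vec_zb, add_zero]; exact hv⟩)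
  have hUinv : ∀ q : ↥U, q⁻¹ = q := fun q => inv_eq_of_mul_eq_one_right (Subtype.ext (hsq q q.2))
  have hUcomm : ∀ x y : ↥U, x * y = y * x := fun x y =>
    calc x * y = (x * y)⁻¹ := (hUinv _).symm
      _ = _ := by rw [mul_inv_rev, hUinv, hUinv]
  -- the automorphism exchanging `z` and `a`
  let Z : ↥U := ⟨z, hzU⟩
  let A : ↥U := ⟨a, haU⟩
  let B : ↥U := ⟨b, hbU⟩
  have hsq' : ∀ q : ↥U, q * q = 1 := fun q => Subtype.ext (hsq q q.2)
  let Kr : Subgroup ↥U :=
    { carrier := {x | x = 1 ∨ x = B ∨ x = Z * A ∨ x = Z * A * B}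
      one_mem' := Or.inl rfl
      mul_mem' := by
        have hl : ∀ p q : ↥U, p * (p * q) = q := fun p q => by rw [← mul_assoc, hsq', one_mul]
        have hr : ∀ p q : ↥U, p * q * q = p := fun p q => by rw [mul_assoc, hsq', mul_one]
        rintro x y (rfl | rfl | rfl | rfl) hy
        · simpa using hy
        all_goals
          rcases hy with rfl | rfl | rfl | rfl
        all_goals
          simp only [Set.mem_setOf_eq, mul_one, hsq', hl, hr, hUcomm B (Z * A), hUcomm B (Z * A * B),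
            hUcomm (Z * A * B) (Z * A), true_or, or_true, eq_self_iff_true]
      inv_mem' := fun {x} hx => by rwa [hUinv] }
  have hvec2 : ∀ {q : ↥U} {v : W8}, M.vec (q : G) = v → v ≠ 0 → q ≠ 1 := fun {q v} e hv h => hv (by
    rw [← e, h]; exact M.vec_one)
  have hvZA : M.vec ((Z * A : ↥U) : G) = W8.mk 5 := by
    show M.vec (z * a) = _
    rw [M.vec_mul M.z_mem haJ, M.vec_z, zero_add, hva]
  have hvZAB : M.vec ((Z * A * B : ↥U) : G) = W8.mk 10 + W8.mk 5 := by
    show M.vec (z * a * b) = _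
    rw [M.vec_mul (mul_mem M.z_mem haJ) hbJ, M.vec_mul M.z_mem haJ, M.vec_z, zero_add, hva, hbv, add_comm]
  have hZnot : Z ∉ Kr := by
    have h0 : M.vec ((Z : ↥U) : G) = 0 := M.vec_z
    rintro (e | e | e | e)
    · exact M.ne_one (congrArg Subtype.val e)
    · rw [e, hbv] at h0; exact h5f.2.2.1 h0
    · rw [e, hvZA] at h0; exact h5f.2.1 h0
    · rw [e, hvZAB] at h0; exact h5f.2.2.2 h0
  have hKr : Kr.index = 2 := by
    have h4 : Nat.card ↥Kr = 4 := by
      have e : (Kr : Set ↥U) = ({1, B, Z * A, Z * A * B} : Set ↥U) := by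
        ext x; exact Iff.rfl
      show Nat.card (Kr : Set ↥U) = 4
      rw [e, Nat.card_coe_set_eq]
      have n1 : B ≠ 1 := hvec2 hbv h5f.2.2.1
      have n2 : Z * A ≠ 1 := hvec2 hvZA h5f.2.1
      have n3 : Z * A * B ≠ 1 := hvec2 hvZAB h5f.2.2.2
      have n4 : B ≠ Z * A := fun h => by
        have := congrArg (fun q : ↥U => M.vec (q : G)) h
        rw [hvZA, show M.vec ((B : ↥U) : G) = W8.mk 10 from hbv] at this
        exact absurd this (by decide +kernel)
      have n5 : B ≠ Z * A * B := fun h => by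
        have := congrArg (fun q : ↥U => M.vec (q : G)) h
        rw [hvZAB, show M.vec ((B : ↥U) : G) = W8.mk 10 from hbv] at this
        exact absurd this (by decide +kernel)
      have n6 : Z * A ≠ Z * A * B := fun h => n1 (left_eq_mul.1 h)
      simp [Set.ncard_insert_of_notMem, n1.symm, n2.symm, n3.symm, n4, n5, n6]
    have h := Kr.card_mul_index
    rw [h4, hcard] at h
    omega
  let ψ : ↥U → ↥U := fun x => if x ∈ Kr then x else x * (Z * A)
  have hZA : Z * A ∈ Kr := Or.inr (Or.inr (Or.inl rfl))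
  have hψinv : ∀ x, ψ (ψ x) = x := by
    intro x
    by_cases hx : x ∈ Kr
    · simp [ψ, hx]
    · have hx' : x * (Z * A) ∉ Kr := fun h => hx ((Subgroup.mul_mem_cancel_right Kr hZA).1 h)
      simp only [ψ, hx, if_false, hx']
      rw [mul_assoc, hsq', mul_one]
  have hψmul : ∀ x y, ψ (x * y) = ψ x * ψ y := by
    intro x y
    have h := mul_mem_iff_of_index_two hKr (a := x) (b := y)
    simp only [ψ]
    by_cases hx : x ∈ Kr <;> by_cases hy : y ∈ Kr <;> simp [hx, hy, h]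
    · rw [mul_assoc]
    · rw [mul_assoc, hUcomm y, ← mul_assoc]
    · rw [mul_assoc x, ← mul_assoc (Z * A) y, hUcomm (Z * A) y, mul_assoc y, hsq', mul_one]
  let φ : ↥U ≃* ↥U := { toFun := ψ, invFun := ψ, left_inv := hψinv, right_inv := hψinv, map_mul' := hψmul }
  obtain ⟨g, -, hg⟩ := (Cfsg.Agent.S5596.result (fun x => O2c x) (fun _ => rfl) z M.two M.ctr.ext
    (M.ctr.cent.trans_le (zpowers_le.2 M.z_mem)) U hsq (fun x hx h1 => hcls x hx h1)
    (fun x hx y hy h1 _ => horth x hx h1 y hy) _ _ rfl rfl 3 (by norm_num) hcard).2.2.2 φ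
  have hgza : g * z * g⁻¹ = a := by
    have h := hg Z
    simp only [φ, MulEquiv.coe_mk, Equiv.coe_fn_mk, ψ, hZnot, if_false] at h
    rw [show Z * (Z * A) = A by rw [← mul_assoc, hsq', one_mul]] at h
    exact h
  -- the centraliser of the singular group
  let K : Subgroup G := centralizer (U : Set G)
  have hK : ∀ {c : G}, c ∈ K ↔ Commute c z ∧ Commute c a ∧ Commute c b := by
    intro c
    constructor
    · intro hc
      exact ⟨(mem_centralizer_iff.1 hc z hzU).symm, (mem_centralizer_iff.1 hc a haU).symm,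
        (mem_centralizer_iff.1 hc b hbU).symm⟩
    · rintro ⟨h1, h2, h3⟩
      refine mem_centralizer_iff.2 fun x hx => ?_
      obtain ⟨w, hwJ, hwv, hwc⟩ : ∃ w, w ∈ O2c z ∧ M.vec w = M.vec x ∧ Commute c w := by
        rcases N.L0_comb (W8.mk 5) (by decide +kernel) _ hx.2 with e | e | e | e | e
        · exact absurd e h5f.2.1
        · exact ⟨1, one_mem _, by rw [e, M.vec_one], Commute.one_right c⟩
        · exact ⟨a, haJ, by rw [e, hva], h2⟩
        · exact ⟨b, hbJ, by rw [e, N.semi_ten.2, hbv], h3⟩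
        · exact ⟨b * a, mul_mem hbJ haJ, by rw [e, N.semi_ten.2, M.vec_mul hbJ haJ, hbv, hva], h3.mul_right h2⟩
      obtain ⟨t, rfl⟩ := M.eq_zb hwJ hx.1 hwv
      have : Commute c (zb z t) := by cases t <;> simp [zb, h1]
      exact (hwc.mul_right this).eq.symm
  have hKz : ∀ {c}, c ∈ K → Commute c z := fun hc => (hK.1 hc).1
  have hKI : ∀ c ∈ K, M.img c ∈ M.I := by
    intro c hc
    by_contra hout
    have h := M.nat_semi hN he (M.img_mem c) hout (W8.mk 5)
    rw [N.semi_ten.2, ← hbv, M.fix_of_commute (hKz hc) hbJ (hK.1 hc).2.2, hbv, ← hva,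
      M.fix_of_commute (hKz hc) haJ (hK.1 hc).2.1, hva] at h
    exact N.semi_ten.1 h.symm
  have hgU : ∀ x ∈ U, g⁻¹ * x * g ∈ U ∧ g * x * g⁻¹ ∈ U := by
    intro x hx
    refine ⟨?_, (hg ⟨x, hx⟩).symm ▸ (φ ⟨x, hx⟩).2⟩
    have h := hg (φ.symm ⟨x, hx⟩)
    rw [φ.apply_symm_apply] at h
    rw [show g⁻¹ * x * g = (φ.symm ⟨x, hx⟩ : ↥U) by
      conv_lhs => rw [← (show g * _ * g⁻¹ = x from h)]
      group]
    exact (φ.symm ⟨x, hx⟩).2
  have hgK : ∀ c ∈ K, g * c * g⁻¹ ∈ K ∧ g⁻¹ * c * g ∈ K := by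
    intro c hc
    refine ⟨mem_centralizer_iff.2 fun x hx => ?_, mem_centralizer_iff.2 fun x hx => ?_⟩
    · have h := conj_commute g (mem_centralizer_iff.1 hc _ (hgU x hx).1 : Commute (g⁻¹ * x * g) c)
      rw [show g * (g⁻¹ * x * g) * g⁻¹ = x by group] at h
      exact h.eq
    · have h := conj_commute g⁻¹ (mem_centralizer_iff.1 hc _ (hgU x hx).2 : Commute (g * x * g⁻¹) c)
      rw [show g⁻¹ * (g * x * g⁻¹) * g⁻¹⁻¹ = x by group, inv_inv] at h
      exact h.eq
  have small := fun (P : Subgroup G) => M.normal_two_small hN haJ hbJ hva hbv (K := K) (P := P) hK hKI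
  -- the part of the core
  let Az : Subgroup G := O2c z ⊓ K
  have hAz : ∀ {x}, x ∈ O2c z → M.vec x ∈ N.C0 → x ∈ Az := by
    intro x hx hv
    rw [← N.perp_C0] at hv
    exact ⟨hx, hK.2 ⟨commute_of_O2c hx, (mem_Ja.1 (M.mem_Ja_of_bb haJ hx (by rw [hva]; exact hv.1))).2,
      (mem_Ja.1 (M.mem_Ja_of_bb hbJ hx (by rw [hbv]; exact hv.2))).2⟩⟩
  have hAz128 : 128 ≤ Nat.card ↥Az := by
    refine le_trans ?_ (M.ncard_le_card (S := Az) (F := {v | v ∈ N.C0}) fun v hv t =>
      hAz (mul_mem (M.lift_mem v) (M.zb_mem t)) (by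
        rw [M.vec_mul (M.lift_mem v) (M.zb_mem t), M.vec_lift, M.vec_zb, add_zero]; exact hv))
    rw [show ({v | v ∈ N.C0} : Set W8) = (↑N.C0.toFinset : Set W8) by ext v; simp, Set.ncard_coe_finset,
      List.toFinset_card_of_nodup N.C0_lt.2.1, N.C0_lt.1]
  let Aa : Subgroup G := Az.map (MulAut.conj g).toMonoidHom
  have hAaK : Aa ≤ K := by rintro _ ⟨x, hx, rfl⟩; exact (hgK x hx.2).1
  have hAan : ∀ d ∈ K, ∀ p ∈ Aa, d * p * d⁻¹ ∈ Aa := by
    rintro d hd _ ⟨x, hx, rfl⟩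
    have hd' := (hgK d hd).2
    refine ⟨g⁻¹ * d * g * x * (g⁻¹ * d * g)⁻¹, ⟨M.conj_J (hKz hd') hx.1, K.mul_mem (K.mul_mem hd' hx.2) (K.inv_mem hd')⟩, ?_⟩
    simp only [MulEquiv.coe_toMonoidHom, MulAut.conj_apply]
    group
  have hAap : IsPGroup 2 ↥Aa := (M.ctr.pgroup.to_le inf_le_left).map _
  have hAsmall := small Aa hAaK hAan hAap
  -- the radical
  let RL : Subgroup G :=
    { carrier := {c | c ∈ K ∧ ∀ v ∈ N.C0, M.img c v + v ∈ N.L0}
      one_mem' := ⟨one_mem _, fun v _ => by rw [M.img_J (one_mem _)]; simp [W8.add_self]; decide +kernel⟩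
      mul_mem' := fun {c d} hc hd => ⟨mul_mem hc.1 hd.1, fun v hv => by
        rw [M.img_mul (hKz hc.1) (hKz hd.1), Equiv.Perm.mul_apply]
        have h1 := hd.2 v hv
        have h2 : M.img d v ∈ N.C0 := by
          rw [← N.perp_C0] at hv ⊢
          refine ⟨?_, ?_⟩
          · rw [← hva, ← M.fix_of_commute (hKz hd.1) haJ (hK.1 hd.1).2.1, M.img_bb, hva, hv.1]
          · rw [← hbv, ← M.fix_of_commute (hKz hd.1) hbJ (hK.1 hd.1).2.2, M.img_bb, hbv, hv.2]
        have h3 := N.split0.L_add _ (hc.2 _ h2) _ h1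
        rwa [show M.img c (M.img d v) + M.img d v + (M.img d v + v) =
          M.img c (M.img d v) + v + (M.img d v + M.img d v) by abel, W8.add_self, add_zero] at h3⟩
      inv_mem' := fun {c} hc => ⟨inv_mem hc.1, fun v hv => by
        have h2 : M.img c⁻¹ v ∈ N.C0 := by
          have hi := inv_mem hc.1
          rw [← N.perp_C0] at hv ⊢
          refine ⟨?_, ?_⟩
          · rw [← hva, ← M.fix_of_commute (hKz hi) haJ (hK.1 hi).2.1, M.img_bb, hva, hv.1]
          · rw [← hbv, ← M.fix_of_commute (hKz hi) hbJ (hK.1 hi).2.2, M.img_bb, hbv, hv.2]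
        have h := hc.2 _ h2
        have e : M.img c (M.img c⁻¹ v) = v := by
          rw [← Equiv.Perm.mul_apply, ← M.img_mul (hKz hc.1) (hKz hc.1).inv_left, mul_inv_cancel,
            M.img_J (one_mem _)]
          rfl
        rwa [e, add_comm] at h⟩ }
  have hLfix : ∀ {c}, c ∈ K → ∀ l ∈ N.L0, M.img c l = l := fun {c} hc l hl => by
    rcases N.L0_comb (W8.mk 5) (by decide +kernel) l hl with e | e | e | e | e
    · exact absurd e h5f.2.1
    · rw [e, M.img_zero]
    · rw [e, ← hva, M.fix_of_commute (hKz hc) haJ (hK.1 hc).2.1]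
    · rw [e, N.semi_ten.2, ← hbv, M.fix_of_commute (hKz hc) hbJ (hK.1 hc).2.2]
    · rw [e, N.semi_ten.2, M.img_add, ← hbv, M.fix_of_commute (hKz hc) hbJ (hK.1 hc).2.2, hbv, ← hva,
        M.fix_of_commute (hKz hc) haJ (hK.1 hc).2.1]
  have hfour : ∀ {c}, c ∈ RL → c ^ 4 ∈ O2c z := by
    intro c hc
    have hc2 : c * c ∈ K := mul_mem hc.1 hc.1
    have ha0 : ∀ v, N.a0 (N.a0 v) = v := (tv_inv (W8.mk 5) (by decide +kernel) · |>.1)
    have hcase := N.fix0_group (hN.le (hKI _ hc2)) fun v hv => by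
      rw [M.img_mul (hKz hc.1) (hKz hc.1), Equiv.Perm.mul_apply]
      have h := hLfix hc.1 _ (hc.2 v hv)
      rw [M.img_add] at h
      exact add_right_cancel (h.trans (add_comm _ _))
    rw [← M.img_eq_one ((hKz hc.1).pow_left 4), show c ^ 4 = c * c * (c * c) by simp [pow_succ, mul_assoc],
      M.img_mul (hKz hc2) (hKz hc2)]
    rcases hcase with e | e
    · rw [e, one_mul]
    · exact Equiv.ext fun v => by rw [Equiv.Perm.mul_apply, e, e, ha0]; rfl
  have hRLp : IsPGroup 2 ↥RL := by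
    intro c
    obtain ⟨k, hk⟩ := M.ctr.pgroup ⟨_, hfour c.2⟩
    refine ⟨2 + k, Subtype.ext ?_⟩
    have hk' : ((c : G) ^ 4) ^ 2 ^ k = 1 := by simpa using congrArg Subtype.val hk
    rw [← pow_mul] at hk'
    push_cast
    rw [pow_add]
    exact hk'
  have hRLn : ∀ d ∈ K, ∀ c ∈ RL, d * c * d⁻¹ ∈ RL := by
    intro d hd c hc
    refine ⟨mul_mem (mul_mem hd hc.1) (inv_mem hd), fun v hv => ?_⟩
    have hi := inv_mem hd
    have h2 : M.img d⁻¹ v ∈ N.C0 := by
      rw [← N.perp_C0] at hv ⊢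
      refine ⟨?_, ?_⟩
      · rw [← hva, ← M.fix_of_commute (hKz hi) haJ (hK.1 hi).2.1, M.img_bb, hva, hv.1]
      · rw [← hbv, ← M.fix_of_commute (hKz hi) hbJ (hK.1 hi).2.2, M.img_bb, hbv, hv.2]
    have h3 := hc.2 _ h2
    rw [← hLfix hd _ h3] at h3
    rw [M.img_conj (hKz hd) (hKz hc.1)]
    have e : M.img d (M.img d⁻¹ v) = v := by
      rw [M.img_inv (hKz hd)]; simp
    rw [M.img_add, e] at h3
    simpa [M.img_inv (hKz hd)] using h3
  let RL' : Subgroup G := RL.map (MulAut.conj g⁻¹).toMonoidHom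
  have hRL' := small RL'
    (by rintro _ ⟨x, hx, rfl⟩; simpa using (hgK x hx.1).2)
    (by
      rintro d hd _ ⟨x, hx, rfl⟩
      refine ⟨g * d * g⁻¹ * x * (g * d * g⁻¹)⁻¹, hRLn _ (hgK d hd).1 x hx, ?_⟩
      simp only [MulEquiv.coe_toMonoidHom, MulAut.conj_apply, inv_inv]
      group)
    (hRLp.map _)
  -- commutation
  have hcom : ∀ q ∈ Aa, ∀ r ∈ RL, M.img q * M.img r = M.img r * M.img q := by
    rintro _ ⟨j, hj, rfl⟩ r hr
    set q := g * j * g⁻¹
    show M.img q * M.img r = M.img r * M.img q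
    have hr' : g⁻¹ * r * g ∈ RL' := ⟨r, hr, by simp⟩
    have hr'K : g⁻¹ * r * g ∈ K := (hgK r hr.1).2
    have hjC : M.vec j ∈ N.C0 := (N.perp_C0 _).1
      ⟨hva ▸ M.bb_of_commute haJ hj.1 (hK.1 hj.2).2.1, hbv ▸ M.bb_of_commute hbJ hj.1 (hK.1 hj.2).2.2⟩
    obtain ⟨hJ, hv⟩ := M.commutator_J (hKz hr'K) hj.1
    have hU : g⁻¹ * r * g * j * (g⁻¹ * r * g)⁻¹ * j⁻¹ ∈ U := ⟨hJ, by rw [hv]; exact hRL' _ hr' _ hjC⟩
    have h1 := (hgU _ hU).2
    have e : g * (g⁻¹ * r * g * j * (g⁻¹ * r * g)⁻¹ * j⁻¹) * g⁻¹ = r * q * r⁻¹ * q⁻¹ := by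
      simp only [q]; group
    rw [e] at h1
    have hqK : q ∈ K := (hgK j hj.2).1
    have h2 := M.img_J h1.1
    rw [M.img_mul ((((hKz hr.1).mul_left (hKz hqK))).mul_left (hKz hr.1).inv_left) (hKz hqK).inv_left,
      M.img_mul ((hKz hr.1).mul_left (hKz hqK)) (hKz hr.1).inv_left, M.img_mul (hKz hr.1) (hKz hqK),
      M.img_inv (hKz hr.1), M.img_inv (hKz hqK), mul_inv_eq_one, mul_inv_eq_iff_eq_mul] at h2
    exact h2.symm
  -- the images
  have himg : ∀ q ∈ Aa, M.img q = 1 ∨ ∀ v, M.img q v = N.a0 v := by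
    intro q hq
    have hqG := hN.le (hKI _ (hAaK hq))
    have h5 : M.img q (W8.mk 5) = W8.mk 5 := hLfix (hAaK hq) _ (by decide +kernel)
    have hq64 : ∀ w ∈ vecs [64, 16], M.img q w ∈ N.L0.map (w + ·) := by
      intro w hw
      have hwC : w ∈ N.C0 := by
        have : ∀ w ∈ vecs [64, 16], w ∈ N.C0 := by decide +kernel
        exact this w hw
      refine List.mem_map.2 ⟨_, hAsmall q hq w hwC, ?_⟩
      rw [add_left_comm, W8.add_self, add_zero]
    have hs := search_sound (l := N.radList2) hqG (by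
      intro p hp
      simp only [N.radList2, List.mem_cons, List.not_mem_nil, or_false] at hp
      rcases hp with rfl | rfl | rfl | rfl
      · exact span_all _
      · exact hq64 _ (by decide +kernel)
      · exact hq64 _ (by decide +kernel)
      · exact List.mem_singleton.2 h5)
    set o := (N.radList2.map Prod.fst).map (M.img q)
    have hcand : N.cand o = cols (M.img q) := by
      rw [cols, ← show N.cand (N.radList2.map Prod.fst) = basis from N.cand_id.trans (List.map_id _)]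
      simp only [N.cand, List.map_map]
      refine List.map_congr_left fun v _ => ?_
      simp only [Function.comp_apply, app]
      rw [← appFrom_map (M.img_add q)]
      congr 1
      simp only [o, List.map_append, List.map_map]
      refine congrArg _ (List.map_congr_left fun w _ => ?_)
      simp only [Function.comp_apply]
      exact (hqG.sig rfl _).symm
    have hrc := List.all_eq_true.1 N.rad_comm o hs
    simp only [Bool.or_eq_true, Bool.not_eq_true', Bool.and_eq_true, beq_iff_eq] at hrc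
    rcases hrc with hrc | ⟨e1, e2⟩
    · exfalso
      rw [List.all_eq_false] at hrc
      obtain ⟨w, hw, hne2⟩ := hrc
      obtain ⟨hok, hw5, hwC⟩ := N.radWords_ok w hw
      obtain ⟨t, ht, et⟩ := hN.word hok
      obtain ⟨c, hc1, hc2, hc3⟩ := M.lift_exact (M.I_le ht) haJ haJ (by rw [hva]; exact h5f.2.1)
        (by rw [hva, et, hw5])
      have ht10 : t (W8.mk 10) = W8.mk 10 := by
        rw [← N.semi_ten.2, (hN.le ht).sig rfl, et, hw5]
      obtain ⟨s, hs'⟩ := M.eq_zb hbJ (M.conj_J hc1 hbJ) (by rw [M.vec_conj' hc1 hbJ, hc2, hbv, ht10])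
      obtain ⟨f, hf5, hf10⟩ := N.flip_ten
      let c' := if s then M.lift f * c else c
      have hc'z : Commute c' z := by
        cases s
        · exact hc1
        · exact (commute_of_O2c (M.lift_mem f)).mul_left hc1
      have hc'i : M.img c' = t := by
        cases s
        · exact hc2
        · show M.img (M.lift f * c) = t
          rw [M.img_mul (commute_of_O2c (M.lift_mem f)) hc1, M.img_J (M.lift_mem f), one_mul, hc2]
      have hc'K : c' ∈ K := by
        refine hK.2 ⟨hc'z, ?_, ?_⟩ <;> refine mul_inv_eq_iff_eq_mul.1 ?_ <;> cases s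
        · exact hc3
        · show M.lift f * c * a * (M.lift f * c)⁻¹ = a
          rw [show M.lift f * c * a * (M.lift f * c)⁻¹ = M.lift f * (c * a * c⁻¹) * (M.lift f)⁻¹ by group, hc3,
            M.conj_J_eq (M.lift_mem f) haJ, M.vec_lift, hva, hf5, zb_false, mul_one]
        · rw [zb_false, mul_one] at hs'; exact hs'
        · show M.lift f * c * b * (M.lift f * c)⁻¹ = b
          rw [show M.lift f * c * b * (M.lift f * c)⁻¹ = M.lift f * (c * b * c⁻¹) * (M.lift f)⁻¹ by group, hs',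
            zb_true, M.conj_J_eq (M.lift_mem f) (mul_mem hbJ M.z_mem), M.vec_mul hbJ M.z_mem, M.vec_z,
            add_zero, M.vec_lift, hbv, hf10, zb_true, mul_assoc, M.zz, mul_one]
      have h := hcom q hq c' ⟨hc'K, fun v hv => by rw [hc'i, et]; exact hwC v hv⟩
      rw [hc'i] at h
      apply hne2
      rw [hcand]
      have h' := congrArg (fun s : Equiv.Perm W8 => cols s) h
      simp only [cols_mul (show M.img q ∈ addPerm from M.img_add q), cols_mul (hN.add ht), et] at h'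
      exact beq_iff_eq.2 h'
    · refine N.fix0_group hqG fun v hv => ?_
      have hspan : ∀ v ∈ N.C0, v ∈ span (det true [W8.mk 64, W8.mk 16, W8.mk 5]) := by decide +kernel
      refine eq_on_span (M.img_add q) (g := id) (fun _ _ => rfl) ?_ v (hspan v hv)
      intro x hx
      simp only [det, if_true, List.map_cons, List.map_nil, List.cons_append, List.nil_append,
        List.mem_cons, List.not_mem_nil, or_false] at hx
      have e64 : M.img q (W8.mk 64) = W8.mk 64 := e1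
      have e16 : M.img q (W8.mk 16) = W8.mk 16 := e2
      rcases hx with rfl | rfl | rfl | rfl | rfl | rfl
      · exact e64
      · exact e16
      · exact h5
      all_goals show M.img q (W8.sig _) = W8.sig _; rw [hqG.sig rfl]
      exacts [congrArg _ e64, congrArg _ e16, congrArg _ h5]
  -- counting
  have hctr : Ctr (O2c a) a := M.ctr_of ha
  have hAaX : ∀ q ∈ Aa, q ∈ O2c a := by
    rintro _ ⟨j, hj, rfl⟩
    rw [← hgza]
    exact (mem_O2c_conj g z j).2 hj.1
  have hX : Nat.card ↥(Xa z a) ≤ 32 := by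
    have hz0 := M.nat_mem_Ja hN he ha haJ hne
    have hXsq : ∀ x ∈ Xa z a, x * x = 1 := by
      intro x hx
      rcases M.ctr.sq_cases hx.1 with e | e
      · exact e
      · rcases hctr.sq_cases hx.2 with e' | e'
        · exact e'
        · exact absurd (e'.symm.trans e) hne
    have hadd : ∀ {p r}, p ∈ M.vimg (Xa z a) → r ∈ M.vimg (Xa z a) → p + r ∈ M.vimg (Xa z a) :=
      fun hp hr => M.add_mem_vimg inf_le_left hp hr
    have hTC : ∀ v ∈ M.vimg (Xa z a), v ∈ N.C0 := by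
      rintro _ ⟨x, hx, rfl⟩
      refine (N.perp_C0 _).1 ⟨hva ▸ M.bb_of_commute haJ hx.1 (commute_of_O2c hx.2), hbv ▸ ?_⟩
      refine M.bb_of_commute hbJ hx.1 ?_
      rcases M.ctr.comm_cases hx.1 hbJ with e | e
      · exact commutatorElement_eq_one_iff_mul_comm.1 e
      · rcases hctr.comm_cases hx.2 hba with e' | e'
        · exact commutatorElement_eq_one_iff_mul_comm.1 e'
        · exact absurd (e'.symm.trans e) hne
    have hTiso : ∀ v ∈ M.vimg (Xa z a), ∀ w ∈ M.vimg (Xa z a), bb v w = false := by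
      intro v hv w hw
      have hq : ∀ u ∈ M.vimg (Xa z a), qe true u = false := by
        rintro _ ⟨x, hx, rfl⟩; exact he ▸ M.qe_of_sq hx.1 (hXsq x hx)
      have h1 := hq _ (hadd hv hw)
      rw [qe_add, hq v hv, hq w hw] at h1
      simpa using h1
    have hL : ∀ l ∈ N.L0, l ∈ M.vimg (Xa z a) := by
      intro l hl
      have h5m : W8.mk 5 ∈ M.vimg (Xa z a) := ⟨a, ⟨haJ, hctr.z_mem⟩, hva⟩
      have h10m : W8.mk 10 ∈ M.vimg (Xa z a) := ⟨b, ⟨hbJ, hba⟩, hbv⟩
      rcases N.L0_comb (W8.mk 5) (by decide +kernel) l hl with e | e | e | e | e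
      · exact absurd e h5f.2.1
      · rw [e]; exact M.zero_mem_vimg _
      · rw [e]; exact h5m
      · rw [e, N.semi_ten.2]; exact h10m
      · rw [e, N.semi_ten.2]; exact hadd h10m h5m
    let S0 : Set W8 := {w | w ∈ N.W0 ∧ w ∈ M.vimg (Xa z a)}
    have hS0 : S0.ncard ≤ 4 := N.split0.ts_le N.ts0 (fun l hl v hv => by
        have : ∀ l ∈ N.L0, ∀ v ∈ N.C0, bb l v = false := by decide +kernel
        exact this l hl v hv) ⟨by decide +kernel, M.zero_mem_vimg _⟩
      (fun x hx y hy => ⟨(N.split0.prj_unique _ hx.1 _ hy.1).1, hadd hx.2 hy.2⟩)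
      (fun x hx => N.split0.W_sub _ hx.1) (fun x hx y hy => hTiso x hx.2 y hy.2)
      (fun x hx hl => by
        have h := N.split0.prj_unique x hx.1 0 (by decide +kernel)
        rw [add_zero] at h
        exact h.2 hl)
    refine (M.card_le_two_mul (S := Xa z a) inf_le_left
      (F := (fun p : W8 × W8 => p.1 + p.2) '' ({v | v ∈ N.L0} ×ˢ S0)) fun x hx => ?_).trans ?_
    · have hv : M.vec x ∈ M.vimg (Xa z a) := ⟨x, hx, rfl⟩
      obtain ⟨h1, h2⟩ := N.split0.prj_mem _ (hTC _ hv)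
      refine ⟨(M.vec x + prj N.L0 N.W0 (M.vec x), prj N.L0 N.W0 (M.vec x)), ⟨h2, h1, ?_⟩, ?_⟩
      · have := hadd hv (hL _ h2)
        rwa [← add_assoc, W8.add_self, zero_add] at this
      · show M.vec x + _ + _ = M.vec x
        rw [add_assoc, W8.add_self, add_zero]
    · have h1 := Set.ncard_image_le (f := fun p : W8 × W8 => p.1 + p.2)
        (Set.toFinite ({v | v ∈ N.L0} ×ˢ S0))
      rw [Set.ncard_prod] at h1
      have hLc : ({v | v ∈ N.L0} : Set W8).ncard = 4 := by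
        rw [show ({v | v ∈ N.L0} : Set W8) = (↑N.L0.toFinset : Set W8) by ext v; simp, Set.ncard_coe_finset]
        decide +kernel
      rw [hLc] at h1
      omega
  let f : ↥Aa → Bool × ↥(Xa z a) := fun q =>
    if h : (q : G) ∈ O2c z then (false, ⟨q, h, hAaX q q.2⟩)
    else
      let q0 := (Classical.epsilon fun y : ↥Aa => (y : G) ∉ O2c z : ↥Aa)
      (true, ⟨(q : G) * (q0 : G), by
        have h0 : (q0 : G) ∉ O2c z := Classical.epsilon_spec (p := fun y : ↥Aa => (y : G) ∉ O2c z) ⟨q, h⟩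
        refine ⟨?_, (O2c a).mul_mem (hAaX q q.2) (hAaX q0 q0.2)⟩
        show (q : G) * (q0 : G) ∈ O2c z
        rw [← M.img_eq_one ((hKz (hAaK q.2)).mul_left (hKz (hAaK q0.2))),
          M.img_mul (hKz (hAaK q.2)) (hKz (hAaK q0.2))]
        rcases himg q q.2 with e | e
        · exact absurd ((M.img_eq_one (hKz (hAaK q.2))).1 e) h
        rcases himg q0 q0.2 with e' | e'
        · exact absurd ((M.img_eq_one (hKz (hAaK q0.2))).1 e') h0
        exact Equiv.ext fun v => by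
          rw [Equiv.Perm.mul_apply, e, e']
          exact (tv_inv (W8.mk 5) (by decide +kernel) v).1⟩)
  have hf : Function.Injective f := by
    intro p q h
    simp only [f] at h
    split at h <;> split at h <;> simp only [Prod.mk.injEq, Bool.false_eq_true, Bool.true_eq_false,
      false_and, true_and, Subtype.mk.injEq] at h
    · exact Subtype.ext (congrArg (fun y : ↥(Xa z a) => (y : G)) h :)
    · exact Subtype.ext (mul_right_cancel (congrArg (fun y : ↥(Xa z a) => (y : G)) h :))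
  have h1 := Nat.card_le_card_of_injective f hf
  rw [Nat.card_prod, Nat.card_eq_fintype_card (α := Bool), Fintype.card_bool] at h1
  have h2 : Nat.card ↥Aa = Nat.card ↥Az := card_map_of_injective (MulAut.conj g).injective
  omega

end ACoord

end Cfsg.Agent.ThreeTransp.U62Cent
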