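import Cfsg.Agent.Lib.ThreeTransp.U62Cent.AutBasic

/-!
# Facts on the natural module used in the automorphism group case
-/

set_option autoImplicit false
set_option maxRecDepth 100000

namespace Cfsg.Agent.ThreeTransp.U62Cent.N

open W8

/-- With its scalar multiples and one translate, a vector spans the fixed space modulo the line. -/
theorem grow : ∀ w ∈ W0, w = 0 ∨ ∃ g ∈ Data.mvN,
    C0.all (fun x => (span [mk 5, mk 10, w, W8.sig w, wT g w, W8.sig (wT g w)]).contains x) = true := by
  decide +kernel

/-- the completions moving the fixed space into the line -/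
def radList2 : List (W8 × List W8) :=
  [(mk 1, span basis), (mk 64, L0.map (mk 64 + ·)), (mk 16, L0.map (mk 16 + ·)), (mk 5, [mk 5])]

/-- the matrix of a completion -/
def cand (o : List W8) : List W8 := (vecs [1, 16, 9, 144, 4, 64, 2, 32]).map (app (o ++ o.map W8.sig))

theorem cand_id : cand (radList2.map Prod.fst) = cols id := by decide +kernel

/-- products of two transvections moving the fixed space into the line -/
def radWords : List (List ℕ) :=
  let P := ((List.range 256).filter fun n => pts.contains (mk n) && C0.contains (mk n))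
  (P.flatMap fun p => P.map fun p' => [p, p']).filter fun w =>
    (vecs [5, 10, 16, 32, 64, 128]).all fun v => L0.contains (wT w v + v)

theorem radWords_ok : ∀ w ∈ radWords, okT w = true ∧ wT w (mk 5) = mk 5 ∧ ∀ v ∈ C0, wT w v + v ∈ L0 := by
  decide +kernel

theorem rad_comm : ((search true true radList2).all fun o =>
    !(radWords.all fun w => mulM (cand o) (cols (wT w)) == mulM (cols (wT w)) (cand o)) ||
      (o.getD 1 0 == mk 64 && o.getD 2 0 == mk 16)) = true := by decide +kernel

theorem perp_C0 : ∀ v : W8, (bb v (mk 5) = false ∧ bb v (mk 10) = false) ↔ v ∈ C0 := by decide +kernel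

theorem L0_comb : ∀ y ∈ L0, ∀ x ∈ L0, y = 0 ∨ x = 0 ∨ x = y ∨ x = W8.sig y ∨ x = W8.sig y + y := by
  decide +kernel

theorem flip_ten : ∃ w : W8, bb w (mk 5) = false ∧ bb w (mk 10) = true := by decide +kernel

theorem semi_ten : W8.sig (W8.sig (mk 5)) ≠ mk 10 ∧ W8.sig (mk 5) = mk 10 := by decide +kernel

theorem semi_test : bb (mk 16) (mk 5) = false ∧ bb (W8.sig (mk 16)) (mk 5) = false ∧
    ∀ d1 ∈ vecs [0, 5], ∀ d2 ∈ vecs [0, 5],
      W8.sig (W8.sig (mk 16 + d1)) + W8.sig (mk 16) ≠ d2 := by decide +kernel

theorem perp_pair : ∀ u : W8, u = 0 ∨ ∃ v ∈ span basis, bb v u = false ∧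
    ∃ w ∈ span basis, bb w u = false ∧ bb v w = true := by decide +kernel

end Cfsg.Agent.ThreeTransp.U62Cent.N
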