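import Cfsg.Agent.Lib.ThreeTransp.U62Cent.AutInJNat

/-!
# Natural shape: no member acts as an outer element (automorphism group case)
-/

set_option autoImplicit false
set_option linter.unusedSectionVars false
set_option maxRecDepth 100000

namespace Cfsg.Agent.ThreeTransp.U62Cent

open W8 Subgroup Cfsg.Agent.LargeExtra

universe u

namespace N

theorem a0_formula : ∀ v : W8, tv (mk 5) v =
    v + (if bb v (mk 5) then mk 10 else 0) + (if bb v (mk 10) then mk 5 else 0) := by decide +kernel

theorem five_pt : mk 5 ∈ pts ∧ W8.sig (mk 5) = mk 10 := by decide +kernel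

theorem bb_zero : ∀ w : W8, bb w 0 = false := by decide +kernel

theorem nondeg : ∀ u : W8, u = 0 ∨ ∃ v ∈ basis, bb u v = true := by decide +kernel

/-- a semilinear involution of the natural module -/
structure Semi (τ : Equiv.Perm W8) : Prop where
  add : ∀ v w, τ (v + w) = τ v + τ w
  q : ∀ v, qe true (τ v) = qe true v
  inv : ∀ v, τ (τ v) = v
  semi : ∀ v, τ (W8.sig v) = W8.sig (W8.sig (τ v))

namespace Semi

variable {τ : Equiv.Perm W8} (h : Semi τ)

include h

theorem bb_eq (v w : W8) : bb (τ v) (τ w) = bb v w :=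
  IsIso.bb (e := true) (sg := false) ⟨h.add, h.q, fun e => absurd e (by decide)⟩ v w

theorem fix_im {v : W8} (hv : τ v = v) : τ (W8.sig v) + W8.sig v = v := by
  rw [h.semi, hv, W8.sig_sig, add_comm _ v, add_assoc, W8.add_self, add_zero]

theorem im_fix (v : W8) : τ (τ v + v) = τ v + v := by
  rw [h.add, h.inv, add_comm]

/-- the fixed space is a rational form -/
theorem decomp (v : W8) : ∃ a b, τ a = a ∧ τ b = b ∧ v = a + W8.sig b := by
  refine ⟨v + W8.sig (τ v + v), τ v + v, ?_, h.im_fix v, ?_⟩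
  · rw [h.add, h.semi, h.im_fix, W8.sig_sig]
    have : τ v + (W8.sig (τ v + v) + (τ v + v)) = (τ v + τ v) + v + W8.sig (τ v + v) := by abel
    rw [this, W8.add_self, zero_add]
  · rw [add_assoc, W8.add_self, add_zero]

theorem fix_bb {v w : W8} (hv : τ v = v) (hw : τ w = w) : bb v w = false := by
  conv_lhs => rw [← h.fix_im hv]
  rw [bb_add_left]
  conv_lhs => arg 1; rw [← hw]
  rw [h.bb_eq, Bool.xor_self]

theorem beta_symm {v w : W8} (hv : τ v = v) (hw : τ w = w) : bb (W8.sig v) w = bb (W8.sig w) v := by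
  have h1 : bb (W8.sig v) w = bb v (W8.sig (W8.sig w)) := by
    conv_rhs => rw [← bb_sig, W8.sig_three]
  rw [h1, W8.sig_sig, bb_add_right, h.fix_bb hv hw, Bool.xor_false, bb_comm]

theorem beta_self {v : W8} (hq : qe true v = false) : bb (W8.sig v) v = false := by
  have h1 := qe_add true (W8.sig v) v
  rw [← W8.sig_sig, qe_sig, qe_sig, hq] at h1
  simpa using h1.symm

theorem beta_nondeg {d : W8} (hd : τ d = d) (h0 : ∀ w, τ w = w → bb (W8.sig d) w = false) : d = 0 := by
  rcases nondeg (W8.sig d) with e | ⟨v, -, hv⟩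
  · have := congrArg (fun x => W8.sig (W8.sig x)) e
    simp only [W8.sig_three] at this
    rw [this]
    decide +kernel
  · obtain ⟨a, b, ha, hb, rfl⟩ := h.decomp v
    rw [bb_add_right, h0 a ha, bb_sig, h.fix_bb hd hb] at hv
    exact absurd hv (by decide)

theorem ext {t t' : Equiv.Perm W8} (ht : IsIso true true t) (ht' : IsIso true true t')
    (hf : ∀ v, τ v = v → t v = t' v) : t = t' := by
  refine Equiv.ext fun v => ?_
  obtain ⟨a, b, ha, hb, rfl⟩ := h.decomp v
  rw [ht.add, ht'.add, ht.sig rfl, ht'.sig rfl, hf a ha, hf b hb]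

theorem fix_map {t : Equiv.Perm W8} (hc : ∀ v, t (τ v) = τ (t v)) {v : W8} (hv : τ v = v) :
    τ (t v) = t v := by rw [← hc, hv]

/-- At most two linear isometries centralise the involution and a hyperplane of its fixed space. -/
theorem small {A : Subgroup (Equiv.Perm W8)} (hA : A ≤ GN) (hc : ∀ t ∈ A, ∀ v, t (τ v) = τ (t v))
    {K : Set W8} {v0 : W8} (hv0 : τ v0 = v0) (hK : ∀ k ∈ K, τ k = k)
    (hcov : ∀ v, τ v = v → v ∈ K ∨ v + v0 ∈ K) (hfix : ∀ t ∈ A, ∀ k ∈ K, t k = k) :
    Nat.card ↥A ≤ 2 := by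
  let f : ↥A → Bool := fun t => bb (W8.sig ((t : Equiv.Perm W8) v0 + v0)) v0
  have hd : ∀ t ∈ A, τ (t v0 + v0) = t v0 + v0 ∧ ∀ k ∈ K, bb (W8.sig (t v0 + v0)) k = false := by
    intro t ht
    refine ⟨by rw [h.add, h.fix_map (hc t ht) hv0, hv0], fun k hk => ?_⟩
    have e : bb (W8.sig (t v0)) k = bb (W8.sig v0) k := by
      conv_lhs => rw [← hfix t ht k hk, ← (hA ht).sig rfl]
      exact (hA ht).bb _ _
    rw [W8.sig_add, bb_add_left, e, Bool.xor_self]
  have hf : Function.Injective f := by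
    rintro ⟨t, ht⟩ ⟨s, hs⟩ e
    obtain ⟨t1, t2⟩ := hd t ht
    obtain ⟨s1, s2⟩ := hd s hs
    set d1 := t v0 + v0 with hd1
    set d2 := s v0 + v0 with hd2
    have h0 : d1 + d2 = 0 := h.beta_nondeg (by rw [h.add, t1, s1]) fun w hw => by
      rw [W8.sig_add, bb_add_left]
      rcases hcov w hw with hw' | hw'
      · rw [t2 w hw', s2 w hw']; rfl
      · have e1 := t2 _ hw'
        have e2 := s2 _ hw'
        rw [bb_add_right] at e1 e2
        have e3 : bb (W8.sig d1) v0 = bb (W8.sig d2) v0 := e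
        revert e1 e2
        rw [e3]
        cases bb (W8.sig d1) w <;> cases bb (W8.sig d2) w <;> cases bb (W8.sig d2) v0 <;> decide
    have hv : t v0 = s v0 := add_right_cancel (W8.eq_of_add h0)
    refine Subtype.ext (h.ext (hA ht) (hA hs) fun v hv' => ?_)
    rcases hcov v hv' with hk | hk
    · rw [hfix t ht v hk, hfix s hs v hk]
    · have e1 := hfix t ht _ hk
      have e2 := hfix s hs _ hk
      rw [(hA ht).add] at e1
      rw [(hA hs).add] at e2
      rw [← e2, hv] at e1
      exact add_right_cancel e1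
  have := Nat.card_le_card_of_injective f hf
  rwa [Nat.card_eq_fintype_card (α := Bool), Fintype.card_bool] at this

/-- the transvection at a fixed vector commutes with the involution -/
theorem tv_comm {p : W8} (hp : τ p = p) (v : W8) : τ (tv p v) = tv p (τ v) := by
  have h0 : τ 0 = 0 := additive_zero h.add
  have e1 : bb (τ v) p = bb v p := by conv_lhs => rw [← hp, h.bb_eq]
  have e2 : bb (τ v) (W8.sig p) = xor (bb v (W8.sig p)) (bb v p) := by
    rw [← h.bb_eq (τ v), h.inv, h.semi, hp, W8.sig_sig, bb_add_right]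
  simp only [tv, h.add, e1, e2]
  cases bb v p <;> cases bb v (W8.sig p) <;>
    simp only [if_true, if_false, Bool.false_eq_true, h0, h.semi, hp, W8.sig_sig, Bool.xor_false,
      Bool.xor_true, Bool.not_false, Bool.not_true, add_zero] <;>
    simp [add_assoc, W8.add_self]

theorem tv_fix {p v : W8} (hp : τ p = p) (hv : τ v = v) :
    tv p v = v + if bb v (W8.sig p) then p else 0 := by
  simp [tv, h.fix_bb hv hp]

end Semi

end N

namespace INat

variable {I : Subgroup (Equiv.Perm W8)} (hI : INat I)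

include hI

theorem tv_singular {p : W8} (hp0 : p ≠ 0) (hq : qe true p = false) : ∃ t ∈ I, ∀ v, t v = tv p v := by
  haveI := hI.simple
  obtain ⟨g, hg, rfl⟩ := hI.trans5 hp0 hq
  have ha := tv_mem_of_simple hI.le hI.card (W8.mk 5) N.five_pt.1
  refine ⟨g * tvP (W8.mk 5) N.five_pt.1 * g⁻¹, mul_mem (mul_mem hg ha) (inv_mem hg), fun v => ?_⟩
  have hgi := hI.le hg
  rw [Equiv.Perm.mul_apply, Equiv.Perm.mul_apply, tvP_apply, N.a0_formula]
  have hb : ∀ w : W8, bb (g⁻¹ v) w = bb v (g w) := fun w => by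
    rw [← hgi.bb (g⁻¹ v) w, Equiv.Perm.inv_def, Equiv.apply_symm_apply]
  rw [tv, hb, hb, ← N.five_pt.2, hgi.sig rfl, hgi.add, hgi.add, Equiv.Perm.inv_def,
    Equiv.apply_symm_apply]
  congr 1
  · congr 1
    split <;> simp [hgi.sig rfl, hgi.map_zero]
  · split <;> simp [hgi.map_zero]

end INat

variable {G : Type u} [Group G]

/-- An involution has at least sixteen fixed vectors. -/
theorem ncard_fix_ge {τ : Equiv.Perm W8} (hadd : ∀ v w, τ (v + w) = τ v + τ w) (hinv : ∀ v, τ (τ v) = v) :
    16 ≤ {v : W8 | τ v = v}.ncard := by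
  classical
  set F := {v : W8 | τ v = v} with hF
  have him : ∀ v, τ v + v ∈ F := fun v => by
    show τ (τ v + v) = τ v + v
    rw [hadd, hinv, add_comm]
  let sec : W8 → W8 := fun b => Classical.epsilon fun w => τ w + w = b
  have hsec : ∀ v, τ (sec (τ v + v)) + sec (τ v + v) = τ v + v := fun v =>
    Classical.epsilon_spec (p := fun w => τ w + w = τ v + v) ⟨v, rfl⟩
  let f : W8 → ↥F × ↥F := fun v => (⟨v + sec (τ v + v), by
    show τ (v + sec (τ v + v)) = v + sec (τ v + v)
    refine W8.eq_of_add ?_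
    rw [hadd]
    have := hsec v
    calc τ v + τ (sec (τ v + v)) + (v + sec (τ v + v))
        = (τ v + v) + (τ (sec (τ v + v)) + sec (τ v + v)) := by abel
      _ = 0 := by rw [this, W8.add_self]⟩, ⟨τ v + v, him v⟩)
  have hf : Function.Injective f := by
    intro v w e
    simp only [f, Prod.mk.injEq, Subtype.mk.injEq] at e
    rw [← e.2] at e
    exact add_right_cancel e.1
  have := Nat.card_le_card_of_injective f hf
  rw [Nat.card_prod, Nat.card_coe_set_eq] at this
  have h256 : Nat.card W8 = 256 := by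
    show Nat.card (Fin 256) = 256
    simp
  rw [h256] at this
  by_contra hlt
  have : F.ncard ≤ 15 := by omega
  nlinarith

namespace ACoord

variable [Finite G] {z : G} (M : ACoord z)

include M

theorem nat_not_mem_core (hN : INat M.I) (he : M.e = true) {a x : G} (ha : a ∈ cls z) (hx : x ∈ cls z)
    (hxa : x ∈ O2c a) : x = a := by
  obtain ⟨g, rfl⟩ := ha
  have e : g * (g⁻¹ * x * g) * g⁻¹ = x := by group
  rw [← e, mem_O2c_conj] at hxa
  have h1 : g⁻¹ * x * g ∈ cls z := by
    have := conj_mem_cls g⁻¹ hx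
    rwa [inv_inv] at this
  rw [← e, M.nat_not_J hN he h1 hxa]

/-- A nontrivial element of the intersection over the commutator space. -/
theorem nat_Xa_form (hN : INat M.I) (he : M.e = true) {a x y : G} (h : Mem z a) (hx : x ∈ Xa z a)
    (hy : y ∈ O2c z) (hv : M.vec x = M.img a (M.vec y) + M.vec y) (hne : x ≠ 1) :
    x = a * y * a⁻¹ * y⁻¹ * z ∧ a * z ∉ cls z := by
  obtain ⟨hs, hsv⟩ := M.commutator_J h.comm hy
  obtain ⟨t, ht⟩ := M.eq_zb hs hx.1 (by rw [hsv, hv])
  have hax : a * x ∈ O2c a := mul_mem (M.ctr_of h.cls).z_mem hx.2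
  have hone : a * x = a → False := fun e => hne (mul_eq_left.1 e)
  cases t
  · rw [zb_false, mul_one] at ht
    have : a * x ∈ cls z := by
      rw [ht, ← M.commutator_shape h hy]
      exact conj_mem_cls y h.cls
    exact (hone (M.nat_not_mem_core hN he h.cls this hax)).elim
  · rw [zb_true] at ht
    refine ⟨ht, fun haz => ?_⟩
    have : a * x ∈ cls z := by
      have e : y * (a * z) * y⁻¹ = a * x := by
        rw [ht, ← mul_assoc a _ z, ← M.commutator_shape h hy]
        calc y * (a * z) * y⁻¹ = y * a * (z * y⁻¹) := by group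
          _ = _ := by rw [← ((commute_of_O2c hy).inv_left).eq]; group
      rw [← e]
      exact conj_mem_cls y haz
    exact hone (M.nat_not_mem_core hN he h.cls this hax)

theorem nat_semi_struct (hN : INat M.I) (he : M.e = true) {t : Equiv.Perm W8} (ht : t ∈ M.π.range)
    (hI : t ∉ M.I) (h2 : t * t = 1) : N.Semi t where
  add := (M.iso t ht).add
  q := he ▸ (M.iso t ht).q
  inv v := congrArg (fun s : Equiv.Perm W8 => s v) h2
  semi := M.nat_semi hN he ht hI

/-- In the natural shape every member acts as an inner element. -/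
theorem nat_mem_inner (hN : INat M.I) (he : M.e = true) {a : G} (h : Mem z a) : M.img a ∈ M.I := by
  classical
  by_contra hout
  have hS := M.nat_semi_struct hN he (M.img_mem a) hout (M.img_sq h)
  have hphi : ∀ v, M.img a v = v → M.phi a v = qe true v := fun v hv => by
    have := M.phi_comm h (W8.sig v)
    rwa [hS.fix_im hv, he] at this
  have hXz : z ∉ Xa z a := fun hz =>
    h.ne (M.nat_not_mem_core hN he h.cls (self_mem_cls z) hz.2).symm
  have hTfix : ∀ v ∈ M.vimg (Xa z a), M.img a v = v := by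
    rintro _ ⟨x, hx, rfl⟩
    exact M.fix_of_commute h.comm hx.1 (commute_of_O2c hx.2).symm
  have hT : ∀ v ∈ M.vimg (Xa z a), v = 0 := by
    by_cases haz : a * z ∈ cls z
    · rintro v ⟨x, hx, rfl⟩
      by_contra hne
      exact (M.nat_Xa_form hN he h hx (M.lift_mem (W8.sig (M.vec x)))
        (by rw [M.vec_lift, hS.fix_im (hTfix _ ⟨x, hx, rfl⟩)]) fun e => hne (e ▸ M.vec_one)).2 haz
    have hq : ∀ v, M.img a v = v → qe true v = false := fun v hv => by
      cases hp : M.phi a v
      · rw [← hphi v hv, hp]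
      · exact absurd (M.mul_z_mem_of_phi h hv hp) haz
    -- distinct vectors of the intersection are not orthogonal
    have hpair : ∀ v ∈ M.vimg (Xa z a), ∀ w ∈ M.vimg (Xa z a), v ≠ 0 → w ≠ 0 → v ≠ w →
        bb (W8.sig v) w = true := by
      intro v hv w hw hv0 hw0 hvw
      have hv' := hTfix _ hv
      have hw' := hTfix _ hw
      obtain ⟨x1, hx1, rfl⟩ := hv
      obtain ⟨x2, hx2, rfl⟩ := hw
      set y1 := M.lift (W8.sig (M.vec x1)) with hy1
      set y2 := M.lift (W8.sig (M.vec x2)) with hy2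
      have hy1m : y1 ∈ O2c z := M.lift_mem _
      have hy2m : y2 ∈ O2c z := M.lift_mem _
      have e1 := (M.nat_Xa_form hN he h hx1 hy1m (by rw [hy1, M.vec_lift, hS.fix_im hv'])
        fun e => hv0 (e ▸ M.vec_one)).1
      have e2 := (M.nat_Xa_form hN he h hx2 hy2m (by rw [hy2, M.vec_lift, hS.fix_im hw'])
        fun e => hw0 (e ▸ M.vec_one)).1
      have hx12 : x1 * x2 ∈ Xa z a := mul_mem hx1 hx2
      have e3 := (M.nat_Xa_form hN he h hx12 (mul_mem hy1m hy2m)
        (by rw [M.vec_mul hx1.1 hx2.1, M.vec_mul hy1m hy2m, hy1, hy2, M.vec_lift, M.vec_lift,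
          ← W8.sig_add, hS.fix_im (by rw [hS.add, hv', hw'])])
        fun e => hvw (W8.eq_of_add (by rw [← M.vec_mul hx1.1 hx2.1, e, M.vec_one]))).1
      obtain ⟨hC1, -⟩ := M.commutator_J h.comm hy1m
      obtain ⟨hC2, hC2v⟩ := M.commutator_J h.comm hy2m
      have e4 := M.conj_J_eq hy1m hC2
      rw [hC2v, hy2, hy1] at e4
      simp only [M.vec_lift] at e4
      rw [hS.fix_im hw', ← hy1, ← hy2] at e4
      by_contra hb
      rw [Bool.not_eq_true] at hb
      rw [hb, zb_false, mul_one] at e4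
      set C1 := a * y1 * a⁻¹ * y1⁻¹ with hC1d
      set C2 := a * y2 * a⁻¹ * y2⁻¹ with hC2d
      have e5 : a * (y1 * y2) * a⁻¹ * (y1 * y2)⁻¹ = C1 * C2 := by
        calc a * (y1 * y2) * a⁻¹ * (y1 * y2)⁻¹ = C1 * (y1 * C2 * y1⁻¹) := by
              rw [hC1d, hC2d]; group
          _ = _ := by rw [e4]
      rw [e5, e1, e2] at e3
      refine M.ne_one ?_
      have hzc : C2 * z = z * C2 := (commute_of_O2c hC2).eq
      calc z = (C1 * C2)⁻¹ * (C1 * C2 * z) := by group
        _ = (C1 * C2)⁻¹ * (C1 * z * (C2 * z)) := by rw [e3]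
        _ = C2⁻¹ * (z * C2) * z := by group
        _ = C2⁻¹ * (C2 * z) * z := by rw [hzc]
        _ = z * z := by group
        _ = 1 := M.zz
    -- the intersection is invariant under the rational transvections
    have htv : ∀ p, M.img a p = p → p ≠ 0 → ∀ v ∈ M.vimg (Xa z a), tv p v ∈ M.vimg (Xa z a) := by
      intro p hp hp0
      obtain ⟨t, ht, htp⟩ := hN.tv_singular hp0 (hq p hp)
      obtain ⟨c, hc, hct⟩ := M.exists_img (M.I_le ht)
      have hm := h.conj hc
      have himg : M.img (c * a * c⁻¹) = M.img a := by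
        rw [M.img_conj hc h.comm, hct, mul_inv_eq_iff_eq_mul]
        refine Equiv.ext fun v => ?_
        show t (M.img a v) = M.img a (t v)
        rw [htp, htp, hS.tv_comm hp]
      set a' := c * a * c⁻¹ with ha'
      have hj : a' * a ∈ O2c z := by
        rw [← M.img_eq_one (hm.comm.mul_left h.comm), M.img_mul hm.comm h.comm, himg, M.img_sq h]
      set j := a' * a with hjd
      have hjfix : M.img a (M.vec j) = M.vec j := by
        rw [← M.vec_conj' h.comm hj, ← M.vec_inv hj]
        congr 1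
        rw [hjd, M.cls_inv h.cls, mul_inv_rev, M.cls_inv h.cls, M.cls_inv hm.cls, mul_assoc a,
          mul_assoc a' a, M.cls_sq h.cls, mul_one]
      set y := M.lift (W8.sig (M.vec j)) with hy
      have hym : y ∈ O2c z := M.lift_mem _
      obtain ⟨hs, hsv⟩ := M.commutator_J h.comm hym
      set s := a * y * a⁻¹ * y⁻¹ with hsd
      rw [hy, M.vec_lift, hS.fix_im hjfix] at hsv
      have hs' : a * s * a⁻¹ ∈ O2c z := M.conj_J h.comm hs
      obtain ⟨ε, hε⟩ := M.eq_zb hs' hj (by rw [M.vec_conj' h.comm hs, hsv, hjfix])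
      have ea : a' = y * a * y⁻¹ * zb z ε := by
        have e0 : a' = j * a := by rw [hjd, mul_assoc, M.cls_sq h.cls, mul_one]
        have hcz : zb z ε * a = a * zb z ε := by
          cases ε
          · simp [zb]
          · simpa [zb] using h.comm.eq.symm
        rw [e0, hε, M.commutator_shape h hym, ← hsd, mul_assoc, hcz]
        group
      have hyz : Commute y z := commute_of_O2c hym
      have hc' : Commute (y⁻¹ * c) z := hyz.inv_left.mul_left hc
      have hca : y⁻¹ * c * a * (y⁻¹ * c)⁻¹ = a * zb z ε := by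
        rw [show y⁻¹ * c * a * (y⁻¹ * c)⁻¹ = y⁻¹ * a' * y by rw [ha']; group, ea]
        have hcy : zb z ε * y = y * zb z ε := by
          cases ε
          · simp [zb]
          · simpa [zb] using hyz.eq.symm
        rw [show y⁻¹ * (y * a * y⁻¹ * zb z ε) * y = a * y⁻¹ * (zb z ε * y) by group, hcy]
        group
      cases ε
      swap
      · exact absurd (by rw [← zb_true z, ← hca]; exact conj_mem_cls _ h.cls) haz
      rw [zb_false, mul_one] at hca
      have hcomm : Commute (y⁻¹ * c) a := mul_inv_eq_iff_eq_mul.1 hca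
      have ht' : M.img (y⁻¹ * c) = t := by
        rw [M.img_mul hyz.inv_left hc, M.img_J (inv_mem hym), one_mul, hct]
      rintro _ ⟨x, hx, rfl⟩
      exact ⟨_, M.Xa_inv h.cls hc' hcomm hx, by rw [M.vec_conj' hc' hx.1, ht', htp]⟩
    intro v hv
    by_contra hv0
    have hvf := hTfix v hv
    have hpull : ∀ p, M.img a p = p → bb (W8.sig v) p = true → p ∈ M.vimg (Xa z a) := by
      intro p hp hb
      have hp0 : p ≠ 0 := by
        rintro rfl
        simp [N.bb_zero] at hb
      have h1 := htv p hp hp0 v hv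
      rw [hS.tv_fix hp hvf, show bb v (W8.sig p) = true by
        rw [bb_comm, hS.beta_symm hp hvf, hb], if_pos rfl] at h1
      have h2 := M.add_mem_vimg inf_le_left hv h1
      rwa [← add_assoc, W8.add_self, zero_add] at h2
    obtain ⟨p, hp, hbp⟩ : ∃ p, M.img a p = p ∧ bb (W8.sig v) p = true := by
      by_contra hc
      push Not at hc
      exact hv0 (hS.beta_nondeg hvf fun w hw => by simpa using hc w hw)
    have hpv : p ≠ v := by
      rintro rfl
      rw [hS.beta_self (hq _ hvf)] at hbp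
      exact absurd hbp (by decide)
    obtain ⟨r, hr, hr'⟩ : ∃ r ∈ {w | M.img a w = w}, r ∉ ({0, v, p, v + p} : Set W8) := by
      refine Set.exists_mem_notMem_of_ncard_lt_ncard (lt_of_le_of_lt ?_
        (lt_of_lt_of_le (by norm_num : 4 < 16) (ncard_fix_ge hS.add hS.inv)))
      exact (Set.ncard_insert_le _ _).trans (Nat.succ_le_succ ((Set.ncard_insert_le _ _).trans
        (Nat.succ_le_succ ((Set.ncard_insert_le _ _).trans
          (Nat.succ_le_succ (Set.ncard_singleton _).le)))))
    simp only [Set.mem_insert_iff, Set.mem_singleton_iff, not_or] at hr'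
    obtain ⟨hr0, hrv, hrp, hrvp⟩ := hr'
    obtain ⟨p', hp', hbp', hne1, hne2⟩ : ∃ p', M.img a p' = p' ∧ bb (W8.sig v) p' = true ∧
        p' ≠ p ∧ p' ≠ v + p := by
      cases hb : bb (W8.sig v) r
      · refine ⟨r + p, by rw [M.img_add, hr, hp], by rw [bb_add_right, hb, hbp]; rfl,
          fun e => hr0 (by rwa [add_eq_right] at e), fun e => hrv (add_right_cancel e)⟩
      · exact ⟨r, hr, hb, hrp, hrvp⟩
    have hpT := hpull p hp hbp
    have hp'T := hpull p' hp' hbp'
    have hp0 : p ≠ 0 := by rintro rfl; simp [N.bb_zero] at hbp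
    have hp'0 : p' ≠ 0 := by rintro rfl; simp [N.bb_zero] at hbp'
    have hvp0 : v + p ≠ 0 := fun e => hpv (W8.eq_of_add e).symm
    have h1 := hpair _ hpT _ hp'T hp0 hp'0 hne1.symm
    have h2 := hpair _ (M.add_mem_vimg inf_le_left hv hpT) _ hp'T hvp0 hp'0 hne2.symm
    rw [W8.sig_add, bb_add_left, hbp', h1] at h2
    exact absurd h2 (by decide)
  have hX : Nat.card ↥(Xa z a) ≤ 1 := by
    refine (M.card_le_ncard (S := Xa z a) inf_le_left hXz).trans_le ?_
    exact (Set.ncard_le_ncard (t := {0}) (fun v hv => hT v hv) (Set.toFinite _)).trans_eq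
      (Set.ncard_singleton _)
  -- the image of the intersection of the cores
  obtain ⟨g, b, hg, hb, hmb⟩ := M.flip' h
  have hQ : 16 ≤ Nat.card ↥(Qa z a) := by
    rw [M.card_Qa hg hb, M.card_Ja_eq hmb.comm]
    exact (ncard_fix_ge (fun v w => M.img_add b v w) (M.img_self b hmb)).trans
      (M.fix_le_two_Kset hmb.comm)
  obtain ⟨v0, hv0, hcov⟩ : ∃ v0, M.img a v0 = v0 ∧
      ∀ v, M.img a v = v → v ∈ M.Kset a ∨ v + v0 ∈ M.Kset a := by
    by_cases hex : ∃ v0, M.img a v0 = v0 ∧ M.phi a v0 = true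
    · obtain ⟨v0, h1, h2⟩ := hex
      refine ⟨v0, h1, fun v hv => ?_⟩
      cases hp : M.phi a v
      · exact Or.inl ⟨hv, hp⟩
      · exact Or.inr ⟨by rw [M.img_add, hv, h1], by rw [M.phi_add h.comm hv h1, hp, h2]; rfl⟩
    · push Not at hex
      exact ⟨0, M.img_zero a, fun v hv => Or.inl ⟨hv, by simpa using hex v hv⟩⟩
  have hA : Nat.card ↥(M.Abar a ⊓ M.I : Subgroup (Equiv.Perm W8)) ≤ 2 :=
    hS.small (fun t ht => hN.le ht.2) (fun t ht v => M.Abar_comm_apply h ht.1 v) hv0
      (fun k hk => hk.1) hcov fun t ht k hk => W8.eq_of_add (hT _ (M.Abar_move h ht.1 hk))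
  have hA2 : Nat.card ↥(M.Abar a) ≤ 2 * Nat.card ↥(M.Abar a ⊓ M.I : Subgroup (Equiv.Perm W8)) := by
    have h1 := ((M.Abar a ⊓ M.I).subgroupOf (M.Abar a)).card_mul_index
    rw [Nat.card_congr (subgroupOfEquivOfLe inf_le_left).toEquiv, inf_subgroupOf_left] at h1
    have h2 : (M.I.subgroupOf (M.Abar a)).index ≤ 2 :=
      (Subgroup.relIndex_le_of_le_right (M.Abar_le a)
        (by show (M.I.subgroupOf M.π.range).index ≠ 0; rw [M.I_index]; norm_num)).trans_eq M.I_index
    rw [← h1, mul_comm 2]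
    exact Nat.mul_le_mul_left _ h2
  have h3 := M.card_Qa_eq a
  nlinarith

end ACoord

end Cfsg.Agent.ThreeTransp.U62Cent
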