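import Cfsg.Agent.Lib.ThreeTransp.U62Cent.Table

/-!
# Finite facts about the split module
-/

set_option autoImplicit false
set_option maxRecDepth 100000
set_option synthInstance.maxSize 4096
set_option synthInstance.maxHeartbeats 200000

namespace Cfsg.Agent.ThreeTransp.U62Cent

open W8

namespace S

/-- the Sylow 2-subgroup -/
def syl : List (List W8) := Data.sylMS.map vecs

/-- the matrices are those of the words -/
def sylWords : Bool :=
  (List.range 64).all fun i =>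
    okF (Data.sylS.getD i []) && (cols (wF (Data.sylS.getD i [])) == syl.getD i [])

theorem syl_ok : sylWords = true ∧ syl.length = 64 ∧ syl.getD 0 [] = cols id ∧
    (syl.map fun A => A.foldl (fun n x => n * 256 + W8.code x) 0).Nodup := by
  decide +kernel

theorem syl_tbl : tableOk syl Data.sylTS = true := by decide +kernel

/-- a representative -/
def a0 : W8 → W8 := wF [1, 21, 1, 16, 1, 4]
/-- its commutator space -/
def L0 : List W8 := vecs [0, 17, 5, 20]
/-- the six-dimensional part of its fixed space -/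
def D0 : List W8 := vecs [0, 42, 1, 43, 17, 59, 16, 58, 5, 47, 4, 46, 20, 62, 21, 63]
/-- its fixed space -/
def C0 : List W8 := vecs [0, 128, 64, 192, 42, 170, 106, 234, 1, 129, 65, 193, 43, 171, 107, 235, 17, 145, 81, 209, 59, 187, 123, 251, 16, 144, 80, 208, 58, 186, 122, 250, 5, 133, 69, 197, 47, 175, 111, 239, 4, 132, 68, 196, 46, 174, 110, 238, 20, 148, 84, 212, 62, 190, 126, 254, 21, 149, 85, 213, 63, 191, 127, 255]
/-- a complement -/
def W0 : List W8 := vecs [0, 128, 64, 192, 42, 170, 106, 234, 1, 129, 65, 193, 43, 171, 107, 235]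

theorem D0_iff : ∀ v ∈ six, (a0 v = v ↔ v ∈ D0) := by decide +kernel

theorem C0_iff : ∀ v : W8, a0 v = v ↔ v ∈ C0 := by decide +kernel

theorem D0_sub : ∀ v ∈ D0, v ∈ six ∧ v ∈ C0 := by decide +kernel

theorem C0_split : ∀ v ∈ C0, ∃ d ∈ D0, v = d ∨ v = d + mk 64 ∨ v = d + mk 128 ∨ v = d + mk 192 := by
  decide +kernel

theorem L0_iff : (∀ v : W8, a0 v + v ∈ L0) ∧ ∀ l ∈ L0, ∃ v : W8, a0 v + v = l := by decide +kernel

theorem L0_sub : ∀ l ∈ L0, l ∈ D0 := by decide +kernel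

theorem L0_perp : ∀ v : W8, (∀ u ∈ [mk 5, mk 17, mk 1, mk 42, mk 64, mk 128], bb v u = false) → v ∈ L0 := by decide +kernel

theorem basis0_mem : ∀ u ∈ [mk 5, mk 17, mk 1, mk 42, mk 64, mk 128], u ∈ C0 := by decide +kernel

theorem prj0_mem : ∀ v ∈ C0, prj L0 W0 v ∈ W0 ∧ v + prj L0 W0 v ∈ L0 := by decide +kernel

theorem prj0_unique : ∀ v ∈ W0, ∀ w ∈ W0, v + w ∈ W0 ∧ (v + w ∈ L0 → v = w) := by decide +kernel

/-- the matrix with given values on the adapted basis -/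
def cand0 (o : List W8) : List W8 := (vecs [16, 1, 20, 2, 24, 35, 64, 128]).map (app o)

/-- reflections fixing the fixed space -/
def fixBad0 : List (List W8) := []

/-- the completions fixing the fixed space -/
def fixList0 : List (W8 × List W8) :=
  [(mk 2, six), (mk 8, six), (mk 5, [mk 5]), (mk 17, [mk 17]), (mk 1, [mk 1]), (mk 42, [mk 42]), (mk 64, [mk 64]), (mk 128, [mk 128])]

theorem fix0 : ((search true false fixList0).all fun o =>
    o == fixList0.map Prod.fst || o == (fixList0.map Prod.fst).map a0 ||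
      fixBad0.contains (cand0 o)) = true := by decide +kernel

theorem fix0_odd : fixBad0.all (fun M => mulM M M == cols id && !evenRank M) = true := by decide +kernel

theorem fix0_span : ∀ u ∈ basis, u ∈ span (det false (fixList0.map Prod.fst)) := by decide +kernel

/-- the images of the generators of the complement -/
def indList0 : List (W8 × List W8) :=
  [(mk 1, D0), (mk 42, D0), (mk 64, [mk 64]), (mk 128, [mk 128])]

/-- the induced maps -/
def indP0 : List (List W8) := Data.indS0.map vecs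

theorem ind0_all : ((search true false indList0).all fun o =>
    indP0.contains (span (o.map (prj L0 W0)))) = true := by decide +kernel

theorem ind0_span : W0 = span (indList0.map Prod.fst) := by decide +kernel

theorem ind0_small : smallTwo W0 indP0 = true := by decide +kernel

theorem ts0 : tsB W0 = true := by decide +kernel

/-- the completions fixing a subspace of the fixed space -/
def hypList0 (K : List W8) : List (W8 × List W8) :=
  [(mk 2, six), (mk 8, six), (mk 5, if K.contains (mk 5) then [mk 5] else six), (mk 17, if K.contains (mk 17) then [mk 17] else six), (mk 1, if K.contains (mk 1) then [mk 1] else six), (mk 42, if K.contains (mk 42) then [mk 42] else six),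
    (mk 64, [mk 64]), (mk 128, [mk 128])] ++
    K.map fun v => (v, [v])

/-- the subspaces of index at most two, with the matrices fixing them and commuting with the representative -/
def hyps0 : List (List W8 × List (List W8) × List (List W8)) :=
  [(vecs [0, 1, 17, 16, 5, 4, 20, 21], [vecs [1, 2, 4, 8, 16, 32, 64, 128], vecs [1, 3, 4, 12, 16, 32, 64, 128], vecs [1, 3, 4, 8, 16, 48, 64, 128], vecs [1, 22, 4, 29, 16, 53, 64, 128], vecs [1, 2, 4, 12, 16, 48, 64, 128], vecs [1, 23, 4, 25, 16, 53, 64, 128], vecs [1, 23, 4, 29, 16, 37, 64, 128], vecs [1, 22, 4, 25, 16, 37, 64, 128]], [vecs [1, 3, 4, 8, 16, 32, 64, 128], vecs [1, 2, 4, 12, 16, 32, 64, 128], vecs [1, 2, 4, 8, 16, 48, 64, 128], vecs [1, 23, 4, 29, 16, 53, 64, 128], vecs [1, 3, 4, 12, 16, 48, 64, 128], vecs [1, 22, 4, 25, 16, 53, 64, 128], vecs [1, 22, 4, 29, 16, 37, 64, 128], vecs [1, 23, 4, 25, 16, 37, 64, 128]]),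
    (vecs [0, 42, 16, 58, 4, 46, 20, 62], [vecs [1, 2, 4, 8, 16, 32, 64, 128], vecs [21, 2, 4, 30, 16, 54, 64, 128], vecs [1, 22, 4, 25, 16, 37, 64, 128], vecs [21, 22, 4, 27, 16, 39, 64, 128]], []),
    (vecs [0, 43, 59, 16, 47, 4, 20, 63], [vecs [1, 2, 4, 8, 16, 32, 64, 128], vecs [21, 22, 4, 31, 16, 55, 64, 128], vecs [1, 22, 4, 25, 16, 37, 64, 128], vecs [21, 2, 4, 26, 16, 38, 64, 128]], []),
    (vecs [0, 42, 1, 43, 17, 59, 16, 58], [vecs [1, 2, 4, 8, 16, 32, 64, 128], vecs [1, 27, 21, 8, 16, 57, 64, 128], vecs [1, 22, 4, 25, 16, 37, 64, 128], vecs [1, 30, 21, 25, 16, 45, 64, 128]], []),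
    (vecs [0, 1, 17, 16, 47, 46, 62, 63], [vecs [1, 2, 4, 8, 16, 32, 64, 128], vecs [1, 31, 21, 25, 16, 61, 64, 128], vecs [1, 22, 4, 25, 16, 37, 64, 128], vecs [1, 26, 21, 8, 16, 41, 64, 128]], []),
    (vecs [0, 42, 16, 58, 5, 47, 21, 63], [vecs [1, 2, 4, 8, 16, 32, 64, 128], vecs [4, 25, 1, 22, 16, 37, 64, 128], vecs [1, 22, 4, 25, 16, 37, 64, 128], vecs [4, 8, 1, 2, 16, 32, 64, 128]], []),
    (vecs [0, 43, 59, 16, 5, 46, 62, 21], [vecs [1, 2, 4, 8, 16, 32, 64, 128], vecs [4, 29, 1, 23, 16, 37, 64, 128], vecs [1, 22, 4, 25, 16, 37, 64, 128], vecs [4, 12, 1, 3, 16, 32, 64, 128]], []),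
    (vecs [0, 42, 1, 43, 5, 47, 4, 46], [vecs [1, 2, 4, 8, 16, 32, 64, 128], vecs [1, 39, 4, 45, 21, 32, 64, 128], vecs [1, 22, 4, 25, 16, 37, 64, 128], vecs [1, 54, 4, 57, 21, 37, 64, 128]], []),
    (vecs [0, 1, 59, 58, 5, 4, 62, 63], [vecs [1, 2, 4, 8, 16, 32, 64, 128], vecs [1, 55, 4, 61, 21, 37, 64, 128], vecs [1, 22, 4, 25, 16, 37, 64, 128], vecs [1, 38, 4, 41, 21, 32, 64, 128]], []),
    (vecs [0, 42, 17, 59, 4, 46, 21, 63], [vecs [1, 2, 4, 8, 16, 32, 64, 128], vecs [16, 37, 4, 25, 1, 22, 64, 128], vecs [1, 22, 4, 25, 16, 37, 64, 128], vecs [16, 32, 4, 8, 1, 2, 64, 128]], []),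
    (vecs [0, 43, 17, 58, 47, 4, 62, 21], [vecs [1, 2, 4, 8, 16, 32, 64, 128], vecs [16, 53, 4, 25, 1, 23, 64, 128], vecs [1, 22, 4, 25, 16, 37, 64, 128], vecs [16, 48, 4, 8, 1, 3, 64, 128]], []),
    (vecs [0, 42, 1, 43, 20, 62, 21, 63], [vecs [1, 2, 4, 8, 16, 32, 64, 128], vecs [1, 22, 16, 37, 4, 25, 64, 128], vecs [1, 22, 4, 25, 16, 37, 64, 128], vecs [1, 2, 16, 32, 4, 8, 64, 128]], []),
    (vecs [0, 1, 59, 58, 47, 46, 20, 21], [vecs [1, 2, 4, 8, 16, 32, 64, 128], vecs [1, 22, 16, 53, 4, 29, 64, 128], vecs [1, 22, 4, 25, 16, 37, 64, 128], vecs [1, 2, 16, 48, 4, 12, 64, 128]], []),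
    (vecs [0, 42, 17, 59, 5, 47, 20, 62], [vecs [1, 2, 4, 8, 16, 32, 64, 128], vecs [4, 45, 1, 39, 21, 32, 64, 128], vecs [16, 57, 21, 8, 1, 27, 64, 128], vecs [21, 2, 16, 54, 4, 30, 64, 128], vecs [21, 22, 16, 39, 4, 27, 64, 128], vecs [16, 45, 21, 25, 1, 30, 64, 128], vecs [4, 57, 1, 54, 21, 37, 64, 128], vecs [1, 22, 4, 25, 16, 37, 64, 128]], [vecs [43, 2, 46, 8, 58, 32, 64, 128], vecs [46, 45, 43, 39, 63, 32, 64, 128], vecs [58, 57, 63, 8, 43, 27, 64, 128], vecs [63, 2, 58, 54, 46, 30, 64, 128], vecs [63, 22, 58, 39, 46, 27, 64, 128], vecs [58, 45, 63, 25, 43, 30, 64, 128], vecs [46, 57, 43, 54, 63, 37, 64, 128], vecs [43, 22, 46, 25, 58, 37, 64, 128]]),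
    (vecs [0, 43, 17, 58, 5, 46, 20, 63], [vecs [1, 2, 4, 8, 16, 32, 64, 128], vecs [4, 41, 1, 38, 21, 32, 64, 128], vecs [16, 41, 21, 8, 1, 26, 64, 128], vecs [21, 22, 16, 55, 4, 31, 64, 128], vecs [21, 2, 16, 38, 4, 26, 64, 128], vecs [16, 61, 21, 25, 1, 31, 64, 128], vecs [4, 61, 1, 55, 21, 37, 64, 128], vecs [1, 22, 4, 25, 16, 37, 64, 128]], [vecs [42, 41, 47, 8, 59, 32, 64, 128], vecs [47, 2, 42, 38, 62, 32, 64, 128], vecs [59, 2, 62, 8, 42, 26, 64, 128], vecs [62, 61, 59, 55, 47, 31, 64, 128], vecs [62, 41, 59, 38, 47, 26, 64, 128], vecs [59, 22, 62, 25, 42, 31, 64, 128], vecs [47, 22, 42, 55, 62, 37, 64, 128], vecs [42, 61, 47, 25, 59, 37, 64, 128]])]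

theorem hyps0_cover : ∀ w ∈ six, ∃ p ∈ hyps0, ∀ v ∈ p.1, v ∈ D0 ∧ bb v w = false := by decide +kernel

theorem hyp0 : hyps0.all (fun p => (search true false (hypList0 p.1)).all fun o =>
    p.2.1.contains (cand0 o) || p.2.2.contains (cand0 o) ||
      mulM (cand0 o) (cols a0) != mulM (cols a0) (cand0 o)) = true := by decide +kernel

theorem hyp0_odd : hyps0.all (fun p => p.2.2.all fun M =>
    mulM (mulM M M) (mulM M M) == cols id && !evenRank M) = true := by decide +kernel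

theorem hyp0_comm : hyps0.all (fun p => p.2.1.all fun M => p.2.1.all fun K =>
    mulM M K == mulM K M) = true := by decide +kernel

theorem coef0 : cand0 ((hypList0 []).map Prod.fst) = cols id ∧
    cand0 (fixList0.map Prod.fst) = cols id := by decide +kernel

theorem cg0_ok : okF [1, 21, 1, 16, 1, 4] = true ∧ cols (app (cols a0)) = cols a0 := by decide +kernel

/-- a representative -/
def a1 : W8 → W8 := wF [1, 4]
/-- its commutator space -/
def L1 : List W8 := vecs [0, 4, 1, 5]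
/-- the six-dimensional part of its fixed space -/
def D1 : List W8 := vecs [0, 32, 16, 48, 4, 36, 20, 52, 1, 33, 17, 49, 5, 37, 21, 53]
/-- its fixed space -/
def C1 : List W8 := vecs [0, 128, 64, 192, 32, 160, 96, 224, 16, 144, 80, 208, 48, 176, 112, 240, 4, 132, 68, 196, 36, 164, 100, 228, 20, 148, 84, 212, 52, 180, 116, 244, 1, 129, 65, 193, 33, 161, 97, 225, 17, 145, 81, 209, 49, 177, 113, 241, 5, 133, 69, 197, 37, 165, 101, 229, 21, 149, 85, 213, 53, 181, 117, 245]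
/-- a complement -/
def W1 : List W8 := vecs [0, 128, 64, 192, 32, 160, 96, 224, 16, 144, 80, 208, 48, 176, 112, 240]

theorem D1_iff : ∀ v ∈ six, (a1 v = v ↔ v ∈ D1) := by decide +kernel

theorem C1_iff : ∀ v : W8, a1 v = v ↔ v ∈ C1 := by decide +kernel

theorem D1_sub : ∀ v ∈ D1, v ∈ six ∧ v ∈ C1 := by decide +kernel

theorem C1_split : ∀ v ∈ C1, ∃ d ∈ D1, v = d ∨ v = d + mk 64 ∨ v = d + mk 128 ∨ v = d + mk 192 := by
  decide +kernel

theorem L1_iff : (∀ v : W8, a1 v + v ∈ L1) ∧ ∀ l ∈ L1, ∃ v : W8, a1 v + v = l := by decide +kernel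

theorem L1_sub : ∀ l ∈ L1, l ∈ D1 := by decide +kernel

theorem L1_perp : ∀ v : W8, (∀ u ∈ [mk 1, mk 4, mk 16, mk 32, mk 64, mk 128], bb v u = false) → v ∈ L1 := by decide +kernel

theorem basis1_mem : ∀ u ∈ [mk 1, mk 4, mk 16, mk 32, mk 64, mk 128], u ∈ C1 := by decide +kernel

theorem prj1_mem : ∀ v ∈ C1, prj L1 W1 v ∈ W1 ∧ v + prj L1 W1 v ∈ L1 := by decide +kernel

theorem prj1_unique : ∀ v ∈ W1, ∀ w ∈ W1, v + w ∈ W1 ∧ (v + w ∈ L1 → v = w) := by decide +kernel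

/-- the matrix with given values on the adapted basis -/
def cand1 (o : List W8) : List W8 := (vecs [4, 1, 8, 2, 16, 32, 64, 128]).map (app o)

/-- reflections fixing the fixed space -/
def fixBad1 : List (List W8) := [vecs [1, 3, 4, 8, 16, 32, 64, 128], vecs [1, 2, 4, 12, 16, 32, 64, 128]]

/-- the completions fixing the fixed space -/
def fixList1 : List (W8 × List W8) :=
  [(mk 2, six), (mk 8, six), (mk 1, [mk 1]), (mk 4, [mk 4]), (mk 16, [mk 16]), (mk 32, [mk 32]), (mk 64, [mk 64]), (mk 128, [mk 128])]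

theorem fix1 : ((search true false fixList1).all fun o =>
    o == fixList1.map Prod.fst || o == (fixList1.map Prod.fst).map a1 ||
      fixBad1.contains (cand1 o)) = true := by decide +kernel

theorem fix1_odd : fixBad1.all (fun M => mulM M M == cols id && !evenRank M) = true := by decide +kernel

theorem fix1_span : ∀ u ∈ basis, u ∈ span (det false (fixList1.map Prod.fst)) := by decide +kernel

/-- the images of the generators of the complement -/
def indList1 : List (W8 × List W8) :=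
  [(mk 16, D1), (mk 32, D1), (mk 64, [mk 64]), (mk 128, [mk 128])]

/-- the induced maps -/
def indP1 : List (List W8) := Data.indS1.map vecs

theorem ind1_all : ((search true false indList1).all fun o =>
    indP1.contains (span (o.map (prj L1 W1)))) = true := by decide +kernel

theorem ind1_span : W1 = span (indList1.map Prod.fst) := by decide +kernel

theorem ind1_small : smallTwo W1 indP1 = true := by decide +kernel

theorem ts1 : tsB W1 = true := by decide +kernel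

/-- the completions fixing a subspace of the fixed space -/
def hypList1 (K : List W8) : List (W8 × List W8) :=
  [(mk 2, six), (mk 8, six), (mk 1, if K.contains (mk 1) then [mk 1] else six), (mk 4, if K.contains (mk 4) then [mk 4] else six), (mk 16, if K.contains (mk 16) then [mk 16] else six), (mk 32, if K.contains (mk 32) then [mk 32] else six),
    (mk 64, [mk 64]), (mk 128, [mk 128])] ++
    K.map fun v => (v, [v])

/-- the subspaces of index at most two, with the matrices fixing them and commuting with the representative -/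
def hyps1 : List (List W8 × List (List W8) × List (List W8)) :=
  [(vecs [0, 32, 16, 48, 4, 36, 20, 52], [vecs [1, 2, 4, 8, 16, 32, 64, 128], vecs [1, 3, 4, 12, 16, 32, 64, 128]], [vecs [1, 3, 4, 8, 16, 32, 64, 128], vecs [1, 2, 4, 12, 16, 32, 64, 128]]),
    (vecs [0, 32, 16, 48, 1, 33, 17, 49], [vecs [1, 2, 4, 8, 16, 32, 64, 128], vecs [1, 3, 4, 12, 16, 32, 64, 128]], [vecs [1, 3, 4, 8, 16, 32, 64, 128], vecs [1, 2, 4, 12, 16, 32, 64, 128]]),
    (vecs [0, 32, 16, 48, 5, 37, 21, 53], [vecs [1, 2, 4, 8, 16, 32, 64, 128], vecs [1, 3, 4, 12, 16, 32, 64, 128], vecs [4, 8, 1, 2, 16, 32, 64, 128], vecs [4, 12, 1, 3, 16, 32, 64, 128]], [vecs [1, 3, 4, 8, 16, 32, 64, 128], vecs [1, 2, 4, 12, 16, 32, 64, 128], vecs [4, 8, 1, 3, 16, 32, 64, 128], vecs [4, 12, 1, 2, 16, 32, 64, 128]]),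
    (vecs [0, 16, 4, 20, 1, 17, 5, 21], [vecs [1, 2, 4, 8, 16, 32, 64, 128], vecs [1, 3, 4, 12, 16, 32, 64, 128], vecs [1, 3, 4, 8, 16, 48, 64, 128], vecs [1, 22, 4, 29, 16, 53, 64, 128], vecs [1, 2, 4, 12, 16, 48, 64, 128], vecs [1, 23, 4, 25, 16, 53, 64, 128], vecs [1, 23, 4, 29, 16, 37, 64, 128], vecs [1, 22, 4, 25, 16, 37, 64, 128]], [vecs [1, 3, 4, 8, 16, 32, 64, 128], vecs [1, 2, 4, 12, 16, 32, 64, 128], vecs [1, 2, 4, 8, 16, 48, 64, 128], vecs [1, 23, 4, 29, 16, 53, 64, 128], vecs [1, 3, 4, 12, 16, 48, 64, 128], vecs [1, 22, 4, 25, 16, 53, 64, 128], vecs [1, 22, 4, 29, 16, 37, 64, 128], vecs [1, 23, 4, 25, 16, 37, 64, 128]]),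
    (vecs [0, 16, 4, 20, 33, 49, 37, 53], [vecs [1, 2, 4, 8, 16, 32, 64, 128], vecs [1, 3, 4, 12, 16, 32, 64, 128]], [vecs [1, 3, 4, 8, 16, 32, 64, 128], vecs [1, 2, 4, 12, 16, 32, 64, 128]]),
    (vecs [0, 16, 36, 52, 1, 17, 37, 53], [vecs [1, 2, 4, 8, 16, 32, 64, 128], vecs [1, 3, 4, 12, 16, 32, 64, 128]], [vecs [1, 3, 4, 8, 16, 32, 64, 128], vecs [1, 2, 4, 12, 16, 32, 64, 128]]),
    (vecs [0, 16, 36, 52, 33, 49, 5, 21], [vecs [1, 2, 4, 8, 16, 32, 64, 128], vecs [1, 3, 4, 12, 16, 32, 64, 128], vecs [4, 29, 1, 23, 16, 37, 64, 128], vecs [4, 25, 1, 22, 16, 37, 64, 128]], [vecs [1, 3, 4, 8, 16, 32, 64, 128], vecs [1, 2, 4, 12, 16, 32, 64, 128], vecs [4, 29, 1, 22, 16, 37, 64, 128], vecs [4, 25, 1, 23, 16, 37, 64, 128]]),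
    (vecs [0, 32, 4, 36, 1, 33, 5, 37], [vecs [1, 2, 4, 8, 16, 32, 64, 128], vecs [1, 3, 4, 12, 16, 32, 64, 128], vecs [1, 3, 4, 8, 48, 32, 64, 128], vecs [1, 38, 4, 45, 53, 32, 64, 128], vecs [1, 2, 4, 12, 48, 32, 64, 128], vecs [1, 39, 4, 41, 53, 32, 64, 128], vecs [1, 39, 4, 45, 21, 32, 64, 128], vecs [1, 38, 4, 41, 21, 32, 64, 128]], [vecs [1, 3, 4, 8, 16, 32, 64, 128], vecs [1, 2, 4, 12, 16, 32, 64, 128], vecs [1, 2, 4, 8, 48, 32, 64, 128], vecs [1, 39, 4, 45, 53, 32, 64, 128], vecs [1, 3, 4, 12, 48, 32, 64, 128], vecs [1, 38, 4, 41, 53, 32, 64, 128], vecs [1, 38, 4, 45, 21, 32, 64, 128], vecs [1, 39, 4, 41, 21, 32, 64, 128]]),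
    (vecs [0, 32, 4, 36, 17, 49, 21, 53], [vecs [1, 2, 4, 8, 16, 32, 64, 128], vecs [1, 3, 4, 12, 16, 32, 64, 128]], [vecs [1, 3, 4, 8, 16, 32, 64, 128], vecs [1, 2, 4, 12, 16, 32, 64, 128]]),
    (vecs [0, 32, 20, 52, 1, 33, 21, 53], [vecs [1, 2, 4, 8, 16, 32, 64, 128], vecs [1, 3, 4, 12, 16, 32, 64, 128]], [vecs [1, 3, 4, 8, 16, 32, 64, 128], vecs [1, 2, 4, 12, 16, 32, 64, 128]]),
    (vecs [0, 32, 20, 52, 17, 49, 5, 37], [vecs [1, 2, 4, 8, 16, 32, 64, 128], vecs [1, 3, 4, 12, 16, 32, 64, 128], vecs [4, 45, 1, 39, 21, 32, 64, 128], vecs [4, 41, 1, 38, 21, 32, 64, 128]], [vecs [1, 3, 4, 8, 16, 32, 64, 128], vecs [1, 2, 4, 12, 16, 32, 64, 128], vecs [4, 45, 1, 38, 21, 32, 64, 128], vecs [4, 41, 1, 39, 21, 32, 64, 128]]),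
    (vecs [0, 48, 4, 52, 1, 49, 5, 53], [vecs [1, 2, 4, 8, 16, 32, 64, 128], vecs [1, 3, 4, 12, 16, 32, 64, 128], vecs [1, 3, 4, 8, 32, 16, 64, 128], vecs [1, 54, 4, 61, 37, 21, 64, 128], vecs [1, 2, 4, 12, 32, 16, 64, 128], vecs [1, 55, 4, 57, 37, 21, 64, 128], vecs [1, 55, 4, 61, 21, 37, 64, 128], vecs [1, 54, 4, 57, 21, 37, 64, 128]], [vecs [1, 3, 4, 8, 16, 32, 64, 128], vecs [1, 2, 4, 12, 16, 32, 64, 128], vecs [1, 2, 4, 8, 32, 16, 64, 128], vecs [1, 55, 4, 61, 37, 21, 64, 128], vecs [1, 3, 4, 12, 32, 16, 64, 128], vecs [1, 54, 4, 57, 37, 21, 64, 128], vecs [1, 54, 4, 61, 21, 37, 64, 128], vecs [1, 55, 4, 57, 21, 37, 64, 128]]),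
    (vecs [0, 48, 4, 52, 33, 17, 37, 21], [vecs [1, 2, 4, 8, 16, 32, 64, 128], vecs [1, 3, 4, 12, 16, 32, 64, 128]], [vecs [1, 3, 4, 8, 16, 32, 64, 128], vecs [1, 2, 4, 12, 16, 32, 64, 128]]),
    (vecs [0, 48, 36, 20, 1, 49, 37, 21], [vecs [1, 2, 4, 8, 16, 32, 64, 128], vecs [1, 3, 4, 12, 16, 32, 64, 128]], [vecs [1, 3, 4, 8, 16, 32, 64, 128], vecs [1, 2, 4, 12, 16, 32, 64, 128]]),
    (vecs [0, 48, 36, 20, 33, 17, 5, 53], [vecs [1, 2, 4, 8, 16, 32, 64, 128], vecs [1, 3, 4, 12, 16, 32, 64, 128], vecs [4, 61, 1, 55, 21, 37, 64, 128], vecs [4, 57, 1, 54, 21, 37, 64, 128]], [vecs [1, 3, 4, 8, 16, 32, 64, 128], vecs [1, 2, 4, 12, 16, 32, 64, 128], vecs [4, 61, 1, 54, 21, 37, 64, 128], vecs [4, 57, 1, 55, 21, 37, 64, 128]])]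

theorem hyps1_cover : ∀ w ∈ six, ∃ p ∈ hyps1, ∀ v ∈ p.1, v ∈ D1 ∧ bb v w = false := by decide +kernel

theorem hyp1 : hyps1.all (fun p => (search true false (hypList1 p.1)).all fun o =>
    p.2.1.contains (cand1 o) || p.2.2.contains (cand1 o) ||
      mulM (cand1 o) (cols a1) != mulM (cols a1) (cand1 o)) = true := by decide +kernel

theorem hyp1_odd : hyps1.all (fun p => p.2.2.all fun M =>
    mulM (mulM M M) (mulM M M) == cols id && !evenRank M) = true := by decide +kernel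

theorem hyp1_comm : hyps1.all (fun p => p.2.1.all fun M => p.2.1.all fun K =>
    mulM M K == mulM K M) = true := by decide +kernel

theorem coef1 : cand1 ((hypList1 []).map Prod.fst) = cols id ∧
    cand1 (fixList1.map Prod.fst) = cols id := by decide +kernel

theorem cg1_ok : okF [1, 4] = true ∧ cols (app (cols a1)) = cols a1 := by decide +kernel

/-- the completions trivial on the orthogonal space of a vector modulo it -/
def radList1 : List (W8 × List W8) :=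
  [(mk 2, six), (mk 32, [mk 32, mk 33]), (mk 16, [mk 16, mk 17]), (mk 8, [mk 8, mk 9]), (mk 4, [mk 4, mk 5]), (mk 1, [mk 1]),
    (mk 64, [mk 64]), (mk 128, [mk 128])]

theorem rad1 : ((search true false radList1).length ≤ 16) ∧
    (∀ u ∈ basis, u ∈ span (det false (radList1.map Prod.fst))) ∧
    ∀ p ∈ radList1, p.1 = mk 2 ∧ p.2 = six ∨ (p.2 = [p.1] ∧ (p.1 = mk 1 ∨ p.1 = mk 64 ∨ p.1 = mk 128)) ∨
      (p.1 ∈ six ∧ bb p.1 (mk 1) = false ∧ p.2 = [p.1, p.1 + mk 1]) := by decide +kernel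

theorem orbit1 : ∀ v ∈ six, v = 0 ∨ qe true v != qe true (mk 1) ∨
    ∃ w ∈ Data.orbS1, okF w = true ∧ wF w (mk 1) = v := by decide +kernel

theorem span1_ts : ∀ e : Bool, tsSmall e (vecs [0, 128, 64, 192, 1, 129, 65, 193]) = true := by decide +kernel

/-- the completions trivial on the orthogonal space of a vector modulo it -/
def radList5 : List (W8 × List W8) :=
  [(mk 2, six), (mk 32, [mk 32, mk 37]), (mk 16, [mk 16, mk 21]), (mk 10, [mk 10, mk 15]), (mk 1, [mk 1, mk 4]), (mk 5, [mk 5]),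
    (mk 64, [mk 64]), (mk 128, [mk 128])]

theorem rad5 : ((search true false radList5).length ≤ 16) ∧
    (∀ u ∈ basis, u ∈ span (det false (radList5.map Prod.fst))) ∧
    ∀ p ∈ radList5, p.1 = mk 2 ∧ p.2 = six ∨ (p.2 = [p.1] ∧ (p.1 = mk 5 ∨ p.1 = mk 64 ∨ p.1 = mk 128)) ∨
      (p.1 ∈ six ∧ bb p.1 (mk 5) = false ∧ p.2 = [p.1, p.1 + mk 5]) := by decide +kernel

theorem orbit5 : ∀ v ∈ six, v = 0 ∨ qe true v != qe true (mk 5) ∨
    ∃ w ∈ Data.orbS5, okF w = true ∧ wF w (mk 5) = v := by decide +kernel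

theorem span5_ts : ∀ e : Bool, tsSmall e (vecs [0, 128, 64, 192, 5, 133, 69, 197]) = true := by decide +kernel

theorem move0 : (∀ w ∈ Data.mvS0, okF w = true ∧ wF w (mk 0) = mk 0) ∧ ∀ x ∈ six, bb x (mk 0) = true ∨
    x = 0 ∨ x = mk 0 ∨ ∃ g ∈ Data.mvS0, bb x (wF g x) = true := by decide +kernel

theorem move1 : (∀ w ∈ Data.mvS1, okF w = true ∧ wF w (mk 1) = mk 1) ∧ ∀ x ∈ six, bb x (mk 1) = true ∨
    x = 0 ∨ x = mk 1 ∨ ∃ g ∈ Data.mvS1, bb x (wF g x) = true := by decide +kernel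

theorem move5 : (∀ w ∈ Data.mvS5, okF w = true ∧ wF w (mk 5) = mk 5) ∧ ∀ x ∈ six, bb x (mk 5) = true ∨
    x = 0 ∨ x = mk 5 ∨ ∃ g ∈ Data.mvS5, bb x (wF g x) = true := by decide +kernel

theorem span0_ts : ∀ e : Bool, tsSmall e (vecs [0, 128, 64, 192]) = true := by decide +kernel

/-- conjugating data check -/
def cjOk : Bool :=
  (List.range 64).all fun i =>
    (syl.getD i [] == cols id) || (mulM (syl.getD i []) (syl.getD i []) != cols id) ||
      Data.cjS.any fun t => t.1 == i && okF t.2.2 &&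
        (mulM (cols (wF t.2.2)) (syl.getD i []) ==
          mulM (if t.2.1 then cols a1 else cols a0) (cols (wF t.2.2)))

theorem cj_ok : cjOk = true := by decide +kernel

theorem syl_even : syl.all evenRank = true := by decide +kernel

end S

end Cfsg.Agent.ThreeTransp.U62Cent
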