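import Cfsg.Agent.Lib.ThreeTransp.U62Cent.NatFacts
import Cfsg.Agent.Lib.ThreeTransp.U62Cent.SplitFacts

/-!
# The two possible images: elements from words, orbits, classes of involutions
-/

set_option autoImplicit false
set_option maxRecDepth 100000

namespace Cfsg.Agent.ThreeTransp.U62Cent

open W8

/-- the image in the natural module -/
structure INat (I : Subgroup (Equiv.Perm W8)) : Prop where
  simple : IsSimpleGroup I
  le : I ≤ GN
  card : Nat.card I = 25920

/-- the image in the split module -/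
structure ISplit (I : Subgroup (Equiv.Perm W8)) : Prop where
  simple : IsSimpleGroup I
  le : I ≤ GS true
  card : Nat.card I = 25920

theorem six_split : ∀ v : W8, ∃ d ∈ six, ∃ p ∈ vecs [0, 64, 128, 192], v = d + p ∧ bb d p = false := by
  decide +kernel

theorem GS_le (e : Bool) : GS e ≤ GS true := by
  rintro g hg
  refine ⟨⟨hg.1.add, fun v => ?_, fun h => absurd h (by decide)⟩, hg.2⟩
  obtain ⟨d, hd, p, hp, rfl, hdp⟩ := six_split v
  have hgp : g p = p := by
    simp only [vecs, List.map_cons, List.map_nil, List.mem_cons, List.not_mem_nil, or_false] at hp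
    rcases hp with rfl | rfl | rfl | rfl
    · exact hg.1.map_zero
    · exact hg.2.1
    · exact hg.2.2
    · rw [show mk 192 = W8.e 6 + W8.e 7 by decide +kernel, hg.1.add, hg.2.1, hg.2.2]
  have hq : qe true (g d) = qe true d := by
    rw [← qe_six e _ (GS_six hg hd), hg.1.q, qe_six e _ hd]
  have hb : bb (g d) p = false := by rw [← hdp, ← hg.1.bb d p, hgp]
  rw [hg.1.add, hgp, qe_add, qe_add, hq, hb, hdp]

theorem wT_add : ∀ (l : List ℕ) (v w : W8), wT l (v + w) = wT l v + wT l w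
  | [], _, _ => rfl
  | p :: l, v, w => by simp only [wT, wT_add l, tv_add]

theorem wF_add : ∀ (l : List ℕ) (v w : W8), wF l (v + w) = wF l v + wF l w
  | [], _, _ => rfl
  | p :: l, v, w => by simp only [wF, wF_add l, rfx_add]

theorem eq_of_cols {g : Equiv.Perm W8} (hg : g ∈ addPerm) {f : W8 → W8}
    (hf : ∀ v w, f (v + w) = f v + f w) (h : cols g = cols f) (v : W8) : g v = f v := by
  rw [eq_app hg, eq_app hf v]
  exact congrArg (fun l => app l v) h

theorem list_nodup_of_key {α β : Type*} {l : List α} (f : α → β) (h : (l.map f).Nodup) : l.Nodup :=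
  h.of_map f

/-- An element of 2-power order is conjugate into a Sylow 2-subgroup given by a list. -/
theorem conj_into_list {I : Subgroup (Equiv.Perm W8)} (hI : I ≤ addPerm) (hc : Nat.card I = 25920)
    (P : List (List W8)) (hn : P.Nodup) (hl : P.length = 64) (h1 : cols id ∈ P)
    (hmul : ∀ A ∈ P, ∀ B ∈ P, mulM A B ∈ P) (hreal : ∀ A ∈ P, ∃ g ∈ I, cols g = A)
    {x : Equiv.Perm W8} (hx : x ∈ I) {k : ℕ} (hk : x ^ 2 ^ k = 1) :
    ∃ y ∈ I, cols (y * x * y⁻¹ : Equiv.Perm W8) ∈ P := by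
  classical
  haveI : Fact (Nat.Prime 2) := ⟨Nat.prime_two⟩
  obtain ⟨S, hSI, hS, hSP⟩ := exists_subgroup_of_list hI P hn h1 hmul hreal
  rw [hl] at hS
  set S' : Subgroup I := S.subgroupOf I
  have hS' : Nat.card S' = 64 :=
    (Nat.card_congr (Subgroup.subgroupOfEquivOfLe hSI).toEquiv).trans hS
  have hp : IsPGroup 2 S' := IsPGroup.of_card (n := 6) (by rw [hS']; norm_num)
  have hidx : ¬ 2 ∣ S'.index := by
    have h := S'.card_mul_index
    rw [hS', hc] at h
    omega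
  let T : Sylow 2 I := hp.toSylow hidx
  have hxp : IsPGroup 2 (Subgroup.zpowers (⟨x, hx⟩ : I)) := by
    rw [IsPGroup.iff_card]
    have hd : orderOf (⟨x, hx⟩ : I) ∣ 2 ^ k := orderOf_dvd_of_pow_eq_one (Subtype.ext (by simpa using hk))
    obtain ⟨n, -, hn'⟩ := (Nat.dvd_prime_pow Nat.prime_two).1 hd
    exact ⟨n, by rw [Nat.card_zpowers, hn']⟩
  obtain ⟨T', hT'⟩ := hxp.exists_le_sylow
  obtain ⟨g, hg⟩ := MulAction.exists_smul_eq I T' T
  have hm : g * ⟨x, hx⟩ * g⁻¹ ∈ ((g • T' : Sylow 2 I) : Subgroup I) := by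
    rw [Sylow.coe_subgroup_smul]
    exact ⟨⟨x, hx⟩, hT' (Subgroup.mem_zpowers _), rfl⟩
  rw [hg] at hm
  exact ⟨g, g.2, hSP _ (Subgroup.mem_subgroupOf.1 hm)⟩

namespace INat

variable {I : Subgroup (Equiv.Perm W8)} (h : INat I)
include h

theorem add : I ≤ addPerm := fun _ hg => (h.le hg).add

theorem word {l : List ℕ} (hl : okT l = true) : ∃ g ∈ I, ⇑g = wT l := by
  haveI := h.simple
  exact exists_wT (fun p hp => tv_mem_of_simple h.le h.card p hp) hl

theorem trans5 {v : W8} (hv : v ≠ 0) (hq : qe true v = false) : ∃ g ∈ I, g (W8.mk 5) = v := by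
  obtain rfl | e | ⟨w, -, hok, hw⟩ := N.orbit v
  · exact absurd rfl hv
  · rw [hq] at e; exact absurd e (by decide)
  · obtain ⟨g, hg, e⟩ := h.word hok
    exact ⟨g, hg, by rw [e, hw]⟩

theorem real : ∀ A ∈ N.syl, ∃ g ∈ I, cols g = A := by
  intro A hA
  obtain ⟨i, hi, rfl⟩ := List.getElem_of_mem hA
  have hw := N.syl_ok.1
  simp only [N.sylWords, List.all_eq_true, List.mem_range, Bool.and_eq_true, beq_iff_eq] at hw
  obtain ⟨h1, h2⟩ := hw i (N.syl_ok.2.1 ▸ hi)
  obtain ⟨g, hg, e⟩ := h.word h1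
  exact ⟨g, hg, by rw [e, h2, List.getD_eq_getElem _ _ hi]⟩

theorem one_mem_syl : cols id ∈ N.syl := by
  have hl : 0 < N.syl.length := by rw [N.syl_ok.2.1]; norm_num
  rw [← N.syl_ok.2.2.1, List.getD_eq_getElem _ _ hl]
  exact List.getElem_mem hl

theorem classes {x : Equiv.Perm W8} (hx : x ∈ I) (hx2 : x * x = 1) (hne : x ≠ 1) :
    ∃ y ∈ I, (∀ v, (y * x * y⁻¹ : Equiv.Perm W8) v = N.a0 v) ∨
      ∀ v, (y * x * y⁻¹ : Equiv.Perm W8) v = N.a1 v := by
  have hn := N.syl_ok.2.2.2.of_map _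
  obtain ⟨-, -, c0, c1⟩ := N.reps_ok
  obtain ⟨y, hy, e⟩ := involution_class h.add h.card N.syl hn N.syl_ok.2.1 h.one_mem_syl
    (mul_mem_of_table N.syl_tbl) h.real (cols N.a0) (cols N.a1) c0 c1 (fun A hA h1 h2 => by
      obtain ⟨i, hi, rfl⟩ := List.getElem_of_mem hA
      have hc := N.cj_ok
      simp only [N.cjOk, List.all_eq_true, List.mem_range, Bool.or_eq_true, bne_iff_ne, beq_iff_eq,
        List.any_eq_true, Bool.and_eq_true] at hc
      rw [← List.getD_eq_getElem _ [] hi] at h1 h2 ⊢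
      rcases hc i (N.syl_ok.2.1 ▸ hi) with (e | e) | ⟨t, -, ⟨-, hok⟩, e⟩
      · exact absurd e h1
      · exact absurd h2 e
      · obtain ⟨w, hw, ew⟩ := h.word hok
        refine ⟨w, hw, ?_⟩
        rw [ew, e]
        cases t.2.1 <;> simp) hx hx2 hne
  have hm : (y * x * y⁻¹ : Equiv.Perm W8) ∈ addPerm := h.add (mul_mem (mul_mem hy hx) (inv_mem hy))
  refine ⟨y, hy, e.imp (fun e => ?_) fun e => ?_⟩
  · exact eq_of_cols hm (wT_add _) e
  · exact eq_of_cols hm (wT_add _) e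

theorem rep0 : ∃ t ∈ I, ⇑t = N.a0 := h.word N.reps_ok.1

theorem rep1 : ∃ t ∈ I, ⇑t = N.a1 := h.word N.reps_ok.2.1

/-- the words commuting with the representatives, realised -/
theorem cg0 {w : List ℕ} (hw : w ∈ N.two Data.cgN0) :
    ∃ g ∈ I, ⇑g = wT w ∧ ∀ v, g (N.a0 v) = N.a0 (g v) := by
  obtain ⟨h1, h2⟩ := N.cg_ok.1 w hw
  obtain ⟨g, hg, e⟩ := h.word h1
  obtain ⟨t, ht, et⟩ := h.rep0
  have hc : cols (g * t : Equiv.Perm W8) = cols (t * g : Equiv.Perm W8) := by
    rw [cols_mul (h.add hg), cols_mul (h.add ht), e, et, h2]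
  refine ⟨g, hg, e, fun v => ?_⟩
  have := congrArg (fun s : Equiv.Perm W8 => s v)
    (perm_ext (mul_mem (h.add hg) (h.add ht)) (mul_mem (h.add ht) (h.add hg)) hc)
  simpa [Equiv.Perm.mul_apply, et] using this

theorem cg1 {w : List ℕ} (hw : w ∈ N.two Data.cgN1) :
    ∃ g ∈ I, ⇑g = wT w ∧ ∀ v, g (N.a1 v) = N.a1 (g v) := by
  obtain ⟨h1, h2⟩ := N.cg_ok.2 w hw
  obtain ⟨g, hg, e⟩ := h.word h1
  obtain ⟨t, ht, et⟩ := h.rep1
  have hc : cols (g * t : Equiv.Perm W8) = cols (t * g : Equiv.Perm W8) := by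
    rw [cols_mul (h.add hg), cols_mul (h.add ht), e, et, h2]
  refine ⟨g, hg, e, fun v => ?_⟩
  have := congrArg (fun s : Equiv.Perm W8 => s v)
    (perm_ext (mul_mem (h.add hg) (h.add ht)) (mul_mem (h.add ht) (h.add hg)) hc)
  simpa [Equiv.Perm.mul_apply, et] using this

end INat

namespace ISplit

variable {I : Subgroup (Equiv.Perm W8)} (h : ISplit I)
include h

theorem add : I ≤ addPerm := fun _ hg => (h.le hg).1.add

theorem word {l : List ℕ} (hl : okF l = true) : ∃ g ∈ I, ⇑g = wF l := by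
  haveI := h.simple
  exact exists_wF (fun r s hr hs => pair_mem_of_simple h.le h.card r s hr hs) hl

theorem fix_plane {g : Equiv.Perm W8} (hg : g ∈ I) {p : W8} (hp : p ∈ vecs [0, 64, 128, 192]) :
    g p = p := by
  have hg' := h.le hg
  simp only [vecs, List.map_cons, List.map_nil, List.mem_cons, List.not_mem_nil, or_false] at hp
  rcases hp with rfl | rfl | rfl | rfl
  · exact hg'.1.map_zero
  · exact hg'.2.1
  · exact hg'.2.2
  · rw [show W8.mk 192 = W8.e 6 + W8.e 7 by decide +kernel, hg'.1.add, hg'.2.1, hg'.2.2]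

theorem trans1 {v : W8} (hv : v ∈ six) (hne : v ≠ 0) (hq : qe true v = qe true (W8.mk 1)) :
    ∃ g ∈ I, g (W8.mk 1) = v := by
  obtain rfl | e | ⟨w, -, hok, hw⟩ := S.orbit1 v hv
  · exact absurd rfl hne
  · simp [hq] at e
  · obtain ⟨g, hg, e⟩ := h.word hok
    exact ⟨g, hg, by rw [e, hw]⟩

theorem trans5 {v : W8} (hv : v ∈ six) (hne : v ≠ 0) (hq : qe true v = qe true (W8.mk 5)) :
    ∃ g ∈ I, g (W8.mk 5) = v := by
  obtain rfl | e | ⟨w, -, hok, hw⟩ := S.orbit5 v hv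
  · exact absurd rfl hne
  · simp [hq] at e
  · obtain ⟨g, hg, e⟩ := h.word hok
    exact ⟨g, hg, by rw [e, hw]⟩

theorem real : ∀ A ∈ S.syl, ∃ g ∈ I, cols g = A := by
  intro A hA
  obtain ⟨i, hi, rfl⟩ := List.getElem_of_mem hA
  have hw := S.syl_ok.1
  simp only [S.sylWords, List.all_eq_true, List.mem_range, Bool.and_eq_true, beq_iff_eq] at hw
  obtain ⟨h1, h2⟩ := hw i (S.syl_ok.2.1 ▸ hi)
  obtain ⟨g, hg, e⟩ := h.word h1
  exact ⟨g, hg, by rw [e, h2, List.getD_eq_getElem _ _ hi]⟩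

theorem one_mem_syl : cols id ∈ S.syl := by
  have hl : 0 < S.syl.length := by rw [S.syl_ok.2.1]; norm_num
  rw [← S.syl_ok.2.2.1, List.getD_eq_getElem _ _ hl]
  exact List.getElem_mem hl

theorem classes {x : Equiv.Perm W8} (hx : x ∈ I) (hx2 : x * x = 1) (hne : x ≠ 1) :
    ∃ y ∈ I, (∀ v, (y * x * y⁻¹ : Equiv.Perm W8) v = S.a0 v) ∨
      ∀ v, (y * x * y⁻¹ : Equiv.Perm W8) v = S.a1 v := by
  have hn := S.syl_ok.2.2.2.of_map _
  obtain ⟨y, hy, e⟩ := involution_class h.add h.card S.syl hn S.syl_ok.2.1 h.one_mem_syl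
    (mul_mem_of_table S.syl_tbl) h.real (cols S.a0) (cols S.a1) S.cg0_ok.2 S.cg1_ok.2 (fun A hA h1 h2 => by
      obtain ⟨i, hi, rfl⟩ := List.getElem_of_mem hA
      have hc := S.cj_ok
      simp only [S.cjOk, List.all_eq_true, List.mem_range, Bool.or_eq_true, bne_iff_ne, beq_iff_eq,
        List.any_eq_true, Bool.and_eq_true] at hc
      rw [← List.getD_eq_getElem _ [] hi] at h1 h2 ⊢
      rcases hc i (S.syl_ok.2.1 ▸ hi) with (e | e) | ⟨t, -, ⟨-, hok⟩, e⟩
      · exact absurd e h1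
      · exact absurd h2 e
      · obtain ⟨w, hw, ew⟩ := h.word hok
        refine ⟨w, hw, ?_⟩
        rw [ew, e]
        cases t.2.1 <;> simp) hx hx2 hne
  have hm : (y * x * y⁻¹ : Equiv.Perm W8) ∈ addPerm := h.add (mul_mem (mul_mem hy hx) (inv_mem hy))
  refine ⟨y, hy, e.imp (fun e => ?_) fun e => ?_⟩
  · exact eq_of_cols hm (wF_add _) e
  · exact eq_of_cols hm (wF_add _) e

/-- The `2`-elements move a subspace of even dimension. -/
theorem even_rank {x : Equiv.Perm W8} (hx : x ∈ I) {k : ℕ} (hk : x ^ 2 ^ k = 1) :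
    evenRank (cols x) = true := by
  obtain ⟨y, hy, e⟩ := conj_into_list h.add h.card S.syl (S.syl_ok.2.2.2.of_map _) S.syl_ok.2.1
    h.one_mem_syl (mul_mem_of_table S.syl_tbl) h.real hx hk
  have he := List.all_eq_true.1 S.syl_even _ e
  have hy' : ∀ v w, y (v + w) = y v + y w := h.add hy
  have hm := h.add (mul_mem (mul_mem hy hx) (inv_mem hy))
  simp only [evenRank] at he ⊢
  rw [rank_eq hm, rank_conj hy'] at he
  rw [rank_eq (h.add hx)]
  exact he

end ISplit

end Cfsg.Agent.ThreeTransp.U62Cent
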