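import Cfsg.Agent.Lib.ThreeTransp.U62Cent.Coord
import Cfsg.Agent.Lib.ThreeTransp.U62Cent.Groups

/-!
# Calculus in the centraliser of `z`, and transport to its conjugates
-/

set_option autoImplicit false
set_option linter.unusedSectionVars false

namespace Cfsg.Agent.ThreeTransp.U62Cent

open W8 Subgroup Cfsg.Agent.LargeExtra
open scoped commutatorElement

universe u

variable {G : Type u} [Group G]

/-- the conjugates of `z` -/
def cls (z : G) : Set G := {x | ∃ g : G, g * z * g⁻¹ = x}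

theorem self_mem_cls (z : G) : z ∈ cls z := ⟨1, by simp⟩

theorem conj_mem_cls {z x : G} (g : G) (h : x ∈ cls z) : g * x * g⁻¹ ∈ cls z := by
  obtain ⟨k, rfl⟩ := h
  exact ⟨g * k, by group⟩

theorem conj_commute {x y : G} (g : G) (h : Commute x y) :
    Commute (g * x * g⁻¹) (g * y * g⁻¹) := by
  have := h.map (MulAut.conj g).toMonoidHom
  simpa using this

theorem mem_O2c_conj [Finite G] (g x w : G) : g * w * g⁻¹ ∈ O2c (g * x * g⁻¹) ↔ w ∈ O2c x := by
  rw [setting_conj (fun y => O2c y) (fun _ => rfl) x g]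
  simp [mul_assoc]

theorem mem_cent {z c : G} : c ∈ centralizer ({z} : Set G) ↔ Commute c z :=
  mem_centralizer_singleton_iff

theorem commute_of_O2c {x w : G} (h : w ∈ O2c x) : Commute w x := mem_cent.1 (map_subtype_le _ h)

/-- `q` with `q * y * q⁻¹ * y⁻¹` in a subgroup normalised by `y` and containing `q` -/
theorem commutator_mem_of {S : Subgroup G} {q y : G} (hq : q ∈ S) (hy : y * q⁻¹ * y⁻¹ ∈ S) :
    q * y * q⁻¹ * y⁻¹ ∈ S := by
  have h := S.mul_mem hq hy
  simpa [mul_assoc] using h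

/-- `O₂(C(a))` cut down to `C(z)` -/
def Qa (z a : G) : Subgroup G := O2c a ⊓ centralizer ({z} : Set G)

/-- the intersection of the two cores -/
def Xa (z a : G) : Subgroup G := O2c z ⊓ O2c a

/-- the centraliser of `a` in `O₂(C(z))` -/
def Ja (z a : G) : Subgroup G := O2c z ⊓ centralizer ({a} : Set G)

theorem mem_Qa {z a q : G} : q ∈ Qa z a ↔ q ∈ O2c a ∧ Commute q z := and_congr_right' mem_cent

theorem mem_Ja {z a y : G} : y ∈ Ja z a ↔ y ∈ O2c z ∧ Commute y a := and_congr_right' mem_cent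

namespace Pre

variable [Finite G] {z : G} (M : Pre z)

include M



theorem ne_one : z ≠ 1 := M.ctr.ne_one

theorem zz : z * z = 1 := M.ctr.zz

theorem z_mem : z ∈ O2c z := M.ctr.z_mem

theorem zb_mem (t : Bool) : zb z t ∈ O2c z := by
  cases t
  · exact one_mem _
  · exact M.z_mem

omit [Finite G] in
theorem vec_one : M.vec 1 = 0 := by
  have h := M.vec_mul (one_mem _) (one_mem _) (x := 1) (y := 1)
  rw [one_mul] at h
  exact left_eq_add.1 h

theorem vec_zb (t : Bool) : M.vec (zb z t) = 0 := by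
  cases t
  · exact M.vec_one
  · exact M.vec_z

theorem vec_inv {x : G} (hx : x ∈ O2c z) : M.vec x⁻¹ = M.vec x := by
  have h := M.vec_mul hx (inv_mem hx)
  rw [mul_inv_cancel, M.vec_one] at h
  exact (eq_of_add h.symm).symm

theorem eq_zb {x y : G} (hx : x ∈ O2c z) (hy : y ∈ O2c z) (h : M.vec x = M.vec y) :
    ∃ t, y = x * zb z t := by
  have h' : M.vec (x⁻¹ * y) = 0 := by rw [M.vec_mul (inv_mem hx) hy, M.vec_inv hx, h, add_self]
  rcases M.vec_cases (mul_mem (inv_mem hx) hy) h' with e | e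
  · exact ⟨false, by rw [zb_false, mul_one, inv_mul_eq_one.1 e]⟩
  · exact ⟨true, by rw [zb_true, ← e, mul_inv_cancel_left]⟩

/-- a chosen lift -/
noncomputable def lift (v : W8) : G := (M.surj v).choose

theorem lift_mem (v : W8) : M.lift v ∈ O2c z := (M.surj v).choose_spec.1

theorem vec_lift (v : W8) : M.vec (M.lift v) = v := (M.surj v).choose_spec.2

/-- the image of an element of the centraliser -/
noncomputable def img (c : G) : Equiv.Perm W8 :=
  letI := Classical.propDecidable (c ∈ centralizer ({z} : Set G))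
  if h : c ∈ centralizer ({z} : Set G) then M.π ⟨c, h⟩ else 1

theorem img_eq {c : G} (h : c ∈ centralizer ({z} : Set G)) : M.img c = M.π ⟨c, h⟩ := dif_pos h

theorem img_mul {c d : G} (hc : Commute c z) (hd : Commute d z) :
    M.img (c * d) = M.img c * M.img d := by
  rw [M.img_eq (mem_cent.2 hc), M.img_eq (mem_cent.2 hd),
    M.img_eq (mem_cent.2 (hc.mul_left hd)), ← map_mul]
  rfl

theorem img_inv {c : G} (hc : Commute c z) : M.img c⁻¹ = (M.img c)⁻¹ := by
  rw [M.img_eq (mem_cent.2 hc), M.img_eq (mem_cent.2 hc.inv_left), ← map_inv]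
  rfl

theorem img_conj {c d : G} (hc : Commute c z) (hd : Commute d z) :
    M.img (c * d * c⁻¹) = M.img c * M.img d * (M.img c)⁻¹ := by
  rw [M.img_mul (hc.mul_left hd) hc.inv_left, M.img_mul hc hd, M.img_inv hc]

theorem img_eq_one {c : G} (hc : Commute c z) : M.img c = 1 ↔ c ∈ O2c z := by
  rw [M.img_eq (mem_cent.2 hc), M.ker]

theorem img_J {c : G} (hc : c ∈ O2c z) : M.img c = 1 :=
  (M.img_eq_one (commute_of_O2c hc)).2 hc

theorem img_mem (c : G) : M.img c ∈ M.π.range := by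
  classical
  unfold img
  split
  · exact ⟨_, rfl⟩
  · exact one_mem _

theorem exists_img {t : Equiv.Perm W8} (ht : t ∈ M.π.range) : ∃ c, Commute c z ∧ M.img c = t := by
  obtain ⟨c, rfl⟩ := ht
  exact ⟨c, mem_cent.1 c.2, M.img_eq c.2⟩

theorem vec_conj' {c x : G} (hc : Commute c z) (hx : x ∈ O2c z) :
    M.vec (c * x * c⁻¹) = M.img c (M.vec x) := by
  rw [M.img_eq (mem_cent.2 hc), ← M.vec_conj _ hx]

theorem conj_J {c x : G} (hc : Commute c z) (hx : x ∈ O2c z) : c * x * c⁻¹ ∈ O2c z :=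
  M.ctr.conj_mem hc.eq hx

theorem range_add : M.π.range ≤ addPerm := fun _ hg => (M.iso _ hg).add

theorem img_add (c : G) (v w : W8) : M.img c (v + w) = M.img c v + M.img c w :=
  M.range_add (M.img_mem c) v w

theorem img_zero (c : G) : M.img c 0 = 0 := additive_zero (M.img_add c)

theorem img_q (c : G) (v : W8) : qe M.e (M.img c v) = qe M.e v := (M.iso _ (M.img_mem c)).q v

theorem img_bb (c : G) (v w : W8) : bb (M.img c v) (M.img c w) = bb v w :=
  (M.iso _ (M.img_mem c)).bb v w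

theorem conj_J_eq {y x : G} (hy : y ∈ O2c z) (hx : x ∈ O2c z) :
    y * x * y⁻¹ = x * zb z (bb (M.vec y) (M.vec x)) := by
  rw [mul_inv_eq_iff_eq_mul, M.comm hy hx, ← mul_assoc,
    ← zb_central (M.ctr.comm hx), mul_assoc]

theorem commutator_J {c y : G} (hc : Commute c z) (hy : y ∈ O2c z) :
    c * y * c⁻¹ * y⁻¹ ∈ O2c z ∧ M.vec (c * y * c⁻¹ * y⁻¹) = M.img c (M.vec y) + M.vec y :=
  ⟨mul_mem (M.conj_J hc hy) (inv_mem hy), by
    rw [M.vec_mul (M.conj_J hc hy) (inv_mem hy), M.vec_conj' hc hy, M.vec_inv hy]⟩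

/-- whether `a` moves the lifts of a vector -/
noncomputable def phi (a : G) (v : W8) : Bool :=
  letI := Classical.propDecidable (a * M.lift v * a⁻¹ = M.lift v)
  if a * M.lift v * a⁻¹ = M.lift v then false else true

theorem phi_spec {a x : G} (ha : Commute a z) (hx : x ∈ O2c z)
    (hf : M.img a (M.vec x) = M.vec x) : a * x * a⁻¹ = x * zb z (M.phi a (M.vec x)) := by
  classical
  set y := M.lift (M.vec x) with hy
  have hyJ : y ∈ O2c z := M.lift_mem _
  have hy' : a * y * a⁻¹ = y * zb z (M.phi a (M.vec x)) := by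
    obtain ⟨t, ht⟩ := M.eq_zb hyJ (M.conj_J ha hyJ)
      (by rw [M.vec_conj' ha hyJ, M.vec_lift, hf])
    unfold phi
    rw [← hy]
    split
    · rename_i h; rw [h, zb_false, mul_one]
    · rename_i h
      cases t
      · exact absurd (by rw [ht, zb_false, mul_one]) h
      · exact ht
  obtain ⟨t, ht⟩ := M.eq_zb hyJ hx (M.vec_lift _)
  have h1 : a * x * a⁻¹ = a * y * a⁻¹ * zb z t := by
    conv_lhs => rw [ht]
    rw [← mul_assoc a, mul_assoc (a * y), ← zb_central (ha.inv_left.eq) t]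
    simp [mul_assoc]
  rw [h1, hy', mul_assoc, zb_mul M.zz, Bool.xor_comm, ← zb_mul M.zz, ← mul_assoc, ← ht]

theorem phi_eq {a x : G} (ha : Commute a z) (hx : x ∈ O2c z)
    (hf : M.img a (M.vec x) = M.vec x) {t : Bool} (h : a * x * a⁻¹ = x * zb z t) :
    M.phi a (M.vec x) = t := zb_ne M.ne_one (mul_left_cancel ((M.phi_spec ha hx hf).symm.trans h))

theorem commute_iff_phi {a x : G} (ha : Commute a z) (hx : x ∈ O2c z)
    (hf : M.img a (M.vec x) = M.vec x) : Commute a x ↔ M.phi a (M.vec x) = false := by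
  constructor
  · intro h
    refine M.phi_eq ha hx hf ?_
    rw [h.eq, zb_false, mul_one, mul_inv_cancel_right]
  · intro h
    have e := M.phi_spec ha hx hf
    rw [h, zb_false, mul_one, mul_inv_eq_iff_eq_mul] at e
    exact e

theorem fix_of_commute {a x : G} (ha : Commute a z) (hx : x ∈ O2c z) (h : Commute a x) :
    M.img a (M.vec x) = M.vec x := by
  rw [← M.vec_conj' ha hx, h.eq, mul_inv_cancel_right]

theorem phi_add {a : G} (ha : Commute a z) {v w : W8} (hv : M.img a v = v) (hw : M.img a w = w) :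
    M.phi a (v + w) = xor (M.phi a v) (M.phi a w) := by
  have hvw : M.vec (M.lift v * M.lift w) = v + w := by
    rw [M.vec_mul (M.lift_mem v) (M.lift_mem w), M.vec_lift, M.vec_lift]
  conv_lhs => rw [← hvw]
  refine M.phi_eq ha (mul_mem (M.lift_mem v) (M.lift_mem w))
    (by rw [hvw, M.img_add, hv, hw]) ?_
  have h1 := M.phi_spec ha (M.lift_mem v) (by rw [M.vec_lift, hv])
  have h2 := M.phi_spec ha (M.lift_mem w) (by rw [M.vec_lift, hw])
  rw [M.vec_lift] at h1 h2
  calc a * (M.lift v * M.lift w) * a⁻¹ = (a * M.lift v * a⁻¹) * (a * M.lift w * a⁻¹) := by group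
    _ = M.lift v * (zb z (M.phi a v) * M.lift w) * zb z (M.phi a w) := by rw [h1, h2]; group
    _ = _ := by
      rw [← zb_central (M.ctr.comm (M.lift_mem w)), ← zb_mul M.zz]
      simp only [mul_assoc]

theorem phi_zero {a : G} (ha : Commute a z) : M.phi a 0 = false := by
  rw [← M.vec_one]
  exact (M.commute_iff_phi ha (one_mem _) (by rw [M.vec_one, M.img_zero])).1 (Commute.one_right a)

/-! ### transport -/

theorem ctr_of {x : G} (hx : x ∈ cls z) : Ctr (O2c x) x := by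
  obtain ⟨g, rfl⟩ := hx
  exact M.ctr.of_conj g (setting_conj (fun y => O2c y) (fun _ => rfl) z g)

theorem cls_sq {x : G} (hx : x ∈ cls z) : x * x = 1 := (M.ctr_of hx).zz

theorem cls_inv {x : G} (hx : x ∈ cls z) : x⁻¹ = x := (M.ctr_of hx).inv_self

theorem cls_ne_one {x : G} (hx : x ∈ cls z) : x ≠ 1 := (M.ctr_of hx).ne_one

theorem flip {a : G} (ha : a ∈ cls z) (hac : Commute a z) (hne : a ≠ z) :
    ∃ g b : G, g * z * g⁻¹ = a ∧ g * b * g⁻¹ = z ∧ b ∈ cls z ∧ Commute b z ∧ b ≠ z := by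
  obtain ⟨g, hg⟩ := ha
  have h1 : g * (g⁻¹ * z * g) * g⁻¹ = z := by group
  refine ⟨g, g⁻¹ * z * g, hg, h1, ⟨g⁻¹, by group⟩, ?_, fun e => hne ?_⟩
  · have h := conj_commute g⁻¹ (hac.symm)
    rw [← hg] at h
    simpa [mul_assoc] using h
  · rw [← hg]
    exact (congrArg (fun w => g * w * g⁻¹) e).symm.trans h1

theorem card_Qa {g b a : G} (hg : g * z * g⁻¹ = a) (hb : g * b * g⁻¹ = z) :
    Nat.card ↥(Qa z a) = Nat.card ↥(Ja z b) := by
  refine Nat.card_congr ((MulAut.conj g).toEquiv.subtypeEquiv fun y => ?_).symm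
  show y ∈ Ja z b ↔ g * y * g⁻¹ ∈ Qa z a
  rw [mem_Qa, mem_Ja, ← hg, mem_O2c_conj]
  refine and_congr_right' ⟨fun h => ?_, fun h => ?_⟩
  · rw [← hb]; exact conj_commute g h
  · rw [← hb] at h
    have h' := conj_commute g⁻¹ h
    simpa [mul_assoc] using h'

theorem commutator_Xa {a q y : G} (ha : a ∈ cls z) (hq : q ∈ Qa z a) (hy : y ∈ Ja z a) :
    q * y * q⁻¹ * y⁻¹ ∈ Xa z a := by
  obtain ⟨hq1, hq2⟩ := mem_Qa.1 hq
  obtain ⟨hy1, hy2⟩ := mem_Ja.1 hy
  exact ⟨(M.commutator_J hq2 hy1).1,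
    commutator_mem_of hq1 ((M.ctr_of ha).conj_mem hy2.eq (inv_mem hq1))⟩

omit [Finite G] in
theorem Xa_le_Qa (a : G) : Xa z a ≤ Qa z a := fun _ hx =>
  ⟨hx.2, mem_cent.2 (commute_of_O2c hx.1)⟩

omit [Finite G] in
/-- the image of `Qa` -/
noncomputable def Abar (a : G) : Subgroup (Equiv.Perm W8) :=
  ((Qa z a).subgroupOf (centralizer ({z} : Set G))).map M.π

theorem mem_Abar {a : G} {t : Equiv.Perm W8} :
    t ∈ M.Abar a ↔ ∃ q ∈ Qa z a, M.img q = t := by
  constructor
  · rintro ⟨c, hc, rfl⟩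
    exact ⟨c, hc, M.img_eq c.2⟩
  · rintro ⟨q, hq, rfl⟩
    exact ⟨⟨q, hq.2⟩, hq, (M.img_eq hq.2).symm⟩

theorem Abar_le (a : G) : M.Abar a ≤ M.π.range := map_le_range _ _

theorem Abar_pgroup {a : G} (ha : a ∈ cls z) : IsPGroup 2 ↥(M.Abar a) := by
  refine IsPGroup.map ?_ _
  exact (((M.ctr_of ha).pgroup).to_le inf_le_left).of_equiv
    (subgroupOfEquivOfLe (inf_le_right : Qa z a ≤ _)).symm

theorem Abar_comm {a : G} (hac : Commute a z) {t : Equiv.Perm W8} (ht : t ∈ M.Abar a) :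
    Commute t (M.img a) := by
  obtain ⟨q, hq, rfl⟩ := M.mem_Abar.1 ht
  obtain ⟨h1, h2⟩ := mem_Qa.1 hq
  show M.img q * M.img a = M.img a * M.img q
  rw [← M.img_mul h2 hac, ← M.img_mul hac h2, (commute_of_O2c h1).eq]

theorem card_Qa_eq (a : G) :
    Nat.card ↥(Qa z a) = Nat.card ↥(M.Abar a) * Nat.card ↥(Xa z a) := by
  let f : ↥(Qa z a) →* Equiv.Perm W8 := M.π.comp (inclusion inf_le_right)
  have hr : f.range = M.Abar a := by
    ext t
    rw [M.mem_Abar]
    constructor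
    · rintro ⟨⟨q, hq⟩, rfl⟩
      exact ⟨q, hq, M.img_eq hq.2⟩
    · rintro ⟨q, hq, rfl⟩
      exact ⟨⟨q, hq⟩, (M.img_eq hq.2).symm⟩
  have hk : f.ker = (Xa z a).subgroupOf (Qa z a) := by
    ext q
    rw [MonoidHom.mem_ker, mem_subgroupOf, MonoidHom.comp_apply, M.ker]
    exact ⟨fun h => ⟨h, q.2.1⟩, fun h => h.1⟩
  have h := Subgroup.card_eq_card_quotient_mul_card_subgroup f.ker
  rw [Nat.card_congr (QuotientGroup.quotientKerEquivRange f).toEquiv, hr] at h
  rw [h]
  congr 1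
  rw [hk]
  exact Nat.card_congr (subgroupOfEquivOfLe (M.Xa_le_Qa a)).toEquiv

theorem ncard_le_card {S : Subgroup G} {F : Set W8}
    (h : ∀ v ∈ F, ∀ t, M.lift v * zb z t ∈ S) : 2 * F.ncard ≤ Nat.card ↥S := by
  classical
  have hi : Function.Injective (fun p : ↥F × Bool => (⟨_, h p.1 p.1.2 p.2⟩ : ↥S)) := by
    rintro ⟨v, t⟩ ⟨w, s⟩ e
    have e' := congrArg Subtype.val e
    have hvw : (v : W8) = w := by
      have := congrArg M.vec e'
      simpa only [M.vec_mul (M.lift_mem _) (M.zb_mem _), M.vec_lift, M.vec_zb, add_zero] using this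
    obtain rfl := Subtype.ext hvw
    exact Prod.ext rfl (zb_ne M.ne_one (mul_left_cancel e'))
  have := Nat.card_le_card_of_injective _ hi
  rw [Nat.card_prod, Nat.card_coe_set_eq, Nat.card_eq_fintype_card (α := Bool), Fintype.card_bool] at this
  omega

theorem card_le_ncard {S : Subgroup G} (hS : S ≤ O2c z) (hz : z ∉ S) :
    Nat.card ↥S = (M.vec '' (S : Set G)).ncard := by
  rw [Set.ncard_image_of_injOn, ← Nat.card_coe_set_eq]
  · rfl
  intro x hx y hy e
  obtain ⟨t, rfl⟩ := M.eq_zb (hS hx) (hS hy) e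
  cases t
  · rw [zb_false, mul_one]
  · refine absurd ?_ hz
    have := S.mul_mem (S.inv_mem hx) hy
    rwa [inv_mul_cancel_left] at this

end Pre

end Cfsg.Agent.ThreeTransp.U62Cent
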