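import Mathlib

/-!
# The eight-dimensional space over the field with two elements as bit vectors

Four planes with the norm forms; `sig` is the scalar of order three on each plane. The form `qe e`
has the last plane anisotropic (`e = true`) or hyperbolic (`e = false`).
-/

set_option autoImplicit false
set_option maxRecDepth 100000

namespace Cfsg.Agent.ThreeTransp.U62Cent

/-- bit vectors of length eight -/
def W8 : Type := Fin 256

namespace W8

instance : DecidableEq W8 := inferInstanceAs (DecidableEq (Fin 256))
instance : Fintype W8 := inferInstanceAs (Fintype (Fin 256))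

/-- the code of a vector -/
def code (v : W8) : ℕ := (show Fin 256 from v).val

theorem code_lt (v : W8) : v.code < 256 := (show Fin 256 from v).isLt

theorem code_inj {v w : W8} (h : v.code = w.code) : v = w := Fin.ext h

/-- the vector with a code -/
def mk (n : ℕ) : W8 := (⟨n % 256, Nat.mod_lt _ (by decide)⟩ : Fin 256)

theorem code_mk (n : ℕ) : (mk n).code = n % 256 := rfl

theorem mk_code (v : W8) : mk v.code = v := code_inj (Nat.mod_eq_of_lt v.code_lt)

instance : Zero W8 := ⟨mk 0⟩
instance : Add W8 := ⟨fun v w => mk (v.code ^^^ w.code)⟩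
instance : Neg W8 := ⟨fun v => v⟩

theorem code_add (v w : W8) : (v + w).code = v.code ^^^ w.code :=
  (code_mk _).trans (Nat.mod_eq_of_lt (Nat.xor_lt_two_pow (n := 8) v.code_lt w.code_lt))

theorem code_zero : (0 : W8).code = 0 := rfl

theorem add_self (v : W8) : v + v = 0 := code_inj (by rw [code_add, Nat.xor_self, code_zero])

instance : AddCommGroup W8 where
  add_assoc a b c := code_inj (by simp only [code_add, Nat.xor_assoc])
  zero_add a := code_inj (by rw [code_add, code_zero, Nat.zero_xor])
  add_zero a := code_inj (by rw [code_add, code_zero, Nat.xor_zero])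
  add_comm a b := code_inj (by rw [code_add, code_add, Nat.xor_comm])
  neg_add_cancel a := add_self a
  nsmul := nsmulRec
  zsmul := zsmulRec

theorem neg_eq (v : W8) : -v = v := rfl

theorem eq_of_add {v w : W8} (h : v + w = 0) : v = w := by
  rw [← add_zero v, ← add_self w, ← add_assoc, h, zero_add]

theorem add_eq_zero_iff {v w : W8} : v + w = 0 ↔ v = w :=
  ⟨eq_of_add, fun h => by rw [h, add_self]⟩

/-- a bit -/
def bit (v : W8) (i : ℕ) : Bool := v.code.testBit i

theorem bit_add (v w : W8) (i : ℕ) : (v + w).bit i = xor (v.bit i) (w.bit i) := by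
  rw [bit, code_add, Nat.testBit_xor]; rfl

/-- the basis -/
def e (i : ℕ) : W8 := mk (2 ^ i)

/-- the linear map with the given images of the basis -/
def appFrom : List W8 → ℕ → W8 → W8
  | [], _, _ => 0
  | m :: M, i, v => (if v.bit i then m else 0) + appFrom M (i + 1) v

theorem appFrom_add (M : List W8) : ∀ (i : ℕ) (v w : W8),
    appFrom M i (v + w) = appFrom M i v + appFrom M i w := by
  induction M with
  | nil => intro i v w; exact (add_zero 0).symm
  | cons m M ih =>
    intro i v w
    simp only [appFrom, ih (i + 1), bit_add]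
    rw [add_add_add_comm]
    cases v.bit i <;> cases w.bit i <;> simp [add_self]

/-- the linear map with the given images of the basis -/
def app (M : List W8) (v : W8) : W8 := appFrom M 0 v

theorem app_add (M : List W8) (v w : W8) : app M (v + w) = app M v + app M w := appFrom_add M 0 v w

/-- the basis as a list -/
def basis : List W8 := (List.range 8).map e

theorem app_basis : ∀ v : W8, app basis v = v := by decide +kernel

theorem additive_zero {f : W8 → W8} (hf : ∀ v w, f (v + w) = f v + f w) : f 0 = 0 := by
  have h := hf 0 0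
  rw [add_zero] at h
  exact left_eq_add.1 h

theorem appFrom_map {f : W8 → W8} (hf : ∀ v w, f (v + w) = f v + f w) :
    ∀ (M : List W8) (i : ℕ) (v : W8), appFrom (M.map f) i v = f (appFrom M i v)
  | [], _, _ => (additive_zero hf).symm
  | m :: M, i, v => by
    simp only [List.map_cons, appFrom, appFrom_map hf M, hf]
    cases v.bit i <;> simp [additive_zero hf]

/-- An additive map is determined by the images of the basis. -/
theorem eq_app {f : W8 → W8} (hf : ∀ v w, f (v + w) = f v + f w) (v : W8) :
    f v = app (basis.map f) v := by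
  rw [app, appFrom_map hf, ← app, app_basis]

/-- one plane rotated -/
def rot (p : ℕ) : ℕ := (p >>> 1) ||| (((p &&& 1) ^^^ (p >>> 1)) <<< 1)

/-- the plane component -/
def pl (v : W8) (i : ℕ) : ℕ := (v.code >>> (2 * i)) &&& 3

/-- the scalar of order three -/
def sig (v : W8) : W8 :=
  mk (rot (v.pl 0) ||| (rot (v.pl 1) <<< 2) ||| (rot (v.pl 2) <<< 4) ||| (rot (v.pl 3) <<< 6))

theorem sig_eq : ∀ v, sig v = app (basis.map sig) v := by decide +kernel

theorem sig_add (v w : W8) : sig (v + w) = sig v + sig w := by
  rw [sig_eq (v + w), app_add, ← sig_eq, ← sig_eq]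

theorem sig_sig : ∀ v, sig (sig v) = sig v + v := by decide +kernel

theorem sig_three : ∀ v, sig (sig (sig v)) = v := by decide +kernel

/-- the form: `e` says whether the last plane is anisotropic -/
def qe (e : Bool) (v : W8) : Bool :=
  xor (xor (decide (v.pl 0 ≠ 0)) (decide (v.pl 1 ≠ 0)))
    (xor (decide (v.pl 2 ≠ 0)) (if e then decide (v.pl 3 ≠ 0) else v.bit 6 && v.bit 7))

/-- the polar form on one plane -/
def pb (v w : W8) (i : ℕ) : Bool := xor (v.bit (2 * i) && w.bit (2 * i + 1)) (v.bit (2 * i + 1) && w.bit (2 * i))

/-- the polar form (both types have the same one) -/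
def bb (v w : W8) : Bool := xor (xor (pb v w 0) (pb v w 1)) (xor (pb v w 2) (pb v w 3))

/-- the form in bits -/
def qbits (e : Bool) (v : W8) : Bool :=
  xor (xor (v.bit 0 || v.bit 1) (v.bit 2 || v.bit 3))
    (xor (v.bit 4 || v.bit 5) (if e then v.bit 6 || v.bit 7 else v.bit 6 && v.bit 7))

theorem qe_bits : ∀ (e : Bool) (v : W8), qe e v = qbits e v := by decide +kernel

theorem or_xor : ∀ a b c d : Bool,
    (xor a c || xor b d) = xor (xor (a || b) (c || d)) (xor (a && d) (b && c)) := by decide

theorem and_xor : ∀ a b c d : Bool,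
    (xor a c && xor b d) = xor (xor (a && b) (c && d)) (xor (a && d) (b && c)) := by decide

theorem xor_six : ∀ a a' p b b' q : Bool, xor (xor (xor a a') p) (xor (xor b b') q) =
    xor (xor (xor a b) (xor a' b')) (xor p q) := by decide

theorem xor_twelve (a a' p b b' q c c' r d d' s : Bool) :
    xor (xor (xor (xor a a') p) (xor (xor b b') q)) (xor (xor (xor c c') r) (xor (xor d d') s)) =
      xor (xor (xor (xor a b) (xor c d)) (xor (xor a' b') (xor c' d'))) (xor (xor p q) (xor r s)) := by
  rw [xor_six a a' p b b' q, xor_six c c' r d d' s, xor_six]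

theorem qe_add (e : Bool) (v w : W8) : qe e (v + w) = xor (xor (qe e v) (qe e w)) (bb v w) := by
  simp only [qe_bits, qbits, bit_add, bb, pb, Nat.reduceMul, Nat.reduceAdd]
  cases e <;> simp only [if_true, if_false, or_xor, and_xor, Bool.false_eq_true] <;>
    exact xor_twelve _ _ _ _ _ _ _ _ _ _ _ _

theorem pb_add_left (u v w : W8) (i : ℕ) : pb (u + v) w i = xor (pb u w i) (pb v w i) := by
  simp only [pb, bit_add, Bool.and_xor_distrib_right]
  simp [Bool.xor_assoc, Bool.xor_comm, Bool.xor_left_comm]

theorem bb_add_left (u v w : W8) : bb (u + v) w = xor (bb u w) (bb v w) := by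
  simp only [bb, pb_add_left]
  simp [Bool.xor_assoc, Bool.xor_comm, Bool.xor_left_comm]

theorem bb_comm (v w : W8) : bb v w = bb w v := by
  simp [bb, pb, Bool.and_comm, Bool.xor_comm]

theorem bb_add_right (u v w : W8) : bb u (v + w) = xor (bb u v) (bb u w) := by
  rw [bb_comm, bb_add_left, bb_comm v, bb_comm w]

theorem bb_self (v : W8) : bb v v = false := by
  simp [bb, pb, Bool.and_comm]

theorem bb_zero_left (v : W8) : bb 0 v = false := by
  have h := bb_add_left 0 0 v
  rw [add_zero] at h
  simpa using h

theorem bb_zero_right (v : W8) : bb v 0 = false := by rw [bb_comm, bb_zero_left]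

theorem qe_zero : ∀ e : Bool, qe e 0 = false := by decide +kernel

/-- The polar form has no radical. -/
theorem bb_nondeg : ∀ v : W8, v = 0 ∨ ∃ w ∈ basis, bb v w = true := by decide +kernel

theorem qe_sig : ∀ v : W8, qe true (sig v) = qe true v := by decide +kernel

theorem bb_sig (v w : W8) : bb (sig v) (sig w) = bb v w := by
  have h := qe_add true (sig v) (sig w)
  rw [← sig_add, qe_sig, qe_sig, qe_sig, qe_add] at h
  exact (Bool.xor_right_inj.1 h).symm

theorem basis_add (v : W8) : ∀ {f g : W8 → W8}, (∀ v w, f (v + w) = f v + f w) →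
    (∀ v w, g (v + w) = g v + g w) → (∀ u ∈ basis, f u = g u) → f v = g v := by
  intro f g hf hg h
  rw [eq_app hf, eq_app hg, List.map_congr_left h]

end W8

end Cfsg.Agent.ThreeTransp.U62Cent
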