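import Cfsg.Agent.Lib.ThreeTransp.U62Cent.Stab
import Cfsg.Agent.Lib.Hall.Solvable
import Cfsg.Agent.S0205

/-!
# The commuting graph of the class is connected
-/

set_option autoImplicit false
set_option linter.unusedSectionVars false

namespace Cfsg.Agent.ThreeTransp.U62Cent

open W8 Subgroup Cfsg.Agent.LargeExtra

universe u

variable {G : Type u} [Group G]

/-- A semiregular automorphism of order 77 of such a graph joins every point to its images. -/
def SrgGoal : Prop :=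
  ∀ {α : Type u} [Fintype α] [DecidableEq α] (R : α → α → Prop),
    (∀ a b, R a b → R b a) → (∀ a, ¬ R a a) → Fintype.card α = 693 → (∀ a, {b | R a b}.ncard = 180) →
    (∀ a b, R a b → {c | R a c ∧ R b c}.ncard = 51) →
    (∀ a b, a ≠ b → ¬ R a b → {c | R a c ∧ R b c}.ncard = 45) →
    ∀ (σ : Equiv.Perm α), σ ^ 77 = 1 → (∀ a b, R a b → R (σ a) (σ b)) →
      (∀ i, 0 < i → i < 77 → ∀ a, (σ ^ i) a ≠ a) → ∀ a i, 0 < i → i < 77 → R a ((σ ^ i) a)

/-- the element carrying one involution to another along their product -/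
theorem odd_mid {x y : G} (hx : x * x = 1) (hy : y * y = 1) {m : ℕ} (hm : orderOf (x * y) = 2 * m + 1) :
    x * (x * y) ^ (m + 1) * x * (x * (x * y) ^ (m + 1))⁻¹ = y := by
  have hxi : x⁻¹ = x := inv_eq_of_mul_eq_one_right hx
  have hyi : y⁻¹ = y := inv_eq_of_mul_eq_one_right hy
  have h1 : x * (x * y) ^ (m + 1) * x = ((x * y) ^ (m + 1))⁻¹ := by
    conv_lhs => arg 2; rw [← hxi]
    rw [← conj_pow, ← inv_pow]
    congr 1
    rw [mul_inv_rev, hxi, hyi, ← mul_assoc, hx, one_mul]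
  have h2 : (x * y) ^ (m + 1) * (x * y) ^ (m + 1) = x * y := by
    rw [← pow_add, show m + 1 + (m + 1) = (2 * m + 1) + 1 by omega, pow_add, ← hm, pow_orderOf_eq_one,
      one_mul, pow_one]
  calc x * (x * y) ^ (m + 1) * x * (x * (x * y) ^ (m + 1))⁻¹
      = ((x * y) ^ (m + 1))⁻¹ * ((x * y) ^ (m + 1))⁻¹ * x := by rw [h1, mul_inv_rev, hxi, mul_assoc]
    _ = y := by rw [← mul_inv_rev, h2, mul_inv_rev, hxi, hyi, mul_assoc, hx, mul_one]

namespace Coord

variable [Finite G] {z : G} (M : Coord z)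

include M

/-- An element centralising all the neighbours of `z`, with odd order, is trivial. -/
theorem kernel_trivial {a0 r : G} (h0 : Mem z a0) (hodd : Odd (orderOf r)) (hz : Commute r z)
    (hr : ∀ b, Mem z b → Commute r b) : r = 1 := by
  classical
  haveI : IsSimpleGroup ↥M.π.range := M.simple
  let S : Set (Equiv.Perm W8) := {t | ∃ b, Mem z b ∧ M.img b = t}
  let Z : Subgroup ↥M.π.range := (centralizer S).subgroupOf M.π.range
  haveI hn : Z.Normal := by
    refine ⟨fun w hw k => ?_⟩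
    obtain ⟨c, hc, hck⟩ := M.exists_img k.2
    rw [mem_subgroupOf, mem_centralizer_iff] at hw ⊢
    rintro _ ⟨b, hb, rfl⟩
    have h := hw _ ⟨_, hb.conj (c := c⁻¹) hc.inv_left, rfl⟩
    rw [M.img_conj hc.inv_left hb.comm, M.img_inv hc, hck, inv_inv] at h
    push_cast
    calc M.img b * ((k : Equiv.Perm W8) * w * (k : Equiv.Perm W8)⁻¹)
        = (k : Equiv.Perm W8) * ((k : Equiv.Perm W8)⁻¹ * M.img b * k * w) * (k : Equiv.Perm W8)⁻¹ := by group
      _ = _ := by rw [h]; group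
  rcases hn.eq_bot_or_eq_top with e | e
  · have h1 : M.img r = 1 := by
      have hm : (⟨M.img r, M.img_mem r⟩ : ↥M.π.range) ∈ Z := by
        rw [mem_subgroupOf, mem_centralizer_iff]
        rintro _ ⟨b, hb, rfl⟩
        show M.img b * M.img r = M.img r * M.img b
        rw [← M.img_mul hb.comm hz, ← M.img_mul hz hb.comm, (hr b hb).eq]
      rw [e, mem_bot] at hm
      exact congrArg Subtype.val hm
    have hJ := (M.img_eq_one hz).1 h1
    obtain ⟨k, hk⟩ := M.ctr.pgroup ⟨r, hJ⟩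
    have hk' : r ^ 2 ^ k = 1 := by simpa using congrArg Subtype.val hk
    have hcop : Nat.Coprime (orderOf r) (2 ^ k) := (Nat.coprime_two_right.2 hodd).pow_right k
    exact orderOf_eq_one_iff.1 (hcop.eq_one_of_dvd (orderOf_dvd_of_pow_eq_one hk'))
  · exfalso
    have hall : ∀ b, Mem z b → Commute b a0 := fun b hb => by
      rw [M.commute_iff hb h0]
      have hm : (⟨M.img b, M.img_mem b⟩ : ↥M.π.range) ∈ Z := by rw [e]; exact mem_top _
      rw [mem_subgroupOf, mem_centralizer_iff] at hm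
      exact (hm _ ⟨a0, h0, rfl⟩).symm
    have h1 := M.lambda_count h0
    have h2 := M.nbr_count h0
    have : {b | Mem z b ∧ Commute b a0} = {b | Adj z z b} := by
      ext b
      simp only [Set.mem_setOf_eq, adj_iff_mem]
      exact ⟨fun h => h.1, fun h => ⟨h, hall b h⟩⟩
    rw [this, h2] at h1
    omega

/-- Semiregular automorphisms of order 77 of the component do not exist. -/
theorem no_order_77 (hsrg : SrgGoal.{u}) {a0 g : G} (h0 : Mem z a0) (hg : g ∈ setStab (comp0 z))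
    (ho : orderOf g = 77) : False := by
  classical
  haveI : Fintype G := Fintype.ofFinite G
  have hpow : ∀ n : ℕ, g ^ n ∈ setStab (comp0 z) := fun n => pow_mem hg n
  have hfree : ∀ i, 0 < i → i < 77 → ∀ x ∈ comp0 z, g ^ i * x * (g ^ i)⁻¹ ≠ x := by
    intro i hi hi' x hx e
    obtain ⟨k, -, rfl⟩ := M.move_mem h0 hx
    have hc : Commute (k⁻¹ * g ^ i * k) z := by
      refine mul_inv_eq_iff_eq_mul.1 ?_
      calc k⁻¹ * g ^ i * k * z * (k⁻¹ * g ^ i * k)⁻¹ = k⁻¹ * (g ^ i * (k * z * k⁻¹) * (g ^ i)⁻¹) * k := by group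
        _ = z := by rw [e]; group
    have h1 : (k⁻¹ * g ^ i * k) ^ 77 = 1 := by
      have e' : k⁻¹ * g ^ i * k = MulAut.conj k⁻¹ (g ^ i) := by simp
      rw [e', ← map_pow, ← pow_mul, mul_comm, pow_mul, ← ho, pow_orderOf_eq_one, one_pow, map_one]
    have h2 : orderOf (k⁻¹ * g ^ i * k) ∣ 25920 * 512 := by
      rw [← M.card_cent]
      have := orderOf_dvd_natCard (⟨_, mem_cent.2 hc⟩ : ↥(centralizer ({z} : Set G)))
      rwa [← Subgroup.orderOf_coe] at this
    have h3 : k⁻¹ * g ^ i * k = 1 :=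
      orderOf_eq_one_iff.1 (Nat.eq_one_of_dvd_coprimes (by norm_num : Nat.Coprime 77 (25920 * 512))
        (orderOf_dvd_of_pow_eq_one h1) h2)
    have h4 : g ^ i = 1 := by
      calc g ^ i = k * (k⁻¹ * g ^ i * k) * k⁻¹ := by group
        _ = 1 := by rw [h3]; group
    exact absurd (Nat.le_of_dvd hi (ho ▸ orderOf_dvd_of_pow_eq_one h4)) (by omega)
  let σ : Equiv.Perm ↥(comp0 z) :=
    { toFun := fun x => ⟨g * x * g⁻¹, (hg x).2 x.2⟩
      invFun := fun x => ⟨g⁻¹ * x * g, (hg _).1 (by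
        rw [show g * (g⁻¹ * (x : G) * g) * g⁻¹ = x by group]; exact x.2)⟩
      left_inv := fun x => Subtype.ext (by simp [mul_assoc])
      right_inv := fun x => Subtype.ext (by simp [mul_assoc]) }
  have hσ : ∀ (n : ℕ) (x : ↥(comp0 z)), ((σ ^ n) x : G) = g ^ n * x * (g ^ n)⁻¹ := by
    intro n
    induction n with
    | zero => intro x; simp
    | succ n ih =>
      intro x
      rw [pow_succ', Equiv.Perm.mul_apply]
      show g * ((σ ^ n) x : G) * g⁻¹ = _
      rw [ih, pow_succ']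
      group
  let R : ↥(comp0 z) → ↥(comp0 z) → Prop := fun a b => (a : G) ≠ b ∧ Commute (a : G) b
  have hnb : ∀ a : ↥(comp0 z), (Subtype.val '' {b | R a b}) = {b | Adj (a : G) (a : G) b} := by
    intro a
    have hac := comp0_sub a.2
    ext b
    constructor
    · rintro ⟨⟨b, hb⟩, ⟨h1, h2⟩, rfl⟩
      exact ⟨self_mem_cls _, (cls_eq hac).symm ▸ comp0_sub hb, h1, h2⟩
    · rintro ⟨-, h1, h2, h3⟩
      have hb : b ∈ cls z := cls_eq hac ▸ h1
      exact ⟨⟨b, M.comp0_closed a.2 ⟨hac, hb, h2, h3⟩⟩, ⟨h2, h3⟩, rfl⟩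
  have himg : ∀ a b : ↥(comp0 z), (Subtype.val '' {c | R a c ∧ R b c}) =
      {c : G | Mem (a : G) c ∧ Commute c b ∧ c ≠ b} := by
    intro a b
    have hac := comp0_sub a.2
    ext c
    constructor
    · rintro ⟨⟨c, hc⟩, ⟨⟨h1, h2⟩, h3, h4⟩, rfl⟩
      exact ⟨⟨(cls_eq hac).symm ▸ comp0_sub hc, h2.symm, h1.symm⟩, h4.symm, h3.symm⟩
    · rintro ⟨h1, h2, h3⟩
      obtain ⟨hc, hcm, hne⟩ := (M.mem_move hac).1 h1
      exact ⟨⟨c, M.comp0_closed a.2 ⟨hac, hc, hne.symm, hcm.symm⟩⟩, ⟨⟨hne.symm, hcm.symm⟩, h3.symm, h2.symm⟩, rfl⟩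
  have hk : ∀ a, {b | R a b}.ncard = 180 := by
    intro a
    obtain ⟨b, hb⟩ := exists_mem_conj h0 (comp0_sub a.2)
    rw [← Set.ncard_image_of_injective _ Subtype.val_injective, hnb, (M.move (comp0_sub a.2)).nbr_count hb]
  have hl : ∀ a b, R a b → {c | R a c ∧ R b c}.ncard = 51 := by
    rintro a b ⟨h1, h2⟩
    have hb : Mem (a : G) b :=
      (M.mem_move (comp0_sub a.2)).2 ⟨comp0_sub b.2, h2.symm, h1.symm⟩
    rw [← Set.ncard_image_of_injective _ Subtype.val_injective, himg]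
    have e : {c : G | Mem (a : G) c ∧ Commute c b ∧ c ≠ b} = {c | Mem (a : G) c ∧ Commute c b} \ {(b : G)} := by
      ext c; simp [and_assoc]
    have h52 := (M.move (comp0_sub a.2)).lambda_count hb
    rw [e, Set.ncard_sdiff_singleton_of_mem
      (show (b : G) ∈ {c | Mem (a : G) c ∧ Commute c b} from ⟨hb, Commute.refl _⟩)]
    omega
  have hm : ∀ a b, a ≠ b → ¬ R a b → {c | R a c ∧ R b c}.ncard = 45 := by
    intro a b hne hnR
    have hab : ¬ Commute (b : G) a := fun h => hnR ⟨fun e => hne (Subtype.ext e), h.symm⟩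
    have hac := comp0_sub a.2
    have hb' : (b : G) ∈ comp0 (a : G) := by rw [M.comp0_eq h0 a.2]; exact b.2
    rcases hb' with e | e | ⟨c, hc, h1, h2, h3⟩
    · exact absurd (Subtype.ext e.symm) hne
    · exact absurd e.comm hab
    · rw [← (M.move hac).mu_count hc h1 h2 h3, ← Set.ncard_image_of_injective _ Subtype.val_injective, himg]
      congr 1
      ext d
      exact and_congr_right fun hd => ⟨fun h => h.1.symm, fun h => ⟨h.symm, fun e => h2 (e ▸ hd.comm)⟩⟩
  haveI : Fintype ↥(comp0 z) := Fintype.ofFinite _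
  have hcard : Fintype.card ↥(comp0 z) = 693 := by
    rw [← Nat.card_eq_fintype_card, Nat.card_coe_set_eq, M.comp0_count h0]
  have hadj := hsrg R (fun a b h => ⟨h.1.symm, h.2.symm⟩) (fun a h => h.1 rfl) hcard hk hl hm σ
    (Equiv.ext fun x => Subtype.ext (by rw [hσ, ← ho, pow_orderOf_eq_one]; simp))
    (fun a b h => ⟨fun e => h.1 (by simpa [σ] using e), conj_commute g h.2⟩)
    (fun i hi hi' x e => hfree i hi hi' x x.2 (by rw [← hσ, e]))
  let T : Set G := Set.range fun i : Fin 77 => g ^ (i : ℕ) * z * (g ^ (i : ℕ))⁻¹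
  have hT1 : T ⊆ comp0 z := by
    rintro _ ⟨i, rfl⟩; exact (hpow _ z).2 (self_mem_comp0 z)
  have hcomm : ∀ i : ℕ, i < 77 → Commute z (g ^ i * z * (g ^ i)⁻¹) := by
    intro i hi
    rcases Nat.eq_zero_or_pos i with rfl | hpos
    · simp
    · have := (hadj ⟨z, self_mem_comp0 z⟩ i hpos hi).2
      rwa [hσ] at this
  have hTc : ∀ x ∈ T, ∀ y ∈ T, Commute x y := by
    have key : ∀ i j : Fin 77, i ≤ j →
        Commute (g ^ (i : ℕ) * z * (g ^ (i : ℕ))⁻¹) (g ^ (j : ℕ) * z * (g ^ (j : ℕ))⁻¹) := by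
      intro i j hij
      have hij' : (i : ℕ) ≤ (j : ℕ) := hij
      have h := conj_commute (g ^ (i : ℕ)) (hcomm ((j : ℕ) - i) (lt_of_le_of_lt (Nat.sub_le _ _) j.2))
      have e : g ^ (j : ℕ) = g ^ (i : ℕ) * g ^ ((j : ℕ) - i) := by rw [← pow_add, Nat.add_sub_cancel' hij']
      rw [e, mul_inv_rev]
      simpa [mul_assoc] using h
    rintro _ ⟨i, rfl⟩ _ ⟨j, rfl⟩
    rcases le_total i j with h | h
    · exact key i j h
    · exact (key j i h).symm
  have hTcard : T.ncard = 77 := by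
    rw [Set.ncard_range_of_injective, Nat.card_eq_fintype_card, Fintype.card_fin]
    intro i j e
    dsimp at e
    by_contra hne
    wlog hij : i < j generalizing i j
    · exact this e.symm (Ne.symm hne) (lt_of_le_of_ne (not_lt.1 hij) (Ne.symm hne))
    have hij' : (i : ℕ) < (j : ℕ) := hij
    refine hfree ((j : ℕ) - i) (by omega) (lt_of_le_of_lt (Nat.sub_le _ _) j.2) z (self_mem_comp0 z) ?_
    have he : g ^ (j : ℕ) = g ^ (i : ℕ) * g ^ ((j : ℕ) - i) := by rw [← pow_add, Nat.add_sub_cancel' hij'.le]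
    rw [he] at e
    have e2 : g ^ (i : ℕ) * (g ^ ((j : ℕ) - i) * z * (g ^ ((j : ℕ) - i))⁻¹) * (g ^ (i : ℕ))⁻¹ =
        g ^ (i : ℕ) * z * (g ^ (i : ℕ))⁻¹ := by rw [e]; group
    exact mul_left_cancel (mul_right_cancel e2)
  have := M.clique_le h0 (S := T) ⟨0, by simp⟩ (fun x hx => comp0_sub (hT1 hx)) hTc
  omega

/-- The component is the whole class. -/
theorem connected (hsrg : SrgGoal.{u}) {a0 : G} (h0 : Mem z a0) : comp0 z = cls z := by
  classical
  refine Set.Subset.antisymm (fun x => comp0_sub) fun e he => ?_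
  by_contra hne
  have hd1 := self_mem_comp0 z
  obtain ⟨b0, hb0⟩ := exists_mem_conj h0 he
  set E := M.move he
  have hEsub : ∀ {x}, x ∈ comp0 e → x ∈ cls z := fun hx => cls_eq he ▸ comp0_sub hx
  have hdis : ∀ x, x ∈ comp0 z → x ∈ comp0 e → False := by
    intro x hx hx'
    apply hne
    rw [← M.comp0_eq h0 hx, E.comp0_eq hb0 hx']
    exact self_mem_comp0 e
  have hnc : ∀ x ∈ comp0 z, ∀ y ∈ comp0 e, ¬ Commute x y := fun x hx y hy h =>
    hdis y (if hxy : x = y then hxy ▸ hx else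
      M.comp0_closed hx ⟨comp0_sub hx, hEsub hy, hxy, h⟩) hy
  let Sw : Set G := {c | c ∈ cls z ∧ c * z * c⁻¹ ∈ comp0 e}
  let U : Set G := comp0 z ∪ comp0 e
  let N : Subgroup G := setStab U
  have himage : ∀ {g x : G}, g * z * g⁻¹ ∈ comp0 e → (g * x * g⁻¹ ∈ comp0 e ↔ x ∈ comp0 z) := by
    intro g x hg
    have h := comp0_conj g z x
    rwa [E.comp0_eq hb0 hg] at h
  have hswap : ∀ c ∈ Sw, (∀ x, c * x * c⁻¹ ∈ comp0 e ↔ x ∈ comp0 z) ∧
      ∀ x, c * x * c⁻¹ ∈ comp0 z ↔ x ∈ comp0 e := by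
    rintro c ⟨hc, hce⟩
    refine ⟨fun x => himage hce, fun x => ?_⟩
    rw [← himage hce, show c * (c * x * c⁻¹) * c⁻¹ = (c * c) * x * (c * c)⁻¹ by group, M.cls_sq hc]
    simp
  have hSwN : ∀ c ∈ Sw, c ∈ N := by
    intro c hc x
    simp only [U, Set.mem_union, (hswap c hc).1, (hswap c hc).2]
    exact or_comm
  have hSwd : ∀ c ∈ Sw, c ∉ comp0 z := fun c hc hcz =>
    hdis _ ((M.member_stab h0 hcz z).2 hd1) hc.2
  have hNSw : ∀ k ∈ N, ∀ c ∈ Sw, k * c * k⁻¹ ∈ Sw := by
    intro k hk c hc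
    refine ⟨conj_mem_cls k hc.1, ?_⟩
    obtain ⟨x, hx⟩ : ∃ x, k * x * k⁻¹ = z := ⟨k⁻¹ * z * k, by group⟩
    have e2 : k * c * k⁻¹ * z * (k * c * k⁻¹)⁻¹ = k * (c * x * c⁻¹) * k⁻¹ := by rw [← hx]; group
    rw [e2]
    have hmapk : ∀ w, k * w * k⁻¹ ∈ comp0 z ↔ w ∈ comp0 x := fun w => by rw [← hx]; exact comp0_conj k x w
    have hxU : x ∈ U := (hk x).1 (by rw [hx]; exact Or.inl hd1)
    rcases hxU with hxz | hxe
    · have hcx := ((hswap c hc).1 x).2 hxz
      rcases (hk _).2 (Or.inr hcx) with h | h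
      · exact absurd hcx (fun h' => hdis _ (by rw [← M.comp0_eq h0 hxz]; exact (hmapk _).1 h) h')
      · exact h
    · have hcx := ((hswap c hc).2 x).2 hxe
      rcases (hk _).2 (Or.inl hcx) with h | h
      · exact absurd hcx (fun h' => hdis _ h' (by rw [← E.comp0_eq hb0 hxe]; exact (hmapk _).1 h))
      · exact h
  -- one transposer for each point of the other component
  have hmid : ∀ y ∈ comp0 e, ∃! c, c ∈ Sw ∧ c * z * c⁻¹ = y := by
    intro y hy
    have hyc := hEsub hy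
    obtain ⟨m, hm⟩ := (M.commute_or_odd (self_mem_cls z) hyc).resolve_left (hnc z hd1 y hy)
    set c := z * (z * y) ^ (m + 1) with hc
    have hcc : c ∈ cls z := M.dihedral_mem (self_mem_cls z) hyc _
    have hce : c * z * c⁻¹ = y := odd_mid M.zz (M.cls_sq hyc) hm
    refine ⟨c, ⟨⟨hcc, by rw [hce]; exact hy⟩, hce⟩, ?_⟩
    rintro c' ⟨hc', hce'⟩
    by_contra hne'
    have hc2 := M.cls_sq hc'.1
    have hfix : ∀ w : G, Commute w z → Commute w y → Commute w c := fun w h1 h2 =>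
      h1.mul_right ((h1.mul_right h2).pow_right _)
    have hs1 : Commute (c * c') z := by
      refine mul_inv_eq_iff_eq_mul.1 ?_
      calc c * c' * z * (c * c')⁻¹ = c * (c' * z * c'⁻¹) * c⁻¹ := by group
        _ = z := by rw [hce', ← hce]; exact conj_cancel (M.cls_sq hcc) rfl
    have hs2 : Commute (c * c') y := by
      refine mul_inv_eq_iff_eq_mul.1 ?_
      calc c * c' * y * (c * c')⁻¹ = c * (c' * y * c'⁻¹) * c⁻¹ := by group
        _ = c * z * c⁻¹ := by rw [conj_cancel hc2 hce']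
        _ = y := hce
    have hs3 := hfix _ hs1 hs2
    have hcc' : Commute c' c := by
      have := (Commute.refl c).mul_left hs3
      rwa [← mul_assoc, M.cls_sq hcc, one_mul] at this
    have hmem : Mem c c' := (M.mem_move hcc).2 ⟨hc'.1, hcc', hne'⟩
    exact hnc z hd1 y hy (by
      have h := (M.cls_cent_pair hcc hmem (self_mem_cls z) hs1.symm).1
      rw [h.symm.eq, mul_inv_cancel_right] at hce
      rw [← hce])
  have hSwcard : Sw.ncard = 693 := by
    rw [← E.comp0_count hb0]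
    refine Set.ncard_congr (fun c _ => c * z * c⁻¹) (fun c hc => hc.2) (fun c c' hc hc' e' => ?_) ?_
    · obtain ⟨d, -, hu⟩ := hmid _ hc'.2
      rw [hu c ⟨hc, e'⟩, hu c' ⟨hc', rfl⟩]
    · intro y hy
      obtain ⟨c, ⟨hc, hce⟩, -⟩ := hmid y hy
      exact ⟨c, hc, hce⟩
  -- transposers are isolated
  have halone : ∀ c ∈ Sw, ∀ c' ∈ Sw, Commute c' c → c' = c := by
    intro c hc c' hc' hcm
    by_contra hne'
    have ht : ∀ x, (c * c') * x * (c * c')⁻¹ ∈ comp0 z ↔ x ∈ comp0 z := fun x => by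
      rw [show c * c' * x * (c * c')⁻¹ = c * (c' * x * c'⁻¹) * c⁻¹ by group, (hswap c hc).2, (hswap c' hc').1]
    have ht2 : c * c' * (c * c') = 1 := by
      rw [mul_assoc, ← mul_assoc c', hcm.eq, mul_assoc, M.cls_sq hc'.1, mul_one, M.cls_sq hc.1]
    haveI : Fact (Nat.Prime 2) := ⟨Nat.prime_two⟩
    haveI : Fintype ↥(comp0 z) := Fintype.ofFinite _
    let τ : ↥(comp0 z) → ↥(comp0 z) := fun x => ⟨_, (ht x).2 x.2⟩
    have hτ : Function.Involutive τ := fun x => Subtype.ext (conj_cancel ht2 rfl)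
    have hnd : ¬ 2 ∣ Fintype.card ↥(comp0 z) := by
      rw [← Nat.card_eq_fintype_card, Nat.card_coe_set_eq, M.comp0_count h0]; norm_num
    obtain ⟨⟨x, hx⟩, hfx⟩ := Equiv.Perm.exists_fixed_point_of_prime (p := 2) (n := 1) hnd
      (σ := hτ.toPerm) (by rw [pow_one, pow_two]; exact Equiv.ext fun b => hτ b)
    have hfx' : c * c' * x * (c * c')⁻¹ = x := congrArg Subtype.val hfx
    have hxc := comp0_sub hx
    have hcm' : Commute x (c * c') := (mul_inv_eq_iff_eq_mul.1 hfx').symm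
    have h := (M.cls_cent_pair hc.1 ((M.mem_move hc.1).2 ⟨hc'.1, hcm, hne'⟩) hxc hcm').1
    have hxc' : x ≠ c := fun e' => hSwd c hc (e' ▸ hx)
    exact hSwd c hc (M.comp0_closed hx ⟨hxc, hc.1, hxc', h⟩)
  obtain ⟨c, ⟨hc, -⟩, -⟩ := hmid e (self_mem_comp0 e)
  let cN : ↥N := ⟨c, hSwN c hc⟩
  have hiso : Cfsg.IsIsolatedInvolution cN := by
    refine ⟨by rw [← Subgroup.orderOf_coe]; exact (M.ctr_of hc.1).two, fun k hk => ?_⟩
    exact Subtype.ext (halone c hc _ (hNSw k k.2 c hc) (hk.map N.subtype).symm)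
  let R : Subgroup G := (Cfsg.oddCore ↥N).map N.subtype
  have hRodd : Odd (Nat.card ↥R) := by
    rw [card_map_of_injective N.subtype_injective]; exact Cfsg.Agent.Cores.oddCore_odd
  have hRN : R ≤ N := map_subtype_le _
  have hsurj : ∀ c' ∈ Sw, ∃ r : ↥R, (r : G) * c * (r : G)⁻¹ = c' := by
    intro c' hc'
    by_cases heq : c' = c
    · exact ⟨1, by simp [heq]⟩
    obtain ⟨m, hm⟩ := (M.commute_or_odd hc.1 hc'.1).resolve_left fun h => heq (halone c hc c' hc' h.symm)
    have hmid' := odd_mid (M.cls_sq hc.1) (M.cls_sq hc'.1) hm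
    let kN : ↥N := ⟨c * (c * c') ^ (m + 1),
      mul_mem cN.2 (pow_mem (mul_mem cN.2 (hSwN c' hc')) _)⟩
    have hcomm := Cfsg.Agent.ZStar.Main.commutator_mem_oddCore hiso kN
    have hcc : c * c' ∈ R := by
      refine ⟨_, hcomm, ?_⟩
      show c * (c * (c * c') ^ (m + 1)) * c⁻¹ * (c * (c * c') ^ (m + 1))⁻¹ = c * c'
      rw [M.cls_inv hc.1]
      calc c * (c * (c * c') ^ (m + 1)) * c * (c * (c * c') ^ (m + 1))⁻¹
          = c * (c * (c * c') ^ (m + 1) * c * (c * (c * c') ^ (m + 1))⁻¹) := by group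
        _ = c * c' := by rw [hmid']
    refine ⟨⟨(c * c') ^ m, pow_mem hcc m⟩, ?_⟩
    have hconj : c * ((c * c') ^ m)⁻¹ * c = (c * c') ^ m := by
      have e1 : (c * c')⁻¹ = c' * c := by rw [mul_inv_rev, M.cls_inv hc.1, M.cls_inv hc'.1]
      have e2 : c * ((c * c') ^ m)⁻¹ * c⁻¹ = (c * c') ^ m := by
        rw [← inv_pow, ← conj_pow, e1, M.cls_inv hc.1, mul_assoc, mul_assoc, M.cls_sq hc.1, mul_one]
      rwa [M.cls_inv hc.1] at e2
    show (c * c') ^ m * c * ((c * c') ^ m)⁻¹ = c'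
    have e3 : c * ((c * c') ^ m)⁻¹ = (c * c') ^ m * c := by
      calc c * ((c * c') ^ m)⁻¹ = c * ((c * c') ^ m)⁻¹ * c * c := by
            rw [mul_assoc (c * _) c c, M.cls_sq hc.1, mul_one]
        _ = _ := by rw [hconj]
    rw [mul_assoc, e3, ← mul_assoc, ← pow_add]
    have e4 : (c * c') ^ (m + m) = c' * c := by
      have h : (c * c') ^ (m + m) * (c * c') = 1 := by
        rw [← pow_succ, show m + m + 1 = 2 * m + 1 by omega, ← hm, pow_orderOf_eq_one]
      rw [eq_inv_of_mul_eq_one_left h, mul_inv_rev, M.cls_inv hc.1, M.cls_inv hc'.1]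
    rw [e4, mul_assoc, M.cls_sq hc.1, mul_one]
  have h693 : 693 ∣ Nat.card ↥R := by
    let St : Subgroup ↥R := (centralizer ({c} : Set G)).subgroupOf R
    have hidx : St.index = 693 := by
      rw [← hSwcard, ← Nat.card_coe_set_eq]
      show Nat.card (↥R ⧸ St) = _
      refine Nat.card_congr (Equiv.ofBijective (fun q => Quotient.liftOn' q
        (fun r => (⟨(r : G) * c * (r : G)⁻¹, hNSw r (hRN r.2) c hc⟩ : ↥Sw)) ?_) ⟨?_, ?_⟩)
      · intro g h e'
        rw [QuotientGroup.leftRel_apply, mem_subgroupOf, mem_cent] at e'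
        refine Subtype.ext ?_
        show (g : G) * c * (g : G)⁻¹ = (h : G) * c * (h : G)⁻¹
        have e2 : (g : G)⁻¹ * (h : G) * c * ((g : G)⁻¹ * (h : G))⁻¹ = c := by
          push_cast at e'
          rw [e'.eq, mul_inv_cancel_right]
        conv_lhs => rw [← e2]
        group
      · intro p q e'
        induction p using QuotientGroup.induction_on with | H g =>
        induction q using QuotientGroup.induction_on with | H h =>
        have e2 : (g : G) * c * (g : G)⁻¹ = (h : G) * c * (h : G)⁻¹ := congrArg Subtype.val e'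
        rw [QuotientGroup.eq, mem_subgroupOf, mem_cent]
        refine mul_inv_eq_iff_eq_mul.1 ?_
        push_cast
        calc (g : G)⁻¹ * h * c * ((g : G)⁻¹ * h)⁻¹ = (g : G)⁻¹ * ((h : G) * c * (h : G)⁻¹) * g := by group
          _ = c := by rw [← e2]; group
      · rintro ⟨x, hx⟩
        obtain ⟨r, rfl⟩ := hsurj x hx
        exact ⟨QuotientGroup.mk r, rfl⟩
    rw [← hidx]
    exact St.index_dvd_card
  have hRodd' : ∀ r ∈ R, Odd (orderOf r) := fun r hr =>
    hRodd.of_dvd_nat (Subgroup.orderOf_dvd_natCard R hr)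
  have hRstab : R ≤ setStab (comp0 z) := by
    intro r hr
    have hsq : ∀ g ∈ N, g * g ∈ setStab (comp0 z) := by
      intro g hg
      rw [M.mem_setStab_iff h0, show g * g * z * (g * g)⁻¹ = g * (g * z * g⁻¹) * g⁻¹ by group]
      rcases (hg z).2 (Or.inl hd1) with h | h
      · exact ((M.mem_setStab_iff h0).2 h _).2 h
      · rcases (hg _).2 (Or.inr h) with h' | h'
        · exact h'
        · exact (hdis _ ((himage h).1 h') h).elim
    obtain ⟨m, hm⟩ := hRodd' r hr
    have e' : r = (r * r) ^ (m + 1) := by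
      rw [← pow_two, ← pow_mul, show 2 * (m + 1) = (2 * m + 1) + 1 by omega, pow_succ, ← hm,
        pow_orderOf_eq_one, one_mul]
    rw [e']
    exact pow_mem (hsq r (hRN hr)) _
  have hRle : Nat.card ↥R ∣ 693 * (25920 * 512) := by
    rw [← M.card_stab h0]; exact card_dvd_of_le hRstab
  haveI : Group.IsSolvable ↥R := Cfsg.Agent.S0205.result hRodd
  obtain ⟨K, hK⟩ := Cfsg.Agent.Hall.exists_hall {7, 11} ↥R
  have hK77 : Nat.card ↥K = 77 := by
    have hdvd : Nat.card ↥K ∣ 693 * (25920 * 512) := K.card_subgroup_dvd_card.trans hRle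
    have hcop : Nat.Coprime (Nat.card ↥K) (9 * (25920 * 512)) := by
      refine Nat.coprime_of_dvd fun p hp hd1 hd2 => ?_
      have h2 : p = 7 ∨ p = 11 := by simpa using hK.1 p hp hd1
      rcases h2 with rfl | rfl <;> norm_num at hd2
    have h77 : Nat.card ↥K ∣ 77 := by
      refine hcop.dvd_of_dvd_mul_right ?_
      rwa [show 77 * (9 * (25920 * 512)) = 693 * (25920 * 512) by norm_num]
    have hb : 77 ∣ Nat.card ↥K := by
      have hc2 : Nat.Coprime 77 K.index := by
        rw [show 77 = 7 * 11 from rfl]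
        exact Nat.Coprime.mul_left
          ((Nat.Prime.coprime_iff_not_dvd (by norm_num)).2 (hK.2 7 (by norm_num) (by simp)))
          ((Nat.Prime.coprime_iff_not_dvd (by norm_num)).2 (hK.2 11 (by norm_num) (by simp)))
      refine hc2.dvd_of_dvd_mul_right ?_
      rw [K.card_mul_index]
      exact dvd_trans (by norm_num) h693
    exact Nat.dvd_antisymm h77 hb
  haveI : Fact (Nat.Prime 11) := ⟨by norm_num⟩
  haveI : Fact (Nat.Prime 7) := ⟨by norm_num⟩
  obtain ⟨x, hx⟩ := exists_prime_orderOf_dvd_card' (G := ↥K) 11 (by rw [hK77]; norm_num)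
  obtain ⟨y, hy⟩ := exists_prime_orderOf_dvd_card' (G := ↥K) 7 (by rw [hK77]; norm_num)
  have hxy : Commute y x := by
    let P : Subgroup ↥K := zpowers x
    have hP : Nat.card ↥P = 11 := by rw [Nat.card_zpowers, hx]
    have hPidx : P.index = 7 := by
      have := P.card_mul_index
      rw [hP, hK77] at this
      omega
    haveI : P.Normal := Subgroup.normal_of_index_eq_minFac_card (by rw [hPidx, hK77]; norm_num)
    haveI : IsCyclic ↥P := isCyclic_of_prime_card hP
    have hcard : Nat.card (MulAut ↥P) = 10 := by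
      rw [Nat.card_congr (IsCyclic.mulAutMulEquiv ↥P).toEquiv, hP, Nat.card_eq_fintype_card,
        ZMod.card_units_eq_totient]
      decide
    let φ : ↥K →* MulAut ↥P := MulAut.conjNormal
    have h1 : orderOf (φ y) = 1 :=
      Nat.eq_one_of_dvd_coprimes (by norm_num : Nat.Coprime 7 10) (hy ▸ orderOf_map_dvd φ y)
        (hcard ▸ orderOf_dvd_natCard _)
    have h2 : φ y ⟨x, mem_zpowers x⟩ = ⟨x, mem_zpowers x⟩ := by
      rw [orderOf_eq_one_iff.1 h1]; rfl
    have h3 : y * x * y⁻¹ = x := by simpa [φ] using congrArg Subtype.val h2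
    exact mul_inv_eq_iff_eq_mul.1 h3
  have hoxy : orderOf ((((y * x : ↥K) : ↥R)) : G) = 77 := by
    rw [Subgroup.orderOf_coe, Subgroup.orderOf_coe,
      hxy.orderOf_mul_eq_mul_orderOf_of_coprime (by rw [hx, hy]; norm_num), hx, hy]
  exact M.no_order_77 hsrg h0 (hRstab ((y * x : ↥K) : ↥R).2) hoxy

end Coord

end Cfsg.Agent.ThreeTransp.U62Cent
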