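import Mathlib

/-!
# Words in transvections and in reflections for the two models

Found by breadth-first search; every use is checked again.
-/

set_option autoImplicit false
set_option maxRecDepth 100000

namespace Cfsg.Agent.ThreeTransp.U62Cent.Data

/-- the words of a Sylow 2-subgroup -/
def sylN : List (List ℕ) :=
  [[],
    [5],
    [80],
    [85],
    [90],
    [95],
    [80, 5],
    [85, 5],
    [85, 80],
    [86, 6],
    [87, 7],
    [89, 7],
    [89, 87],
    [90, 5],
    [90, 80],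
    [90, 85],
    [91, 6],
    [91, 86],
    [93, 6],
    [93, 86],
    [93, 91],
    [94, 7],
    [94, 87],
    [94, 89],
    [95, 5],
    [95, 80],
    [95, 85],
    [95, 90],
    [86, 6, 5],
    [86, 85, 7],
    [87, 7, 5],
    [87, 85, 6],
    [89, 7, 5],
    [89, 85, 6],
    [89, 87, 5],
    [90, 86, 6],
    [90, 89, 7],
    [91, 6, 5],
    [91, 86, 5],
    [91, 87, 6],
    [91, 89, 6],
    [93, 6, 5],
    [93, 85, 7],
    [93, 86, 5],
    [93, 91, 5],
    [94, 7, 5],
    [94, 86, 7],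
    [94, 87, 5],
    [94, 89, 5],
    [94, 93, 7],
    [95, 87, 7],
    [95, 93, 6],
    [86, 85, 7, 5],
    [87, 85, 6, 5],
    [89, 85, 6, 5],
    [90, 86, 6, 5],
    [90, 89, 7, 5],
    [91, 87, 6, 5],
    [91, 89, 6, 5],
    [93, 85, 7, 5],
    [94, 86, 7, 5],
    [94, 93, 7, 5],
    [95, 87, 7, 5],
    [95, 93, 6, 5]]

/-- conjugating words: the index of the element, the class, the word -/
def cjN : List (ℕ × Bool × List ℕ) :=
  [(1, false, []),
    (2, false, [68, 17]),
    (3, false, [91, 6]),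
    (4, false, [93, 6]),
    (5, false, [86, 6]),
    (6, true, [17]),
    (7, true, [86, 19, 6]),
    (8, true, [121, 17, 6]),
    (9, true, [127, 18]),
    (10, true, [106, 19]),
    (11, true, [126, 19]),
    (12, true, [102, 6]),
    (13, true, [106, 19, 6]),
    (14, true, [93, 17, 6]),
    (15, true, [118, 28, 6]),
    (16, true, [87, 18]),
    (17, true, [103, 24]),
    (18, true, [107, 18]),
    (19, true, [102, 7]),
    (20, true, [103, 67]),
    (21, true, [86, 19]),
    (22, true, [118, 28]),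
    (23, true, [118, 66]),
    (24, true, [126, 19, 6]),
    (25, true, [101, 17, 6]),
    (26, true, [118, 66, 6]),
    (27, true, [102])]

/-- the words of a Sylow 2-subgroup -/
def sylS : List (List ℕ) :=
  [[],
    [1, 4],
    [1, 16],
    [1, 21],
    [1, 16, 1, 4],
    [1, 21, 1, 4],
    [1, 21, 1, 16],
    [1, 22, 1, 3],
    [1, 23, 1, 2],
    [1, 46, 1, 42],
    [1, 47, 1, 43],
    [1, 57, 1, 45],
    [1, 58, 1, 42],
    [1, 58, 1, 47],
    [1, 59, 1, 43],
    [1, 59, 1, 46],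
    [1, 61, 1, 41],
    [1, 62, 1, 43],
    [1, 62, 1, 46],
    [1, 62, 1, 58],
    [1, 63, 1, 42],
    [1, 63, 1, 47],
    [1, 63, 1, 59],
    [1, 21, 1, 16, 1, 4],
    [1, 22, 1, 4, 1, 2],
    [1, 22, 1, 16, 1, 2],
    [1, 23, 1, 4, 1, 3],
    [1, 23, 1, 16, 1, 3],
    [1, 46, 1, 42, 1, 16],
    [1, 47, 1, 43, 1, 16],
    [1, 57, 1, 45, 1, 4],
    [1, 57, 1, 45, 1, 21],
    [1, 58, 1, 42, 1, 4],
    [1, 58, 1, 47, 1, 4],
    [1, 59, 1, 43, 1, 4],
    [1, 59, 1, 46, 1, 4],
    [1, 61, 1, 41, 1, 4],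
    [1, 61, 1, 41, 1, 21],
    [1, 62, 1, 43, 1, 4],
    [1, 62, 1, 46, 1, 4],
    [1, 62, 1, 58, 1, 16],
    [1, 63, 1, 42, 1, 4],
    [1, 63, 1, 47, 1, 4],
    [1, 63, 1, 59, 1, 16],
    [1, 22, 1, 16, 1, 4, 1, 3],
    [1, 23, 1, 16, 1, 4, 1, 2],
    [1, 46, 1, 42, 1, 22, 1, 3],
    [1, 46, 1, 42, 1, 23, 1, 2],
    [1, 47, 1, 43, 1, 22, 1, 3],
    [1, 47, 1, 43, 1, 23, 1, 2],
    [1, 57, 1, 45, 1, 21, 1, 4],
    [1, 58, 1, 42, 1, 22, 1, 3],
    [1, 58, 1, 42, 1, 23, 1, 2],
    [1, 59, 1, 43, 1, 22, 1, 3],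
    [1, 59, 1, 43, 1, 23, 1, 2],
    [1, 61, 1, 41, 1, 21, 1, 4],
    [1, 62, 1, 46, 1, 22, 1, 3],
    [1, 62, 1, 46, 1, 23, 1, 2],
    [1, 62, 1, 58, 1, 22, 1, 3],
    [1, 62, 1, 58, 1, 23, 1, 2],
    [1, 63, 1, 47, 1, 22, 1, 3],
    [1, 63, 1, 47, 1, 23, 1, 2],
    [1, 63, 1, 59, 1, 22, 1, 3],
    [1, 63, 1, 59, 1, 23, 1, 2]]

/-- conjugating words: the index of the element, the class, the word -/
def cjS : List (ℕ × Bool × List ℕ) :=
  [(1, true, []),
    (2, true, [1, 61, 1, 41]),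
    (3, true, [1, 25, 1, 8]),
    (4, true, [1, 54, 1, 38]),
    (5, true, [1, 23, 1, 2]),
    (6, true, [1, 58, 1, 42]),
    (7, true, [1, 25, 1, 8, 1, 2]),
    (8, true, [1, 25, 1, 8, 1, 3]),
    (9, true, [1, 43]),
    (10, true, [1, 42]),
    (11, true, [1, 61, 1, 55, 1, 26]),
    (12, true, [1, 43, 1, 23, 1, 2]),
    (13, true, [1, 58, 1, 25, 1, 8]),
    (14, true, [1, 59, 1, 23, 1, 2]),
    (15, true, [1, 59, 1, 25, 1, 8]),
    (16, true, [1, 45, 1, 39, 1, 26]),
    (17, true, [1, 42, 1, 25, 1, 8]),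
    (18, true, [1, 42, 1, 23, 1, 2]),
    (19, true, [1, 59]),
    (20, true, [1, 43, 1, 25, 1, 8]),
    (21, true, [1, 58, 1, 23, 1, 2]),
    (22, true, [1, 58]),
    (23, false, []),
    (31, false, [1, 41]),
    (37, false, [1, 45]),
    (44, false, [1, 2]),
    (45, false, [1, 3])]

/-- words from the first singular vector -/
def orbN : List (List ℕ) :=
  [[],
    [18, 17],
    [19, 17],
    [24, 20],
    [28, 20, 6],
    [7],
    [28, 20],
    [6],
    [18, 17, 6],
    [20],
    [28, 6],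
    [24, 7],
    [17],
    [19, 7],
    [18, 6],
    [28],
    [24, 6],
    [20, 7],
    [19],
    [18, 7],
    [17, 6],
    [24],
    [20, 6],
    [28, 7],
    [18],
    [17, 7],
    [19, 6],
    [68],
    [76, 6],
    [72, 7],
    [65],
    [67, 7],
    [66, 6],
    [68, 17],
    [91, 6],
    [119, 28],
    [102, 24],
    [125, 19],
    [126, 19],
    [94],
    [105, 18],
    [91],
    [107, 18],
    [68, 19],
    [107, 6],
    [87, 24],
    [118, 20],
    [93, 18],
    [94, 18],
    [110],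
    [121, 17],
    [107],
    [123, 17],
    [68, 18],
    [123, 6],
    [103, 20],
    [86, 28],
    [109, 17],
    [110, 17],
    [126],
    [89, 19],
    [123],
    [91, 19],
    [76],
    [72, 6],
    [68, 7],
    [67],
    [66, 7],
    [65, 6],
    [76, 17],
    [118, 6],
    [110, 28],
    [93, 24],
    [107, 19],
    [105, 19],
    [121],
    [87, 18],
    [118],
    [86, 18],
    [76, 19],
    [86, 6],
    [126, 24],
    [109, 20],
    [123, 18],
    [121, 18],
    [89],
    [103, 17],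
    [86],
    [102, 17],
    [76, 18],
    [102, 6],
    [94, 20],
    [125, 28],
    [91, 17],
    [89, 17],
    [105],
    [119, 19],
    [102],
    [118, 19],
    [72],
    [68, 6],
    [76, 7],
    [66],
    [65, 7],
    [67, 6],
    [72, 17],
    [109, 6],
    [89, 28],
    [123, 24],
    [86, 19],
    [87, 19],
    [103],
    [126, 18],
    [109],
    [125, 18],
    [72, 19],
    [125, 6],
    [105, 24],
    [91, 20],
    [102, 18],
    [103, 18],
    [119],
    [94, 17],
    [125],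
    [93, 17],
    [72, 18],
    [93, 6],
    [121, 20],
    [107, 28],
    [118, 17],
    [119, 17],
    [87],
    [110, 19],
    [93],
    [109, 19]]

/-- words from the first non-singular vector -/
def orbS1 : List (List ℕ) :=
  [[],
    [1, 2],
    [1, 3],
    [1, 30, 1, 26],
    [1, 30, 1, 22],
    [1, 26, 1, 22],
    [1, 54, 1, 38],
    [1, 23, 1, 2],
    [1, 22],
    [1, 23],
    [1, 27, 1, 2],
    [1, 26],
    [1, 27],
    [1, 31, 1, 2],
    [1, 30],
    [1, 31],
    [1, 54, 1, 22],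
    [1, 39, 1, 2],
    [1, 38],
    [1, 39],
    [1, 43, 1, 2],
    [1, 42],
    [1, 43],
    [1, 47, 1, 2],
    [1, 46],
    [1, 47],
    [1, 38, 1, 22],
    [1, 55, 1, 2],
    [1, 54],
    [1, 55],
    [1, 59, 1, 2],
    [1, 58],
    [1, 59],
    [1, 63, 1, 2],
    [1, 62],
    [1, 63]]

/-- words from the first singular vector -/
def orbS5 : List (List ℕ) :=
  [[],
    [1, 2],
    [1, 3],
    [1, 12],
    [1, 12, 1, 3],
    [1, 12, 1, 2],
    [1, 8],
    [1, 8, 1, 3],
    [1, 8, 1, 2],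
    [1, 23, 1, 2],
    [1, 22],
    [1, 23],
    [1, 25, 1, 8],
    [1, 29],
    [1, 25],
    [1, 39, 1, 2],
    [1, 38],
    [1, 39],
    [1, 41, 1, 8],
    [1, 45],
    [1, 41],
    [1, 55, 1, 2],
    [1, 54],
    [1, 55],
    [1, 57, 1, 8],
    [1, 61],
    [1, 57]]

/-- elements fixing the first singular vector -/
def mvN : List (List ℕ) :=
  [[96, 85, 80], [101, 96], [80]]

/-- elements fixing a vector -/
def mvS0 : List (List ℕ) :=
  [[1, 2], [1, 8, 1, 4], [1, 32, 1, 16]]

/-- elements fixing a vector -/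
def mvS1 : List (List ℕ) :=
  [[1, 8, 1, 4], [1, 32, 1, 16]]

/-- elements fixing a vector -/
def mvS5 : List (List ℕ) :=
  [[1, 26], [1, 32, 1, 16]]

/-- words commuting with the representative -/
def cgN0 : List (List ℕ) :=
  [[5], [80], [85], [90], [96], [18, 17, 6]]

/-- words commuting with the representative -/
def cgN1 : List (List ℕ) :=
  [[20], [65], [85], [105], [68, 17], [72, 19]]

/-- words commuting with the representative -/
def cgS0 : List (List ℕ) :=
  [[1, 4], [1, 16], [1, 21], [1, 42], [1, 22, 1, 3], [1, 25, 1, 8]]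

/-- words commuting with the representative -/
def cgS1 : List (List ℕ) :=
  [[1, 4], [1, 16], [1, 21], [1, 32], [1, 30, 1, 26]]

end Cfsg.Agent.ThreeTransp.U62Cent.Data
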