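import Cfsg.Agent.Lib.ThreeTransp.U62Cent.Points

/-!
# One component of the commuting graph of the class
-/

set_option autoImplicit false
set_option linter.unusedSectionVars false

namespace Cfsg.Agent.ThreeTransp.U62Cent

open W8 Subgroup Cfsg.Agent.LargeExtra

universe u

variable {G : Type u} [Group G]

/-- adjacency of two conjugates -/
def Adj (z a b : G) : Prop := a ∈ cls z ∧ b ∈ cls z ∧ a ≠ b ∧ Commute a b

theorem Adj.symm {z a b : G} (h : Adj z a b) : Adj z b a := ⟨h.2.1, h.1, h.2.2.1.symm, h.2.2.2.symm⟩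

theorem Mem.adj {z a : G} (h : Mem z a) : Adj z z a :=
  ⟨self_mem_cls z, h.cls, h.ne.symm, h.comm.symm⟩

theorem adj_iff_mem {z b : G} : Adj z z b ↔ Mem z b :=
  ⟨fun h => ⟨h.2.1, h.2.2.2.symm, h.2.2.1.symm⟩, Mem.adj⟩

/-- the component of `z` -/
def comp0 (z : G) : Set G := {x | x = z ∨ Mem z x ∨ ∃ a, Mem z a ∧ x ∈ cls z ∧ ¬ Commute x z ∧ Commute x a}

theorem comp0_sub {z x : G} (hx : x ∈ comp0 z) : x ∈ cls z := by
  rcases hx with rfl | h | ⟨a, -, h, -, -⟩
  · exact self_mem_cls _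
  · exact h.cls
  · exact h

namespace Coord

variable [Finite G] {z : G} (M : Coord z)

include M

theorem mem_of_adj {a b : G} (ha : a ∈ cls z) (hb : b ∈ cls z) (hc : Commute b a) (hne : b ≠ a) :
    Mem a b := (M.mem_move ha).2 ⟨hb, hc, hne⟩

theorem nbr_count {a : G} (ha : Mem z a) : {b | Adj z z b}.ncard = 180 := by
  have h := M.mem_count ha (fun _ => true)
  rw [List.filter_true, N.pts_count.1] at h
  rw [show (180 : ℕ) = 4 * 45 from rfl, ← h]
  congr 1
  ext b
  simp [adj_iff_mem]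

theorem lambda_count {a : G} (ha : Mem z a) : {b | Mem z b ∧ Commute b a}.ncard = 52 := by
  have h := M.mem_count ha (fun r => N.com (M.pt a) r)
  rw [N.com_count _ (M.pt_mem ha)] at h
  rw [show (52 : ℕ) = 4 * 13 from rfl, ← h]
  congr 1
  ext b
  exact and_congr_right fun hb => ⟨fun hc => (M.commute_pt ha hb).1 hc.symm,
    fun hc => ((M.commute_pt ha hb).2 hc).symm⟩

/-- the line through `z` and `c` seen from a member commuting with both -/
theorem near_member {a b c : G} (ha : Mem z a) (hc : Mem z c) (hac : Commute c a)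
    (hb : b ∈ cls z) (hbz : ¬ Commute b z) (hba : Commute b a) :
    ∃ m, Mem z m ∧ M.pt m = M.pt c ∧ Commute b m := by
  classical
  by_cases hpt : M.pt a = M.pt c
  · exact ⟨a, ha, hpt, hba⟩
  set A := M.move ha.cls
  have hbne : b ≠ a := fun e => hbz (e ▸ ha.comm)
  have hZ : Mem a z := M.mem_of_adj ha.cls (self_mem_cls z) ha.comm.symm ha.ne.symm
  have hB : Mem a b := M.mem_of_adj ha.cls hb hba hbne
  -- members of the line
  let S : Set G := insert z (M.fibre c)
  have hSfib : ∀ d ∈ M.fibre c, Mem z d ∧ M.pt d = M.pt c ∧ Mem a d := by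
    intro d hd
    have hd' := (M.pt_eq_iff hd.1 hc).2 hd.2
    refine ⟨hd.1, hd', M.mem_of_adj ha.cls hd.1.cls ?_ fun e => hpt (e ▸ hd')⟩
    exact (M.commute_pt hd.1 ha).2 (by rw [hd']; exact (M.commute_pt hc ha).1 hac)
  have hSa : ∀ d ∈ S, Mem a d := by
    rintro d (rfl | hd)
    · exact hZ
    · exact (hSfib d hd).2.2
  have hScomm : ∀ d ∈ S, ∀ e ∈ S, Commute d e := by
    have hz : ∀ d ∈ S, Commute d z := by
      rintro d (rfl | hd)
      · exact Commute.refl _
      · exact (hSfib d hd).1.comm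
    rintro d (rfl | hd) e he
    · exact (hz e he).symm
    · rcases he with rfl | he
      · exact hz d (Set.mem_insert_of_mem _ hd)
      · exact (M.commute_pt hd.1 he.1).2
          (by rw [(hSfib d hd).2.1, (hSfib e he).2.1]; exact N.com_self _)
  -- the images at `a` are distinct
  have hkey : ∀ d ∈ M.fibre c, A.pt d ≠ A.pt z := by
    intro d hd e
    obtain ⟨hdm, hdp, hda⟩ := hSfib d hd
    have hr : Rel a z d := (A.pt_rel hZ hda).1 e.symm
    obtain ⟨hr', -⟩ := M.rel_rotate ha.cls hZ hda hdm.ne hr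
    exact hpt (((M.pt_rel hdm ha).2 hr').symm.trans hdp)
  have hinj : Set.InjOn A.pt S := by
    rintro d hd e he hde
    by_contra hne
    rcases hd with rfl | hd <;> rcases he with rfl | he
    · exact hne rfl
    · exact hkey e he hde.symm
    · exact hkey d hd hde
    · obtain ⟨hdm, hdp, hda⟩ := hSfib d hd
      obtain ⟨hem, hep, hea⟩ := hSfib e he
      obtain ⟨hr1, hde'⟩ := M.rel_rotate ha.cls hda hea (Ne.symm hne) ((A.pt_rel hda hea).1 hde)
      obtain ⟨hr2, -⟩ := M.rel_rotate (self_mem_cls z) hdm hem (Ne.symm hne)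
        ((M.pt_rel hdm hem).1 (hdp.trans hep.symm))
      have hdA : Mem d a := M.mem_of_adj hdm.cls ha.cls hda.comm.symm hda.ne.symm
      have hdZ : Mem d z := M.mem_of_adj hdm.cls (self_mem_cls z) hdm.comm.symm hdm.ne.symm
      have hr3 : Rel d a z := M.rel_trans hem.cls (M.rel_symm hem.cls ha.cls hr1) hr2
      obtain ⟨hr4, -⟩ := M.rel_rotate hdm.cls hdA hdZ ha.ne.symm hr3
      exact hkey d hd ((A.pt_rel hda hZ).2 (M.rel_symm (self_mem_cls z) hdm.cls hr4))
  -- they fill a line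
  have hr := A.pt_mem hZ
  have hcS : c ∈ M.fibre c := ⟨hc, rfl⟩
  have ht := A.pt_mem (hSfib c hcS).2.2
  have hline := (((N.line_spec _ hr _ ht).resolve_left (hkey c hcS).symm).resolve_left (by
    rw [(A.commute_pt hZ (hSfib c hcS).2.2).1 hc.comm.symm]; decide))
  have hsub : A.pt '' S ⊆ ((N.lineOf (A.pt z) (A.pt c)).toFinset : Set W8) := by
    rintro _ ⟨d, hd, rfl⟩
    rw [List.coe_toFinset]
    refine List.mem_filter.2 ⟨A.pt_mem (hSa d hd), ?_⟩
    rw [Bool.and_eq_true]
    exact ⟨(A.commute_pt hZ (hSa d hd)).1 (hScomm z (Set.mem_insert _ _) d hd),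
      (A.commute_pt (hSfib c hcS).2.2 (hSa d hd)).1 (hScomm c (Set.mem_insert_of_mem _ hcS) d hd)⟩
  have heq : A.pt '' S = ((N.lineOf (A.pt z) (A.pt c)).toFinset : Set W8) := by
    refine Set.eq_of_subset_of_ncard_le hsub ?_ (Set.toFinite _)
    rw [Set.ncard_coe_finset, List.toFinset_card_of_nodup
      (show (N.lineOf (A.pt z) (A.pt c)).Nodup from N.pts_count.2.filter _), hline.1,
      hinj.ncard_image]
    show 5 ≤ (insert z (M.fibre c)).ncard
    rw [Set.ncard_insert_of_notMem (fun h : z ∈ M.fibre c => h.1.ne rfl), M.fibre_ncard hc]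
  obtain ⟨t, ht', hst⟩ := hline.2 _ (A.pt_mem hB)
  obtain ⟨d, hd, rfl⟩ : t ∈ A.pt '' S := by rw [heq, List.coe_toFinset]; exact ht'
  have hbd : Commute b d := (A.commute_pt hB (hSa d hd)).2 hst
  rcases hd with rfl | hd
  · exact absurd hbd hbz
  · exact ⟨d, (hSfib d hd).1, (hSfib d hd).2.1, hbd⟩

theorem exists_at {a b : G} (ha : Mem z a) (hb : b ∈ cls z) (hbz : ¬ Commute b z) (hba : Commute b a)
    {p : W8} (hp : p ∈ pts) : ∃ m, Mem z m ∧ M.pt m = p ∧ Commute b m := by
  obtain ⟨t, ht, h1, h2⟩ := N.com_join _ (M.pt_mem ha) p hp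
  obtain ⟨c, hc, hct⟩ := M.exists_mem_pt ha ht
  obtain ⟨d, hd, hdt, hbd⟩ := M.near_member ha hc
    ((M.commute_pt hc ha).2 (by rw [hct]; exact N.com_comm h1)) hb hbz hba
  obtain ⟨c', hc', hc'p⟩ := M.exists_mem_pt ha hp
  obtain ⟨m, hm, hmp, hbm⟩ := M.near_member hd hc'
    ((M.commute_pt hc' hd).2 (by rw [hdt, hct, hc'p]; exact h2)) hb hbz hbd
  exact ⟨m, hm, hmp.trans hc'p, hbm⟩

theorem unique_at {b c c' : G} (hb : b ∈ cls z) (hbz : ¬ Commute b z) (hc : Mem z c) (hc' : Mem z c')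
    (hpt : M.pt c = M.pt c') (h : Commute b c) (h' : Commute b c') : c = c' := by
  by_contra hne
  obtain ⟨hr, hcc⟩ := M.rel_rotate (self_mem_cls z) hc hc' (Ne.symm hne) ((M.pt_rel hc hc').1 hpt)
  have hne' : b ≠ c := fun e => hbz (e ▸ hc.comm)
  set A := M.move hc.cls
  have hB : Mem c b := M.mem_of_adj hc.cls hb h hne'
  have hZ : Mem c z := M.mem_of_adj hc.cls (self_mem_cls z) hc.comm.symm hc.ne.symm
  have hC : Mem c c' := M.mem_of_adj hc.cls hc'.cls hcc.symm (Ne.symm hne)
  refine hbz ((A.commute_pt hB hZ).2 ?_)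
  rw [← (A.pt_rel hC hZ).2 hr]
  exact (A.commute_pt hB hC).1 h'

theorem mu_count {a b : G} (ha : Mem z a) (hb : b ∈ cls z) (hbz : ¬ Commute b z) (hba : Commute b a) :
    {m | Mem z m ∧ Commute b m}.ncard = 45 := by
  classical
  rw [← N.pts_count.1, ← List.toFinset_card_of_nodup N.pts_count.2, ← Set.ncard_coe_finset]
  refine Set.ncard_congr (fun m _ => M.pt m) (fun m hm => by
    rw [List.coe_toFinset]; exact M.pt_mem hm.1) (fun m m' hm hm' e =>
    M.unique_at hb hbz hm.1 hm'.1 e hm.2 hm'.2) fun p hp => ?_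
  rw [List.coe_toFinset] at hp
  obtain ⟨m, hm, e, hbm⟩ := M.exists_at ha hb hbz hba hp
  exact ⟨m, ⟨hm, hbm⟩, e⟩

theorem order_three {a b : G} (ha : Mem z a) (hb : b ∈ cls z) (hbz : ¬ Commute b z) (hba : Commute b a) :
    orderOf (z * b) = 3 := by
  set A := M.move ha.cls
  have hZ : Mem a z := M.mem_of_adj ha.cls (self_mem_cls z) ha.comm.symm ha.ne.symm
  have hB : Mem a b := M.mem_of_adj ha.cls hb hba fun e => hbz (e ▸ ha.comm)
  have hbr : braid (A.pt z) (A.pt b) = true :=
    (N.com_or_braid _ (A.pt_mem hZ) _ (A.pt_mem hB)).resolve_left fun h =>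
      hbz ((A.commute_pt hZ hB).2 h).symm
  have hmul : ∀ {c d : G}, Commute c a → Commute d a → A.img (c * d) = A.img c * A.img d :=
    fun hc hd => A.img_mul hc hd
  have he : A.img z * A.img b * A.img z = A.img b * A.img z * A.img b := Equiv.ext fun v => by
    simp only [Equiv.Perm.mul_apply, A.img_pt hZ, A.img_pt hB]
    exact N.braid_apply hbr v
  have h1 : A.img ((z * b) ^ 3) = 1 := by
    have e : (z * b) ^ 3 = z * b * z * (b * z * b) := by
      simp only [pow_succ, pow_zero, one_mul, mul_assoc]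
    rw [e, hmul ((hZ.comm.mul_left hB.comm).mul_left hZ.comm) ((hB.comm.mul_left hZ.comm).mul_left hB.comm),
      hmul (hZ.comm.mul_left hB.comm) hZ.comm, hmul hZ.comm hB.comm,
      hmul (hB.comm.mul_left hZ.comm) hB.comm, hmul hB.comm hZ.comm, he]
    calc A.img b * A.img z * A.img b * (A.img b * A.img z * A.img b)
        = A.img b * A.img z * (A.img b * A.img b) * A.img z * A.img b := by group
      _ = A.img b * (A.img z * A.img z) * A.img b := by rw [A.img_sq hB]; group
      _ = 1 := by rw [A.img_sq hZ, mul_one, A.img_sq hB]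
  have hJ : (z * b) ^ 3 ∈ O2c a := (A.img_eq_one ((hZ.comm.mul_left hB.comm).pow_left 3)).1 h1
  have hodd : Odd (orderOf (z * b)) :=
    (M.commute_or_odd (self_mem_cls z) hb).resolve_left fun h => hbz h.symm
  obtain ⟨k, hk⟩ := A.ctr.pgroup ⟨_, hJ⟩
  have hk' : ((z * b) ^ 3) ^ 2 ^ k = 1 := by simpa using congrArg Subtype.val hk
  rw [← pow_mul] at hk'
  have hd := orderOf_dvd_of_pow_eq_one hk'
  have hcop : Nat.Coprime (orderOf (z * b)) (2 ^ k) := (Nat.coprime_two_right.2 hodd).pow_right k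
  rcases (Nat.dvd_prime Nat.prime_three).1 (hcop.dvd_of_dvd_mul_right hd) with e | e
  · refine absurd ?_ hbz
    have := orderOf_eq_one_iff.1 e
    rw [eq_inv_of_mul_eq_one_right this, M.ctr.inv_self]
  · exact e

/-- The component is closed under adjacency. -/
theorem comp0_closed {x y : G} (hx : x ∈ comp0 z) (hxy : Adj z x y) : y ∈ comp0 z := by
  obtain ⟨hxc, hyc, hne, hcm⟩ := hxy
  by_cases hyz : Commute y z
  · by_cases e : y = z
    · exact Or.inl e
    · exact Or.inr (Or.inl ⟨hyc, hyz, e⟩)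
  rcases hx with rfl | h | ⟨a, ha, -, hxz, hxa⟩
  · exact absurd hcm.symm hyz
  · exact Or.inr (Or.inr ⟨x, h, hyc, hyz, hcm.symm⟩)
  · set X := M.move hxc
    have hA : Mem x a := M.mem_of_adj hxc ha.cls hxa.symm fun e => hxz (e ▸ ha.comm)
    have hY : Mem x y := M.mem_of_adj hxc hyc hcm.symm hne.symm
    have hz' : z ∈ cls x := by rw [cls_eq hxc]; exact self_mem_cls z
    obtain ⟨m, hm, hmp, hzm⟩ := X.exists_at hA hz' (fun h => hxz h.symm) ha.comm.symm (X.pt_mem hY)
    have hmy : Commute y m := ((X.commute_pt hY hm).2 (by rw [hmp]; exact N.com_self _))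
    have hmc : m ∈ cls z := ((M.mem_move hxc).1 hm).1
    have hmz : m ≠ z := fun e => hxz (e ▸ hm.comm).symm
    exact Or.inr (Or.inr ⟨m, ⟨hmc, hzm.symm, hmz⟩, hyc, hyz, hmy⟩)

theorem comp0_count {a : G} (ha : Mem z a) : (comp0 z).ncard = 693 := by
  classical
  haveI : Fintype G := Fintype.ofFinite G
  let s : Finset G := Finset.univ.filter fun b => Mem z b
  let t : Finset G := Finset.univ.filter fun b => b ∈ cls z ∧ ¬ Commute b z ∧ ∃ c, Mem z c ∧ Commute b c
  have hs : s.card = 180 := by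
    rw [← M.nbr_count ha, ← Set.ncard_coe_finset]
    congr 1; ext b; simp [s, adj_iff_mem]
  have habove : ∀ c ∈ s, (Finset.bipartiteAbove (fun c b => Commute b c) t c).card = 128 := by
    intro c hc
    have hc' : Mem z c := by simpa [s] using hc
    have hZ : Mem c z := M.mem_of_adj hc'.cls (self_mem_cls z) hc'.comm.symm hc'.ne.symm
    have h1 := (M.move hc'.cls).nbr_count hZ
    have h2 := (M.move hc'.cls).lambda_count hZ
    have hset : (↑(Finset.bipartiteAbove (fun c b => Commute b c) t c) : Set G) =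
        {b | Adj c c b} \ {b | Mem c b ∧ Commute b z} := by
      ext b
      simp only [Finset.coe_bipartiteAbove, t, Finset.coe_filter, Finset.mem_filter, Finset.mem_univ,
        true_and, Set.mem_setOf_eq, Set.mem_sdiff, adj_iff_mem, M.mem_move hc'.cls]
      constructor
      · rintro ⟨⟨h1, h2, -⟩, h3⟩
        exact ⟨⟨h1, h3, fun e => h2 (e ▸ hc'.comm)⟩, fun h => h2 h.2⟩
      · rintro ⟨⟨h1, h2, h3⟩, h4⟩
        exact ⟨⟨h1, fun h => h4 ⟨⟨h1, h2, h3⟩, h⟩, c, hc', h2⟩, h2⟩
    rw [← Set.ncard_coe_finset, hset, Set.ncard_sdiff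
      (show {b | Mem c b ∧ Commute b z} ⊆ {b | Adj c c b} from fun b hb => adj_iff_mem.2 hb.1),
      h1, h2]
  have hbelow : ∀ b ∈ t, (Finset.bipartiteBelow (fun c b => Commute b c) s b).card = 45 := by
    intro b hb
    obtain ⟨hb1, hb2, c, hc, hbc⟩ : b ∈ cls z ∧ ¬ Commute b z ∧ ∃ c, Mem z c ∧ Commute b c := by
      simpa [t] using hb
    rw [← M.mu_count hc hb1 hb2 hbc, ← Set.ncard_coe_finset]
    congr 1; ext m
    simp [s, Finset.mem_bipartiteBelow]
  have hmul := Finset.card_mul_eq_card_mul (fun c b => Commute b c) habove hbelow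
  rw [hs] at hmul
  have hset : comp0 z = ↑(insert z (s ∪ t)) := by
    ext x
    simp only [comp0, s, t, Finset.coe_insert, Finset.coe_union, Finset.coe_filter, Finset.mem_univ,
      true_and, Set.mem_insert_iff, Set.mem_union, Set.mem_setOf_eq]
    constructor
    · rintro (h | h | ⟨c, hc, h1, h2, h3⟩)
      · exact Or.inl h
      · exact Or.inr (Or.inl h)
      · exact Or.inr (Or.inr ⟨h1, h2, c, hc, h3⟩)
    · rintro (h | h | ⟨h1, h2, c, hc, h3⟩)
      · exact Or.inl h
      · exact Or.inr (Or.inl h)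
      · exact Or.inr (Or.inr ⟨c, hc, h1, h2, h3⟩)
  have hz : z ∉ s ∪ t := by
    simp only [s, t, Finset.mem_union, Finset.mem_filter, Finset.mem_univ, true_and]
    rintro (h | ⟨-, h, -⟩)
    · exact h.ne rfl
    · exact h (Commute.refl z)
  have hdisj : Disjoint s t := by
    rw [Finset.disjoint_left]
    intro b h1 h2
    simp only [s, t, Finset.mem_filter, Finset.mem_univ, true_and] at h1 h2
    exact h2.2.1 h1.comm
  rw [hset, Set.ncard_coe_finset, Finset.card_insert_of_notMem hz, Finset.card_union_of_disjoint hdisj, hs]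
  omega

/-- Pairwise commuting conjugates are at most twenty-one. -/
theorem clique_le {a : G} (ha : Mem z a) {S : Set G} (hz : z ∈ S) (hS : S ⊆ cls z)
    (hc : ∀ x ∈ S, ∀ y ∈ S, Commute x y) : S.ncard ≤ 21 := by
  classical
  have hmem : ∀ x ∈ S, x ≠ z → Mem z x := fun x hx h => ⟨hS hx, hc x hx z hz, h⟩
  have main : ∃ l : List W8, (∀ p ∈ l, p ∈ pts) ∧ l.Nodup ∧ l.length ≤ 5 ∧
      ∀ x ∈ S, x ≠ z → M.pt x ∈ l := by
    by_cases h : ∃ x ∈ S, x ≠ z ∧ ∃ y ∈ S, y ≠ z ∧ M.pt x ≠ M.pt y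
    · obtain ⟨x, hx, hxz, y, hy, hyz, hxy⟩ := h
      have hX := hmem x hx hxz
      have hY := hmem y hy hyz
      have hl := ((N.line_spec _ (M.pt_mem hX) _ (M.pt_mem hY)).resolve_left hxy).resolve_left
        (by rw [(M.commute_pt hX hY).1 (hc x hx y hy)]; decide)
      refine ⟨N.lineOf (M.pt x) (M.pt y), fun p hp => (List.mem_filter.1 hp).1, N.pts_count.2.filter _,
        hl.1.le, fun w hw hwz => List.mem_filter.2 ⟨M.pt_mem (hmem w hw hwz), ?_⟩⟩
      rw [Bool.and_eq_true]
      exact ⟨(M.commute_pt hX (hmem w hw hwz)).1 (hc x hx w hw),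
        (M.commute_pt hY (hmem w hw hwz)).1 (hc y hy w hw)⟩
    · push Not at h
      by_cases h' : ∃ x ∈ S, x ≠ z
      · obtain ⟨x, hx, hxz⟩ := h'
        exact ⟨[M.pt x], fun p hp => by rw [List.mem_singleton.1 hp]; exact M.pt_mem (hmem x hx hxz),
          List.nodup_singleton _, by simp, fun w hw hwz => List.mem_singleton.2 (h w hw hwz x hx hxz)⟩
      · push Not at h'
        exact ⟨[], by simp, List.nodup_nil, by simp, fun w hw hwz => absurd (h' w hw) hwz⟩
  obtain ⟨l, hl1, hl2, hl3, hl4⟩ := main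
  have hsub : S ⊆ insert z {b | Mem z b ∧ l.contains (M.pt b) = true} := fun x hx => by
    by_cases e : x = z
    · exact Or.inl e
    · exact Or.inr ⟨hmem x hx e, List.contains_iff_mem.2 (hl4 x hx e)⟩
  have h1 := M.mem_count ha (fun p => l.contains p)
  have h2 : (pts.filter fun p => l.contains p).length ≤ 5 := by
    refine le_trans ?_ hl3
    rw [← List.toFinset_card_of_nodup (N.pts_count.2.filter _), ← List.toFinset_card_of_nodup hl2]
    refine Finset.card_le_card fun p hp => ?_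
    simp only [List.mem_toFinset, List.mem_filter, List.contains_iff_mem] at hp ⊢
    exact hp.2
  calc S.ncard ≤ (insert z {b | Mem z b ∧ l.contains (M.pt b) = true}).ncard :=
        Set.ncard_le_ncard hsub (Set.toFinite _)
    _ ≤ {b | Mem z b ∧ l.contains (M.pt b) = true}.ncard + 1 := Set.ncard_insert_le _ _
    _ ≤ 21 := by omega

end Coord

end Cfsg.Agent.ThreeTransp.U62Cent
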