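import Mathlib

/-!
# Idempotents of an element of order three in characteristic two
-/

set_option autoImplicit false

namespace Cfsg.Agent.ThreeTransp.U62Cent

/-- the projection to the fixed points -/
def p0 {R : Type*} [Mul R] [Add R] [One R] (t : R) : R := 1 + t + t * t

/-- the projection to the moved part -/
def p1 {R : Type*} [Mul R] [Add R] (t : R) : R := t + t * t

section Hom

variable {R S : Type*} [Semiring R] [Semiring S] (φ : R →+* S)

theorem map_p0 (t : R) : φ (p0 t) = p0 (φ t) := by simp [p0]

theorem map_p1 (t : R) : φ (p1 t) = p1 (φ t) := by simp [p1]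

end Hom

section Comm

variable {R : Type*} [CommRing R] (h2 : (2 : R) = 0) {t u : R} (ht : t * t * t = 1) (hu : u * u * u = 1)
include h2 ht

theorem p0_idem : p0 t * p0 t = p0 t := by
  simp only [p0]; linear_combination (t + 2) * ht + (1 + t + t * t) * h2

theorem p0_p1 : p0 t * p1 t = 0 := by
  simp only [p0, p1]; linear_combination (t + 2) * ht + (1 + t + t * t) * h2

omit ht in
theorem p0_add_p1 : p0 t + p1 t = 1 := by
  simp only [p0, p1]; linear_combination (t + t * t) * h2

theorem mul_p0 : t * p0 t = p0 t := by
  simp only [p0]; linear_combination ht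

theorem p0_sq : p0 (t * t) = p0 t := by
  simp only [p0]; linear_combination t * ht

theorem p1_sq : p1 (t * t) = p1 t := by
  simp only [p1]; linear_combination t * ht

include hu

theorem p1_mul_p1 : p1 t * p1 u = p0 (t * u) + p0 (t * (u * u)) := by
  simp only [p0, p1]
  linear_combination -(t * t * u) * hu - h2

theorem p0_p0_p1 : p0 (t * u) * p0 (t * (u * u)) * p1 t = 0 := by
  have e : p0 (t * u) * p0 (t * (u * u)) = p0 t * p0 u := by
    simp only [p0]
    linear_combination (t * u ^ 6 + u ^ 5 + u ^ 4) * ht +
      (t * t * u + t * t + u * u + u + t * (u * u * u + 1)) * hu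
  rw [e, mul_right_comm, p0_p1 h2 ht, zero_mul]

omit h2 in
/-- the swap of the halves -/
theorem p0_mul_sq : p0 (t * t * u) = p0 (t * (u * u)) := by
  simp only [p0]
  linear_combination t * u * u * ht - t * t * u * hu

end Comm

end Cfsg.Agent.ThreeTransp.U62Cent
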