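import Cfsg.Agent.Lib.ThreeTransp.U62Cent.Count
import Cfsg.Agent.S5596

/-!
# `O₂(C(z))` holds no other conjugate of `z`
-/

set_option autoImplicit false
set_option linter.unusedSectionVars false

namespace Cfsg.Agent.ThreeTransp.U62Cent

open W8 Subgroup Cfsg.Agent.LargeExtra

universe u

variable {G : Type u} [Group G]

namespace S

theorem plane_bb : ∀ d ∈ six, ∀ p ∈ vecs [0, 64, 128, 192], bb d p = false := by decide +kernel

theorem plane_add : ∀ p ∈ vecs [0, 64, 128, 192], ∀ r ∈ vecs [0, 64, 128, 192],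
    p + r ∈ vecs [0, 64, 128, 192] := by decide +kernel

theorem six_add : ∀ p ∈ six, ∀ r ∈ six, p + r ∈ six := by decide +kernel

theorem span_sets : (∀ p ∈ vecs [0, 64, 128, 192], p ∈ vecs [0, 128, 64, 192, 1, 129, 65, 193] ∧
      W8.mk 1 + p ∈ vecs [0, 128, 64, 192, 1, 129, 65, 193]) ∧
    ∀ p ∈ vecs [0, 64, 128, 192], p ∈ vecs [0, 128, 64, 192, 5, 133, 69, 197] ∧
      W8.mk 5 + p ∈ vecs [0, 128, 64, 192, 5, 133, 69, 197] := by decide +kernel

theorem six_meet : ∀ p ∈ vecs [0, 64, 128, 192], p ∈ six → p = 0 := by decide +kernel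

theorem six_zero : (0 : W8) ∈ six ∧ W8.mk 1 ∈ six ∧ W8.mk 5 ∈ six := by decide +kernel

theorem six_basis : ∀ u ∈ basis, u ∈ six ∨ u ∈ vecs [0, 64, 128, 192] := by decide +kernel

theorem five_ne : W8.mk 5 ≠ 0 ∧ W8.mk 1 ≠ 0 := by decide +kernel

/-- Move facts in any position: a vector of the six-part orthogonal to `u` and to all its conjugates
under the stabiliser of `u`. -/
theorem move_any {I : Subgroup (Equiv.Perm W8)} (hI : ISplit I) {u x : W8} (hu : u ∈ six) (hx : x ∈ six)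
    (hxu : bb x u = false) (hinv : ∀ g ∈ I, g u = u → bb x (g x) = false) : x = 0 ∨ x = u := by
  have key : ∀ (r : W8) (mv : List (List ℕ)),
      ((∀ w ∈ mv, okF w = true ∧ wF w r = r) ∧ ∀ x ∈ six, bb x r = true ∨ x = 0 ∨ x = r ∨
        ∃ g ∈ mv, bb x (wF g x) = true) →
      ∀ h ∈ I, h r = u → x = 0 ∨ x = u := by
    intro r mv hmv h hh hr
    have hh' := hI.le hh
    have hy : (h⁻¹ : Equiv.Perm W8) x ∈ six := GS_six (hI.le (inv_mem hh)) hx
    have hb : bb ((h⁻¹ : Equiv.Perm W8) x) r = false := by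
      rw [← hh'.1.bb, hr]; simpa using hxu
    rcases hmv.2 _ hy with e | e | e | ⟨g, hg, e⟩
    · rw [hb] at e; exact absurd e (by decide)
    · left
      have := congrArg h e
      rwa [hh'.1.map_zero, Equiv.Perm.inv_def, Equiv.apply_symm_apply] at this
    · right
      have := congrArg h e
      rwa [hr, Equiv.Perm.inv_def, Equiv.apply_symm_apply] at this
    · obtain ⟨hok, hfix⟩ := hmv.1 g hg
      obtain ⟨γ, hγ, eγ⟩ := hI.word hok
      have hu' : (h⁻¹ : Equiv.Perm W8) u = r := by rw [← hr]; simp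
      have h1 := hinv (h * γ * h⁻¹) (mul_mem (mul_mem hh hγ) (inv_mem hh)) (by
        simp only [Equiv.Perm.mul_apply, hu', eγ, hfix, hr])
      rw [← eγ, ← hh'.1.bb] at e
      simp only [Equiv.Perm.mul_apply] at h1
      rw [show h ((h⁻¹ : Equiv.Perm W8) x) = x by simp] at e
      rw [h1] at e
      exact absurd e (by decide)
  by_cases hu0 : u = 0
  · subst hu0
    exact key (W8.mk 0) Data.mvS0 S.move0 1 (one_mem _) rfl
  rcases Bool.eq_false_or_eq_true (qe true u) with hq | hq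
  · obtain ⟨h, hh, hr⟩ := hI.trans1 hu hu0 (hq.trans orbit_counts.2.2.2.2.symm)
    exact key (W8.mk 1) Data.mvS1 S.move1 h hh hr
  · obtain ⟨h, hh, hr⟩ := hI.trans5 hu hu0 (hq.trans orbit_counts.2.2.2.1.symm)
    exact key (W8.mk 5) Data.mvS5 S.move5 h hh hr

/-- the radical bound in any position -/
theorem rad_any {I : Subgroup (Equiv.Perm W8)} (hI : ISplit I) {u : W8} (hu : u ∈ six)
    {A : Subgroup (Equiv.Perm W8)} (hA : A ≤ GS true) (hfix : ∀ g ∈ A, g u = u)
    (h : ∀ g ∈ A, ∀ v ∈ six, bb v u = false → g v + v = 0 ∨ g v + v = u) : Nat.card A ≤ 16 := by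
  classical
  by_cases hu0 : u = 0
  · have : A = ⊥ := by
      rw [eq_bot_iff]
      intro g hg
      rw [mem_bot]
      refine Equiv.ext fun v => ?_
      refine W8.basis_add v (f := g) (g := id) (hA hg).1.add (fun _ _ => rfl) fun w hw => ?_
      rcases six_basis w hw with hw | hw
      · rcases h g hg w hw (by rw [hu0, bb_zero_right]) with e | e
        · exact eq_of_add e
        · exact eq_of_add (e.trans hu0)
      · exact plane_fix (hA hg) hw
    rw [this, Subgroup.card_bot]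
    norm_num
  have key : ∀ r : W8, (∀ B : Subgroup (Equiv.Perm W8), B ≤ GS true → (∀ g ∈ B, g r = r) →
      (∀ g ∈ B, ∀ v ∈ six, bb v r = false → g v + v = 0 ∨ g v + v = r) → Nat.card B ≤ 16) →
      ∀ k ∈ I, k r = u → Nat.card A ≤ 16 := by
    intro r hr k hk hkr
    have hk' := hI.le hk
    have hki : (k⁻¹ : Equiv.Perm W8) u = r := by rw [← hkr]; simp
    have := hr (A.map (MulAut.conj k⁻¹).toMonoidHom) ?_ ?_ ?_
    · rwa [card_map_of_injective (MulAut.conj k⁻¹).injective] at this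
    · rintro _ ⟨g, hg, rfl⟩
      exact mul_mem (mul_mem (hI.le (inv_mem hk)) (hA hg)) (inv_mem (hI.le (inv_mem hk)))
    · rintro _ ⟨g, hg, rfl⟩
      simp only [MulEquiv.coe_toMonoidHom, MulAut.conj_apply, inv_inv, Equiv.Perm.mul_apply, hkr,
        hfix g hg, hki]
    · rintro _ ⟨g, hg, rfl⟩ v hv hb
      simp only [MulEquiv.coe_toMonoidHom, MulAut.conj_apply, inv_inv, Equiv.Perm.mul_apply]
      have hkv : (k⁻¹ : Equiv.Perm W8) (k v) = v := by simp
      have hadd := hI.add (inv_mem hk)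
      rcases h g hg (k v) (GS_six hk' hv) (by rw [← hkr, hk'.1.bb, hb]) with e | e
      · left
        conv_lhs => arg 2; rw [← hkv]
        rw [← hadd, e]
        exact additive_zero hadd
      · right
        conv_lhs => arg 2; rw [← hkv]
        rw [← hadd, e, hki]
  rcases Bool.eq_false_or_eq_true (qe true u) with hq | hq
  · obtain ⟨k, hk, hr⟩ := hI.trans1 hu hu0 (hq.trans orbit_counts.2.2.2.2.symm)
    exact key (W8.mk 1) (fun B => rad_group1) k hk hr
  · obtain ⟨k, hk, hr⟩ := hI.trans5 hu hu0 (hq.trans orbit_counts.2.2.2.1.symm)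
    exact key (W8.mk 5) (fun B => rad_group5) k hk hr

end S

namespace Pre

variable [Finite G] {z : G} (M : Pre z)

include M

theorem J_facts {a : G} (ha : a ∈ cls z) (haJ : a ∈ O2c z) (hne : a ≠ z) :
    qe M.e (M.vec a) = false ∧ M.vec a ≠ 0 ∧ Commute a z :=
  ⟨M.qe_of_sq haJ (M.cls_sq ha),
    fun h => (M.vec_cases haJ h).elim (M.cls_ne_one ha) hne, commute_of_O2c haJ⟩

theorem flip_J {g b a : G} (hg : g * z * g⁻¹ = a) (hb : g * b * g⁻¹ = z) :
    b ∈ O2c z ↔ z ∈ O2c a := by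
  rw [← mem_O2c_conj g z b, hb, hg]

/-- the stabiliser of the vector of `a` -/
theorem Cimg_J {a : G} (haJ : a ∈ O2c z) (hv : M.vec a ≠ 0) {t : Equiv.Perm W8} :
    t ∈ M.Cimg a ↔ t ∈ M.π.range ∧ t (M.vec a) = M.vec a := by
  constructor
  · intro ht
    obtain ⟨c, h1, h2, rfl⟩ := M.mem_Cimg.1 ht
    refine ⟨M.img_mem c, ?_⟩
    rw [← M.vec_conj' h1 haJ, h2.eq, mul_inv_cancel_right]
  · rintro ⟨ht, hfix⟩
    obtain ⟨c, h1, h2, h3⟩ := M.lift_exact ht haJ haJ hv hfix
    exact M.mem_Cimg.2 ⟨c, h1, mul_inv_eq_iff_eq_mul.1 h3, h2⟩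

theorem card_Ja_J {a : G} (haJ : a ∈ O2c z) (hv : M.vec a ≠ 0) : Nat.card ↥(Ja z a) = 256 := by
  refine le_antisymm ?_ ?_
  · have h := M.card_le_two_mul (S := Ja z a) inf_le_left (F := {v | bb v (M.vec a) = false})
      fun y hy => M.bb_of_commute haJ hy.1 (mem_Ja.1 hy).2
    rw [ncard_perp hv] at h
    exact h
  · have h := M.ncard_le_card (S := Ja z a) (F := {v | bb v (M.vec a) = false}) fun v hv' t =>
      M.mem_Ja_of_bb haJ (mul_mem (M.lift_mem v) (M.zb_mem t))
        (by rw [M.vec_mul (M.lift_mem v) (M.zb_mem t), M.vec_lift, M.vec_zb, add_zero]; exact hv')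
    rw [ncard_perp hv] at h
    exact h

/-- The vectors of the common core, when a copy of `Ω₆⁻(2)` fixing the plane is induced. -/
theorem split_T {I : Subgroup (Equiv.Perm W8)} (hI : ISplit I) (hle : I ≤ M.π.range) {a : G}
    (ha : a ∈ cls z) (haJ : a ∈ O2c z) (hne : a ≠ z) {d p : W8} (hd : d ∈ six)
    (hp : p ∈ vecs [0, 64, 128, 192]) (hdp : M.vec a = d + p) :
    (∀ {v r q : W8}, v ∈ M.vimg (Xa z a) → r ∈ six → q ∈ vecs [0, 64, 128, 192] → v = r + q →
      bb r d = false → r = 0 ∨ r = d) ∧ (M.vimg (Xa z a)).ncard ≤ 4 := by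
  classical
  obtain ⟨haq, hav, hac⟩ := M.J_facts ha haJ hne
  set T := M.vimg (Xa z a) with hT
  have hTa : M.vec a ∈ T := ⟨a, ⟨haJ, (M.ctr_of ha).z_mem⟩, rfl⟩
  have hXsq : ∀ x ∈ Xa z a, x * x = 1 := by
    intro x hx
    rcases M.ctr.sq_cases hx.1 with e | e
    · exact e
    · rcases (M.ctr_of ha).sq_cases hx.2 with e' | e'
      · exact e'
      · exact absurd (e'.symm.trans e) hne
  have hTq : ∀ v ∈ T, qe M.e v = false := by
    rintro _ ⟨x, hx, rfl⟩; exact M.qe_of_sq hx.1 (hXsq x hx)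
  have hTb : ∀ v ∈ T, ∀ w ∈ T, bb v w = false := by
    intro v hv w hw
    have h1 := hTq _ (M.add_mem_vimg inf_le_left hv hw)
    rw [qe_add, hTq v hv, hTq w hw] at h1
    simpa using h1
  have hTinv : ∀ t ∈ I, t d = d → ∀ v ∈ T, t v ∈ T := by
    rintro t ht htd _ ⟨x, hx, rfl⟩
    obtain ⟨c, h1, h2, h3⟩ := M.lift_exact (hle ht) haJ haJ hav
      (by rw [hdp, (hI.le ht).1.add, htd, S.plane_fix (hI.le ht) hp])
    exact ⟨c * x * c⁻¹, M.Xa_inv ha h1 (mul_inv_eq_iff_eq_mul.1 h3) hx, by rw [M.vec_conj' h1 hx.1, h2]⟩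
  -- decomposition of the members of `T`
  have hbbd : ∀ {v r q : W8}, r ∈ six → q ∈ vecs [0, 64, 128, 192] → v = r + q →
      ∀ {v' r' q' : W8}, r' ∈ six → q' ∈ vecs [0, 64, 128, 192] → v' = r' + q' →
      bb v v' = xor (bb r r') (bb q q') := by
    rintro v r q hr hq rfl v' r' q' hr' hq' rfl
    rw [bb_add_left, bb_add_right, bb_add_right, S.plane_bb r hr q' hq', bb_comm q r',
      S.plane_bb r' hr' q hq]
    simp
  have hT0 : ∀ {v r q : W8}, v ∈ T → r ∈ six → q ∈ vecs [0, 64, 128, 192] → v = r + q →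
      bb r d = false → r = 0 ∨ r = d := by
    intro v r q hv hr hq e hrd
    refine S.move_any hI hd hr hrd fun t ht htd => ?_
    have h1 := hTb v hv _ (hTinv t ht htd v hv)
    rw [hbbd hr hq e (GS_six (hI.le ht) hr) hq
      (by rw [e, (hI.le ht).1.add, S.plane_fix (hI.le ht) hq]), bb_self q, Bool.xor_false] at h1
    exact h1
  refine ⟨fun {v r q} => hT0, ?_⟩
  show T.ncard ≤ 4
  by_cases hdT : d ∈ T ∧ d ≠ 0
  · obtain ⟨hdT, hd0⟩ := hdT
    have hsub : ∀ v ∈ T, ∃ q ∈ vecs [0, 64, 128, 192], v = q ∨ v = d + q := by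
      intro v hv
      obtain ⟨r, hr, q, hq, e, -⟩ := six_split v
      have hrd : bb r d = false := by
        have h := hTb v hv d hdT
        rw [hbbd hr hq e hd (by decide +kernel : (0 : W8) ∈ vecs [0, 64, 128, 192]) (add_zero d).symm,
          bb_zero_right, Bool.xor_false] at h
        exact h
      rcases hT0 hv hr hq e hrd with rfl | rfl
      · exact ⟨q, hq, Or.inl (by rw [e, zero_add])⟩
      · exact ⟨q, hq, Or.inr e⟩
    -- no three independent in the eight vectors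
    obtain ⟨k, hk, hkd⟩ : ∃ k ∈ I, k (W8.mk 1) = d ∨ k (W8.mk 5) = d := by
      rcases Bool.eq_false_or_eq_true (qe true d) with hq' | hq'
      · obtain ⟨k, hk, e⟩ := hI.trans1 hd hd0 (hq'.trans S.orbit_counts.2.2.2.2.symm)
        exact ⟨k, hk, Or.inl e⟩
      · obtain ⟨k, hk, e⟩ := hI.trans5 hd hd0 (hq'.trans S.orbit_counts.2.2.2.1.symm)
        exact ⟨k, hk, Or.inr e⟩
    have hki : (k⁻¹ : Equiv.Perm W8) d = W8.mk 1 ∨ (k⁻¹ : Equiv.Perm W8) d = W8.mk 5 :=
      hkd.imp (fun e => by rw [← e]; simp) fun e => by rw [← e]; simp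
    have hks := hI.le (inv_mem hk)
    have hke : IsIso M.e false (k⁻¹ : Equiv.Perm W8) := by
      obtain ⟨c, hc, e⟩ := M.exists_img (hle (inv_mem hk))
      exact ⟨hks.1.add, fun v => e ▸ M.img_q c v, fun h => absurd h (by decide)⟩
    rw [← Set.ncard_image_of_injective _ hke.injective]
    have hmem : ∃ l, (l = vecs [0, 128, 64, 192, 1, 129, 65, 193] ∨ l = vecs [0, 128, 64, 192, 5, 133, 69, 197]) ∧
        ∀ v ∈ T, (k⁻¹ : Equiv.Perm W8) v ∈ l := by
      rcases hki with e | e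
      · refine ⟨_, Or.inl rfl, fun v hv => ?_⟩
        obtain ⟨q, hq, hv' | hv'⟩ := hsub v hv <;> rw [hv']
        · rw [S.plane_fix hks hq]; exact (S.span_sets.1 q hq).1
        · rw [hks.1.add, e, S.plane_fix hks hq]; exact (S.span_sets.1 q hq).2
      · refine ⟨_, Or.inr rfl, fun v hv => ?_⟩
        obtain ⟨q, hq, hv' | hv'⟩ := hsub v hv <;> rw [hv']
        · rw [S.plane_fix hks hq]; exact (S.span_sets.2 q hq).1
        · rw [hks.1.add, e, S.plane_fix hks hq]; exact (S.span_sets.2 q hq).2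
    obtain ⟨l, hl, hlm⟩ := hmem
    have hts : tsSmall M.e l = true := by
      rcases hl with rfl | rfl
      · exact S.span1_ts _
      · exact S.span5_ts _
    refine ncard_le_four ⟨0, M.zero_mem_vimg _, hke.map_zero⟩ ?_ ?_
    · rintro _ ⟨v, hv, rfl⟩ _ ⟨w, hw, rfl⟩
      exact ⟨v + w, M.add_mem_vimg inf_le_left hv hw, hks.1.add v w⟩
    · rintro _ ⟨x, hx, rfl⟩ _ ⟨y, hy, rfl⟩ _ ⟨w, hw, rfl⟩
      simp only [tsSmall, List.all_eq_true, Bool.or_eq_true, beq_iff_eq] at hts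
      have h := hts _ (hlm x hx) _ (hlm y hy) _ (hlm w hw)
      simp only [hke.q, hke.bb, hTq x hx, hTq y hy, hTq w hw, hTb x hx y hy, hTb x hx w hw,
        hTb y hy w hw, Bool.false_eq_true, false_or, or_assoc] at h
      exact h
  · have hinj : ∀ v ∈ T, ∀ r ∈ six, v = r → v = 0 := by
      intro v hv r hr e
      subst e
      have hvd : bb v d = false := by
        have h := hTb v hv _ hTa
        rw [hbbd hr (by decide +kernel : (0 : W8) ∈ vecs [0, 64, 128, 192]) (add_zero v).symm hd hp hdp,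
          bb_zero_left, Bool.xor_false] at h
        exact h
      rcases hT0 hv hr (by decide +kernel) (add_zero v).symm hvd with e | e
      · exact e
      · subst e
        by_contra h
        exact hdT ⟨hv, h⟩
    let f : W8 → W8 := fun v => (six_split v).choose_spec.2.choose
    have hf : ∀ v, f v ∈ vecs [0, 64, 128, 192] ∧ v + f v ∈ six := by
      intro v
      obtain ⟨h1, h2, -⟩ := (six_split v).choose_spec.2.choose_spec
      refine ⟨h1, ?_⟩
      have : v + f v = (six_split v).choose := by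
        conv_lhs => arg 1; rw [h2]
        rw [add_assoc, W8.add_self, add_zero]
      rw [this]
      exact (six_split v).choose_spec.1
    calc T.ncard ≤ (↑(vecs [0, 64, 128, 192]).toFinset : Set W8).ncard := by
          refine Set.ncard_le_ncard_of_injOn f (fun v _ => List.mem_toFinset.2 (hf v).1) ?_ (Set.toFinite _)
          intro v hv w hw e
          refine W8.eq_of_add (hinj _ (M.add_mem_vimg inf_le_left hv hw) _ ?_ rfl)
          have := S.six_add _ (hf v).2 _ (hf w).2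
          rwa [e, show v + f w + (w + f w) = v + w + (f w + f w) by abel, W8.add_self, add_zero] at this
      _ ≤ 4 := by rw [Set.ncard_coe_finset]; decide +kernel

end Pre

namespace Coord

variable [Finite G] {z : G} (M : Coord z)

include M



theorem card_Cz_J {a : G} (haJ : a ∈ O2c z) (hv : M.vec a ≠ 0) {O : Set W8}
    (hO : ∀ g ∈ M.π.range, g (M.vec a) ∈ O) (htr : ∀ w ∈ O, ∃ g ∈ M.π.range, g (M.vec a) = w) :
    Nat.card ↥(Cz z a) * O.ncard = 25920 * 256 := by
  rw [M.card_Cz a, M.card_Ja_J haJ hv, ← M.card_img, ← stab_mul (M.vec a) hO htr]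
  have e : Nat.card ↥(M.Cimg a) = Nat.card ↥(MulAction.stabilizer ↥M.π.range (M.vec a)) := by
    refine Nat.card_congr
      { toFun := fun t => ⟨⟨t, ((M.Cimg_J haJ hv).1 t.2).1⟩, ((M.Cimg_J haJ hv).1 t.2).2⟩
        invFun := fun s => ⟨s.1, (M.Cimg_J haJ hv).2 ⟨s.1.2, s.2⟩⟩
        left_inv := fun _ => rfl
        right_inv := fun _ => rfl }
  rw [e]
  ring

/-! ### the natural module -/

theorem singular_mem_cls (hN : INat M.π.range) (he : M.e = true) {a : G} (ha : a ∈ cls z)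
    (haJ : a ∈ O2c z) (hne : a ≠ z) {y : G} (hy : y ∈ O2c z) (hy0 : M.vec y ≠ 0)
    (hq : qe true (M.vec y) = false) : y ∈ cls z ∧ y ≠ z := by
  obtain ⟨haq, hav, -⟩ := M.J_facts ha haJ hne
  rw [he] at haq
  obtain ⟨g, hg, e1⟩ := hN.trans5 hav haq
  obtain ⟨h, hh, e2⟩ := hN.trans5 hy0 hq
  obtain ⟨c, -, -, e⟩ := M.lift_exact (t := h * g⁻¹) (mul_mem hh (inv_mem hg)) haJ hy hy0
    (by rw [← e1]; simpa using e2)
  exact ⟨e ▸ conj_mem_cls c ha, fun h' => hy0 (h' ▸ M.vec_z)⟩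

theorem nat_mem_Ja (hN : INat M.π.range) (he : M.e = true) {a : G} (ha : a ∈ cls z)
    (haJ : a ∈ O2c z) (hne : a ≠ z) : z ∈ O2c a := by
  obtain ⟨haq, hav, hac⟩ := M.J_facts ha haJ hne
  rw [he] at haq
  obtain ⟨g, b, hg, hb, hbc, hbz, hbne⟩ := M.flip ha hac hne
  by_contra hcon
  have hbJ : b ∉ O2c z := fun h => hcon ((M.flip_J hg hb).1 h)
  have h1 := M.card_Cz_J haJ hav (O := {v | qe true v = false ∧ v ≠ 0})
    (fun t ht => ⟨by rw [(hN.le ht).q]; exact haq,
      fun e => hav ((hN.le ht).injective (e.trans (hN.le ht).map_zero.symm))⟩)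
    (fun w hw => by
      obtain ⟨s, hs, e1⟩ := hN.trans5 hav haq
      obtain ⟨r, hr, e2⟩ := hN.trans5 hw.2 hw.1
      exact ⟨r * s⁻¹, mul_mem hr (inv_mem hs), by rw [← e1]; simpa using e2⟩)
  rw [N.ncard_singular, card_Cz_flip hg hb, M.card_Cz b] at h1
  have hx : M.img b * M.img b = 1 := by
    rw [← M.img_mul hbz hbz, M.cls_sq hbc, M.img_J (one_mem _)]
  obtain ⟨y, -, hy⟩ := hN.classes (M.img_mem b) hx fun e => hbJ ((M.img_eq_one hbz).1 e)
  have hfix : {v : W8 | M.img b v = v}.ncard ≤ 64 := by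
    rcases hy with hy | hy
    · exact le_of_eq ((ncard_fix_conj hy).trans N.ncard_fix0)
    · exact le_of_eq_of_le ((ncard_fix_conj hy).trans N.ncard_fix1) (by norm_num)
  have h2 : Nat.card ↥(Ja z b) ≤ 128 :=
    (M.card_le_two_mul (S := Ja z b) inf_le_left (F := {v | M.img b v = v})
      fun x hx' => M.fix_of_commute hbz hx'.1 (mem_Ja.1 hx').2.symm).trans (by omega)
  obtain ⟨k, hk⟩ := M.card_Ja_pow b
  rw [hk] at h1 h2
  have hk7 : k ≤ 7 := (Nat.pow_le_pow_iff_right (by norm_num : 1 < 2)).1 (h2.trans_eq (by norm_num))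
  have hd : 49152 ∣ 25920 * 2 ^ 7 :=
    dvd_trans ⟨1, by omega⟩ (mul_dvd_mul (M.card_Cimg_dvd b) (pow_dvd_pow 2 hk7))
  norm_num at hd

/-- In the natural module `σ u` lies in the core of a lift of `u`. -/
theorem nat_sig_mem (hN : INat M.π.range) (he : M.e = true) {a : G} (ha : a ∈ cls z)
    (haJ : a ∈ O2c z) (hne : a ≠ z) :
    ∃ b ∈ O2c z, M.vec b = W8.sig (M.vec a) ∧ b ∈ O2c a ∧ b * z ∈ O2c a := by
  obtain ⟨haq, hav, hac⟩ := M.J_facts ha haJ hne
  rw [he] at haq
  -- the standard point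
  have h5 : qe true (W8.mk 5) = false ∧ W8.mk 5 ≠ 0 ∧ W8.sig (W8.mk 5) = W8.mk 10 ∧
      W8.mk 15 + W8.mk 5 = W8.mk 10 := by decide +kernel
  obtain ⟨a0, ha0J, hva0⟩ := M.surj (W8.mk 5)
  obtain ⟨ha0, hne0⟩ := M.singular_mem_cls hN he ha haJ hne ha0J (by rw [hva0]; exact h5.2.1)
    (by rw [hva0]; exact h5.1)
  have hz0 := M.nat_mem_Ja hN he ha0 ha0J hne0
  have hX : Xa z a0 ≤ O2c z := inf_le_left
  -- the standard case
  have key : W8.mk 10 ∈ M.vimg (Xa z a0) := by
    have hzX : z ∈ Xa z a0 := ⟨M.z_mem, hz0⟩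
    have haX : a0 ∈ Xa z a0 := ⟨ha0J, (M.ctr_of ha0).z_mem⟩
    have hsq : ∀ x ∈ Xa z a0, x * x = 1 := by
      intro x hx
      rcases M.ctr.sq_cases hx.1 with e | e
      · exact e
      · rcases (M.ctr_of ha0).sq_cases hx.2 with e' | e'
        · exact e'
        · exact absurd (e'.symm.trans e) hne0
    have hnotsmall : ∃ v ∈ M.vimg (Xa z a0), v ≠ 0 ∧ v ≠ W8.mk 5 := by
      by_contra hcon
      push Not at hcon
      obtain ⟨g, b, hg, hb, hbc, hbz, hbne⟩ := M.flip ha0 (commute_of_O2c ha0J) hne0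
      have hbJ : b ∈ O2c z := (M.flip_J hg hb).2 hz0
      have hQ : Nat.card ↥(Qa z a0) = 256 := by
        rw [M.card_Qa hg hb, M.card_Ja_J hbJ (M.J_facts hbc hbJ hbne).2.1]
      have hfix : ∀ q ∈ Qa z a0, M.img q (W8.mk 5) = W8.mk 5 := fun q hq => by
        rw [← hva0]
        exact M.fix_of_commute (mem_Qa.1 hq).2 ha0J (commute_of_O2c hq.1)
      have hA : Nat.card ↥(M.Abar a0) < 64 := by
        refine N.rad_group ((M.Abar_le a0).trans hN.le) (fun t ht => ?_) fun t ht v hv => ?_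
        · obtain ⟨q, hq, rfl⟩ := M.mem_Abar.1 ht
          exact hfix q hq
        · obtain ⟨q, hq, rfl⟩ := M.mem_Abar.1 ht
          obtain ⟨y, hy, rfl⟩ := M.surj v
          have hyJa : y ∈ Ja z a0 := M.mem_Ja_of_bb ha0J hy (by rw [hva0]; exact hv)
          have hx := M.commutator_Xa ha0 hq hyJa
          rw [← (M.commutator_J (mem_Qa.1 hq).2 hy).2]
          by_cases e : M.vec (q * y * q⁻¹ * y⁻¹) = 0
          · exact Or.inl e
          · exact Or.inr (hcon _ ⟨_, hx, rfl⟩ e)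
      have hXc : Nat.card ↥(Xa z a0) ≤ 4 := by
        refine (M.card_le_two_mul hX (F := (↑({0, W8.mk 5} : Finset W8) : Set W8)) fun x hx => ?_).trans ?_
        · by_cases e : M.vec x = 0
          · simp [e]
          · simp [hcon _ ⟨x, hx, rfl⟩ e]
        · rw [Set.ncard_coe_finset]
          exact (Nat.mul_le_mul_left 2 Finset.card_le_two)
      have h := M.card_Qa_eq a0
      rw [hQ] at h
      nlinarith
    obtain ⟨v, hv, hv0, hv5⟩ := hnotsmall
    obtain ⟨x, hx, rfl⟩ := hv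
    have hxq : qe true (M.vec x) = false := he ▸ M.qe_of_sq hx.1 (hsq x hx)
    have hxb : bb (M.vec x) (W8.mk 5) = false := by
      rw [← hva0]
      exact M.bb_of_commute ha0J hx.1 (commute_of_O2c hx.2)
    have hinv : ∀ w ∈ Data.mvN, ∀ v ∈ M.vimg (Xa z a0), wT w v ∈ M.vimg (Xa z a0) := by
      rintro w hw _ ⟨y, hy, rfl⟩
      obtain ⟨hok, hfix⟩ := N.mv_ok w hw
      obtain ⟨t, ht, et⟩ := hN.word hok
      obtain ⟨c, h1, h2, h3⟩ := M.lift_exact ht ha0J ha0J (by rw [hva0]; exact h5.2.1)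
        (by rw [hva0, et, hfix])
      refine ⟨c * y * c⁻¹, M.Xa_inv ha0 h1 (mul_inv_eq_iff_eq_mul.1 h3) hy, ?_⟩
      rw [M.vec_conj' h1 hy.1, h2, et]
    have hadd : ∀ {p r : W8}, p ∈ M.vimg (Xa z a0) → r ∈ M.vimg (Xa z a0) → p + r ∈ M.vimg (Xa z a0) :=
      fun hp hr => M.add_mem_vimg hX hp hr
    have hx' : M.vec x ∈ M.vimg (Xa z a0) := ⟨x, hx, rfl⟩
    have h5m : W8.mk 5 ∈ M.vimg (Xa z a0) := ⟨a0, haX, hva0⟩
    have hfin : ∀ {r : W8}, r ∈ M.vimg (Xa z a0) → r = W8.mk 10 ∨ r = W8.mk 15 →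
        W8.mk 10 ∈ M.vimg (Xa z a0) := by
      rintro r hr (rfl | rfl)
      · exact hr
      · exact h5.2.2.2 ▸ hadd hr h5m
    rcases N.move (M.vec x) with e | e | e | e | e | e | ⟨g, hg, e⟩ | ⟨g, hg, h, hh, e⟩
    · rw [hxq] at e; exact absurd e (by decide)
    · rw [hxb] at e; exact absurd e (by decide)
    · exact absurd e hv0
    · exact absurd e hv5
    · exact hfin hx' (Or.inl e)
    · exact hfin hx' (Or.inr e)
    · exact hfin (hadd (hinv g hg _ hx') hx') e
    · exact hfin (hadd (hinv h hh _ (hadd (hinv g hg _ hx') hx')) (hadd (hinv g hg _ hx') hx')) e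
  -- transport to `a`
  obtain ⟨x, hx, hxv⟩ := key
  obtain ⟨t, ht, et⟩ := hN.trans5 hav haq
  obtain ⟨c, h1, h2, h3⟩ := M.lift_exact ht ha0J haJ hav (by rw [hva0, et])
  have hm : ∀ w ∈ Xa z a0, c * w * c⁻¹ ∈ O2c a := fun w hw => by
    rw [← h3]
    exact (mem_O2c_conj c a0 w).2 hw.2
  refine ⟨c * x * c⁻¹, M.conj_J h1 hx.1, ?_, hm x hx, ?_⟩
  · rw [M.vec_conj' h1 hx.1, h2, hxv, ← h5.2.2.1, (hN.le ht).sig rfl, et]
  · have := hm (x * z) ((Xa z a0).mul_mem hx ⟨M.z_mem, hz0⟩)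
    rwa [show c * (x * z) * c⁻¹ = c * x * c⁻¹ * (c * z * c⁻¹) by group, h1.eq, mul_inv_cancel_right] at this

theorem nat_not_J (hN : INat M.π.range) (he : M.e = true) {a : G} (ha : a ∈ cls z)
    (haJ : a ∈ O2c z) : a = z := by
  classical
  by_contra hne
  obtain ⟨haq, hav, hac⟩ := M.J_facts ha haJ hne
  rw [he] at haq
  obtain ⟨b, hbJ, hbv, hba, -⟩ := M.nat_sig_mem hN he ha haJ hne
  have hs : ∀ v : W8, v = 0 ∨ (W8.sig v ≠ 0 ∧ W8.sig v ≠ v ∧ W8.sig (W8.sig v) = W8.sig v + v) := by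
    decide +kernel
  set u := M.vec a with hu
  obtain ⟨hs0, hs1, hs2⟩ := (hs u).resolve_left hav
  let Lset : Set W8 := {v | v = 0 ∨ v = u ∨ v = W8.sig u ∨ v = W8.sig u + u}
  have hL0 : (0 : W8) ∈ Lset := Or.inl rfl
  have h2 : ∀ p r : W8, p + (p + r) = r := fun p r => by rw [← add_assoc, W8.add_self, zero_add]
  have hLadd : ∀ v ∈ Lset, ∀ w ∈ Lset, v + w ∈ Lset := by
    rintro v (rfl | rfl | rfl | rfl) w (rfl | rfl | rfl | rfl) <;>
      simp [Lset, W8.add_self, h2, add_comm, add_left_comm]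
  have hLsig : ∀ v ∈ Lset, W8.sig v ∈ Lset := by
    have h0 : W8.sig 0 = 0 := by decide +kernel
    rintro v (rfl | rfl | rfl | rfl)
    · rw [h0]; exact hL0
    · exact Or.inr (Or.inr (Or.inl rfl))
    · exact Or.inr (Or.inr (Or.inr hs2))
    · rw [W8.sig_add, hs2, add_comm, ← add_assoc, W8.add_self, zero_add]; exact Or.inr (Or.inl rfl)
  have hLq : ∀ v ∈ Lset, qe true v = false := by
    rintro v (rfl | rfl | rfl | rfl)
    · exact qe_zero _
    · exact haq
    · rw [qe_sig, haq]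
    · rw [← hs2, qe_sig, qe_sig, haq]
  let U : Subgroup G :=
    { carrier := {x | x ∈ O2c z ∧ M.vec x ∈ Lset}
      one_mem' := ⟨one_mem _, by rw [M.vec_one]; exact hL0⟩
      mul_mem' := fun {x y} hx hy => ⟨mul_mem hx.1 hy.1, by
        rw [M.vec_mul hx.1 hy.1]; exact hLadd _ hx.2 _ hy.2⟩
      inv_mem' := fun {x} hx => ⟨inv_mem hx.1, by rw [M.vec_inv hx.1]; exact hx.2⟩ }
  have hsq : ∀ x ∈ U, x * x = 1 := fun x hx => by
    rw [M.sq hx.1, he, hLq _ hx.2, zb_false]
  have hcls : ∀ x ∈ U, x ≠ 1 → x ∈ cls z := by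
    intro x hx h1
    by_cases h0 : M.vec x = 0
    · rcases M.vec_cases hx.1 h0 with e | e
      · exact absurd e h1
      · rw [e]; exact self_mem_cls z
    · exact (M.singular_mem_cls hN he ha haJ hne hx.1 h0 (hLq _ hx.2)).1
  have horth : ∀ y ∈ U, y ≠ 1 → ∀ x ∈ U, x ∈ O2c y := by
    intro y hy hy1 x hx
    by_cases h0 : M.vec y = 0
    · rcases M.vec_cases hy.1 h0 with e | e
      · exact absurd e hy1
      · rw [e]; exact hx.1
    · obtain ⟨hycls, hyne⟩ := M.singular_mem_cls hN he ha haJ hne hy.1 h0 (hLq _ hy.2)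
      obtain ⟨d, hdJ, hdv, hd, hdz⟩ := M.nat_sig_mem hN he hycls hy.1 hyne
      have hzy := M.nat_mem_Ja hN he hycls hy.1 hyne
      have hyy := (M.ctr_of hycls).z_mem
      -- every vector of `Lset` is a combination of `vec y` and `σ (vec y)`
      have hcomb : M.vec x = 0 ∨ M.vec x = M.vec y ∨ M.vec x = W8.sig (M.vec y) ∨
          M.vec x = W8.sig (M.vec y) + M.vec y := by
        rcases hy.2 with e | e | e | e
        · exact absurd e h0
        all_goals rw [e]
        · exact hx.2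
        · rw [hs2]
          rcases hx.2 with e' | e' | e' | e'
          · exact Or.inl e'
          · right; right; right
            rw [e', add_comm (W8.sig u) u, add_assoc, W8.add_self, add_zero]
          · exact Or.inr (Or.inl e')
          · exact Or.inr (Or.inr (Or.inl e'))
        · have e2 : W8.sig (W8.sig u + u) = u := by
            rw [W8.sig_add, hs2, add_comm, ← add_assoc, W8.add_self, zero_add]
          rw [e2]
          rcases hx.2 with e' | e' | e' | e'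
          · exact Or.inl e'
          · exact Or.inr (Or.inr (Or.inl e'))
          · right; right; right
            rw [e', add_comm u, add_assoc, W8.add_self, add_zero]
          · exact Or.inr (Or.inl e')
      have hclose : ∀ w ∈ O2c y, w ∈ O2c z → M.vec x = M.vec w → x ∈ O2c y := by
        intro w hw hwJ e
        obtain ⟨t, rfl⟩ := M.eq_zb hwJ hx.1 e.symm
        cases t
        · rwa [zb_false, mul_one]
        · exact mul_mem hw hzy
      rcases hcomb with e | e | e | e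
      · exact hclose 1 (one_mem _) (one_mem _) (by rw [e, M.vec_one])
      · exact hclose y hyy hy.1 e
      · exact hclose d hd hdJ (by rw [e, hdv])
      · exact hclose (d * y) (mul_mem hd hyy) (mul_mem hdJ hy.1)
          (by rw [e, M.vec_mul hdJ hy.1, hdv])
  have haU : a ∈ U := ⟨haJ, Or.inr (Or.inl rfl)⟩
  have hbU : b ∈ U := ⟨hbJ, Or.inr (Or.inr (Or.inl hbv))⟩
  have hzU : z ∈ U := ⟨M.z_mem, by rw [M.vec_z]; exact hL0⟩
  have hcard : Nat.card ↥U = 2 ^ 3 := by
    have hL : Lset = (↑({0, u, W8.sig u, W8.sig u + u} : Finset W8) : Set W8) := by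
      ext v; simp [Lset]
    have hLc : Lset.ncard = 4 := by
      rw [hL, Set.ncard_coe_finset]
      have hsu0 : W8.sig u + u ≠ 0 := fun e => hs1 (W8.eq_of_add e)
      have hsu1 : W8.sig u + u ≠ u := fun e => hs0 (add_eq_right.1 e)
      have hsu2 : W8.sig u + u ≠ W8.sig u := fun e => hav (add_eq_left.1 e)
      simp [hav.symm, hs0.symm, hsu0.symm, hs1.symm, hsu1.symm, hsu2.symm]
    refine le_antisymm ((M.card_le_two_mul (S := U) (fun x hx => hx.1) (F := Lset) fun x hx => hx.2).trans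
      (by omega)) ?_
    refine le_trans (by omega) (M.ncard_le_card (S := U) (F := Lset) fun v hv t =>
      ⟨mul_mem (M.lift_mem v) (M.zb_mem t), by
        rw [M.vec_mul (M.lift_mem v) (M.zb_mem t), M.vec_lift, M.vec_zb, add_zero]; exact hv⟩)
  obtain ⟨w, hw1, hw2⟩ : ∃ w, bb u w = true ∧ bb (W8.sig u) w = true := by
    have : ∀ v : W8, v = 0 ∨ ∃ w ∈ span basis, bb v w = true ∧ bb (W8.sig v) w = true := by
      decide +kernel
    obtain ⟨w, -, h1, h2⟩ := (this u).resolve_left hav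
    exact ⟨w, h1, h2⟩
  -- the automorphism exchanging `a` and `b`
  have hab : a * b ∈ U := U.mul_mem haU hbU
  have habv : M.vec (a * b) = u + W8.sig u := by rw [M.vec_mul haJ hbJ, hbv]
  let ψ : ↥U → ↥U := fun x => if bb (M.vec (x : G)) w then x * ⟨a * b, hab⟩ else x
  have hUcomm : ∀ x y : ↥U, x * y = y * x := by
    intro x y
    have h1 : ∀ q : ↥U, q⁻¹ = q := fun q =>
      inv_eq_of_mul_eq_one_right (Subtype.ext (hsq q q.2))
    calc x * y = (x * y)⁻¹ := (h1 _).symm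
      _ = _ := by rw [mul_inv_rev, h1, h1]
  have hψw : bb (M.vec (a * b)) w = false := by rw [habv, bb_add_left, hw1, hw2]; rfl
  have hψinv : ∀ x, ψ (ψ x) = x := by
    intro x
    cases hb : bb (M.vec (x : G)) w
    · simp [ψ, hb]
    · have hb' : bb (M.vec ((x : G) * (a * b))) w = true := by
        rw [M.vec_mul x.2.1 hab.1, bb_add_left, hb, hψw]; rfl
      simp only [ψ, hb, if_true, Subgroup.coe_mul, hb']
      exact Subtype.ext (by simp only [Subgroup.coe_mul, mul_assoc, hsq _ hab, mul_one])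
  have hψmul : ∀ x y, ψ (x * y) = ψ x * ψ y := by
    intro x y
    have e : bb (M.vec ((x * y : ↥U) : G)) w = xor (bb (M.vec (x : G)) w) (bb (M.vec (y : G)) w) := by
      rw [Subgroup.coe_mul, M.vec_mul x.2.1 y.2.1, bb_add_left]
    simp only [ψ, e]
    have hsq' : (⟨a * b, hab⟩ : ↥U) * ⟨a * b, hab⟩ = 1 := Subtype.ext (hsq _ hab)
    cases bb (M.vec (x : G)) w <;> cases bb (M.vec (y : G)) w <;>
      simp only [Bool.xor_false, Bool.xor_true, Bool.not_true, Bool.not_false, Bool.false_eq_true,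
        if_true, if_false]
    · rw [mul_assoc]
    · rw [mul_assoc, hUcomm y, ← mul_assoc]
    · rw [mul_assoc x, ← mul_assoc ⟨a * b, hab⟩ y, hUcomm ⟨a * b, hab⟩ y, mul_assoc y, hsq', mul_one]
  let φ : ↥U ≃* ↥U := { toFun := ψ, invFun := ψ, left_inv := hψinv, right_inv := hψinv, map_mul' := hψmul }
  obtain ⟨g, -, hg⟩ := (Cfsg.Agent.S5596.result (fun x => O2c x) (fun _ => rfl) z M.two M.ctr.ext
    (M.ctr.cent.trans_le (zpowers_le.2 M.z_mem)) U hsq (fun x hx h1 => hcls x hx h1)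
    (fun x hx y hy h1 _ => horth x hx h1 y hy) _ _ rfl rfl 3 (by norm_num) hcard).2.2.2 φ
  have hgz : Commute g z := by
    have := hg ⟨z, hzU⟩
    simp only [φ, MulEquiv.coe_mk, Equiv.coe_fn_mk, ψ, M.vec_z, bb_zero_left, Bool.false_eq_true,
      if_false] at this
    exact mul_inv_eq_iff_eq_mul.1 this
  have hga : g * a * g⁻¹ = b := by
    have := hg ⟨a, haU⟩
    simp only [φ, MulEquiv.coe_mk, Equiv.coe_fn_mk, ψ, ← hu, hw1, if_true, Subgroup.coe_mul] at this
    rwa [← mul_assoc, M.cls_sq ha, one_mul] at this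
  have hgb : g * b * g⁻¹ = a := by
    have := hg ⟨b, hbU⟩
    simp only [φ, MulEquiv.coe_mk, Equiv.coe_fn_mk, ψ, hbv, hw2, if_true, Subgroup.coe_mul] at this
    have hab' : a * b = b * a := congrArg Subtype.val (hUcomm ⟨a, haU⟩ ⟨b, hbU⟩)
    rwa [hab', ← mul_assoc, hsq b hbU, one_mul] at this
  have h1 : M.img g u = W8.sig u := by rw [hu, ← M.vec_conj' hgz haJ, hga, hbv]
  have h2 : M.img g (W8.sig u) = u := by rw [← hbv, ← M.vec_conj' hgz hbJ, hgb]
  rw [(hN.le (M.img_mem g)).sig rfl, h1, hs2] at h2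
  exact hs0 (add_eq_right.1 h2)

/-! ### the split module -/

theorem split_mem_Ja (hS : ISplit M.π.range) {a : G} (ha : a ∈ cls z)
    (haJ : a ∈ O2c z) (hne : a ≠ z) : z ∈ O2c a := by
  obtain ⟨-, hav, hac⟩ := M.J_facts ha haJ hne
  obtain ⟨g, b, hg, hb, hbc, hbz, hbne⟩ := M.flip ha hac hne
  by_contra hcon
  have hbJ : b ∉ O2c z := fun h => hcon ((M.flip_J hg hb).1 h)
  obtain ⟨d, hd, p, hp, hdp, -⟩ := six_split (M.vec a)
  let O : Set W8 := {v | ∃ r ∈ six, qe true r = qe true d ∧ (r = 0 ↔ d = 0) ∧ v = r + p}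
  have h1 := M.card_Cz_J haJ hav (O := O)
    (fun t ht => by
      have hts := hS.le ht
      refine ⟨t d, GS_six hts hd, hts.1.q d, ⟨fun e => hts.1.injective (e.trans hts.1.map_zero.symm),
        fun e => by rw [e, hts.1.map_zero]⟩, ?_⟩
      rw [hdp, hts.1.add, S.plane_fix hts hp])
    (fun w hw => by
      obtain ⟨r, hr, hq, h0, rfl⟩ := hw
      have key : ∃ t ∈ M.π.range, t d = r := by
        by_cases hd0 : d = 0
        · exact ⟨1, one_mem _, by rw [hd0, h0.2 hd0]; rfl⟩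
        rcases Bool.eq_false_or_eq_true (qe true d) with hq' | hq'
        · obtain ⟨s, hs, e1⟩ := hS.trans1 hd hd0 (hq'.trans S.orbit_counts.2.2.2.2.symm)
          obtain ⟨t, ht, e2⟩ := hS.trans1 hr (mt h0.1 hd0) (hq.trans (hq'.trans S.orbit_counts.2.2.2.2.symm))
          exact ⟨t * s⁻¹, mul_mem ht (inv_mem hs), by rw [← e1]; simpa using e2⟩
        · obtain ⟨s, hs, e1⟩ := hS.trans5 hd hd0 (hq'.trans S.orbit_counts.2.2.2.1.symm)
          obtain ⟨t, ht, e2⟩ := hS.trans5 hr (mt h0.1 hd0) (hq.trans (hq'.trans S.orbit_counts.2.2.2.1.symm))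
          exact ⟨t * s⁻¹, mul_mem ht (inv_mem hs), by rw [← e1]; simpa using e2⟩
      obtain ⟨t, ht, e⟩ := key
      exact ⟨t, ht, by rw [hdp, (hS.le ht).1.add, e, S.plane_fix (hS.le ht) hp]⟩)
  have hOc : O.ncard = 1 ∨ O.ncard = 27 ∨ O.ncard = 36 := by
    by_cases hd0 : d = 0
    · left
      rw [Set.ncard_eq_one]
      refine ⟨p, Set.ext fun v => ⟨?_, ?_⟩⟩
      · rintro ⟨r, -, -, h0, rfl⟩; rw [h0.2 hd0, zero_add]; rfl
      · rintro rfl
        exact ⟨0, S.six_zero.1, by rw [hd0], ⟨fun _ => hd0, fun _ => rfl⟩, (zero_add _).symm⟩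
    · right
      have hO : O = (fun r => r + p) '' {r | r ∈ six ∧ qe true r = qe true d ∧ r ≠ 0} := by
        ext v
        constructor
        · rintro ⟨r, h1, h2, h3, rfl⟩; exact ⟨r, ⟨h1, h2, mt h3.1 hd0⟩, rfl⟩
        · rintro ⟨r, ⟨h1, h2, h3⟩, rfl⟩
          exact ⟨r, h1, h2, ⟨fun e => absurd e h3, fun e => absurd e hd0⟩, rfl⟩
      rw [hO, Set.ncard_image_of_injective _ (add_left_injective p)]
      obtain ⟨c27, c36, hn, -, -⟩ := S.orbit_counts
      rcases Bool.eq_false_or_eq_true (qe true d) with hq' | hq'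
      · right
        rw [← c36, ← List.toFinset_card_of_nodup (hn.filter _), ← Set.ncard_coe_finset]
        congr 1; ext v; simp [hq']
      · left
        rw [← c27, ← List.toFinset_card_of_nodup (hn.filter _), ← Set.ncard_coe_finset]
        congr 1; ext v; simp [hq']
  have h5 : 5 ∣ Nat.card ↥(Cz z b) := by
    rw [← card_Cz_flip hg hb]
    have hd5 : 5 ∣ Nat.card ↥(Cz z a) * O.ncard := h1 ▸ ⟨1327104, by norm_num⟩
    refine ((Nat.Prime.dvd_mul (by norm_num)).1 hd5).resolve_right ?_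
    rcases hOc with e | e | e <;> rw [e] <;> norm_num
  haveI : Fact (Nat.Prime 5) := ⟨by norm_num⟩
  obtain ⟨h, hh⟩ := exists_prime_orderOf_dvd_card' 5 h5
  obtain ⟨hhz, hhb⟩ := mem_Cz.1 h.2
  have hh5 : (h : G) ^ 5 = 1 := by
    rw [← hh, ← Subgroup.orderOf_coe h]
    exact pow_orderOf_eq_one _
  have himg5 : M.img (h : G) ^ 5 = 1 := by
    rw [M.img_eq (mem_cent.2 hhz), ← map_pow]
    have : (⟨(h : G), mem_cent.2 hhz⟩ : ↥(centralizer ({z} : Set G))) ^ 5 = 1 := Subtype.ext (by simpa using hh5)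
    rw [this, map_one]
  have hx : M.img b * M.img b = 1 := by
    rw [← M.img_mul hbz hbz, M.cls_sq hbc, M.img_J (one_mem _)]
  obtain ⟨R, y, hy, hR⟩ := S.classes_rep hS (M.img_mem b) hx fun e => hbJ ((M.img_eq_one hbz).1 e)
  have hcm : M.img (h : G) * M.img b = M.img b * M.img (h : G) := by
    rw [← M.img_mul hhz hbz, ← M.img_mul hbz hhz, hhb.eq]
  have hone := R.no_five (g := y * M.img (h : G) * y⁻¹)
    (hS.le (mul_mem (mul_mem hy (M.img_mem _)) (inv_mem hy))) (fun v => by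
      rw [← hR v, ← hR]
      have e : y * M.img (h : G) * y⁻¹ * (y * M.img b * y⁻¹) =
          y * M.img b * y⁻¹ * (y * M.img (h : G) * y⁻¹) := by
        rw [show y * M.img (h : G) * y⁻¹ * (y * M.img b * y⁻¹) = y * (M.img (h : G) * M.img b) * y⁻¹ by group,
          hcm]
        group
      exact congrArg (fun s : Equiv.Perm W8 => s v) e)
    (by rw [conj_pow, himg5, mul_one, mul_inv_cancel])
  have h1' : M.img (h : G) = 1 := by
    rw [mul_inv_eq_one, mul_eq_left] at hone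
    exact hone
  have hhJ : (h : G) ∈ O2c z := (M.img_eq_one hhz).1 h1'
  obtain ⟨k, hk⟩ := M.ctr.pgroup ⟨_, hhJ⟩
  have hk' : (h : G) ^ 2 ^ k = 1 := by simpa using congrArg Subtype.val hk
  have := orderOf_dvd_of_pow_eq_one hk'
  rw [Subgroup.orderOf_coe, hh] at this
  exact absurd (Nat.Prime.dvd_of_dvd_pow (by norm_num) this) (by norm_num)

theorem split_not_J (hS : ISplit M.π.range) {a : G} (ha : a ∈ cls z) (haJ : a ∈ O2c z) : a = z := by
  classical
  by_contra hne
  obtain ⟨haq, hav, hac⟩ := M.J_facts ha haJ hne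
  have hz := M.split_mem_Ja hS ha haJ hne
  obtain ⟨g, b, hg, hb, hbc, hbz, hbne⟩ := M.flip ha hac hne
  have hbJ : b ∈ O2c z := (M.flip_J hg hb).2 hz
  have hQ : Nat.card ↥(Qa z a) = 256 := by
    rw [M.card_Qa hg hb, M.card_Ja_J hbJ (M.J_facts hbc hbJ hbne).2.1]
  obtain ⟨d, hd, p, hp, hdp, -⟩ := six_split (M.vec a)
  obtain ⟨hT0, hTcard⟩ := Pre.split_T M.toPre hS le_rfl ha haJ hne hd hp hdp
  set T := M.vimg (Xa z a) with hT
  have hX : Nat.card ↥(Xa z a) ≤ 8 :=
    (M.card_le_two_mul (S := Xa z a) inf_le_left (F := T) fun x hx => ⟨x, hx, rfl⟩).trans (by omega)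
  have hA : Nat.card ↥(M.Abar a) ≤ 16 := by
    refine S.rad_any hS hd ((M.Abar_le a).trans hS.le) (fun t ht => ?_) fun t ht v hv hvd => ?_
    · obtain ⟨q, hq, rfl⟩ := M.mem_Abar.1 ht
      have h := M.fix_of_commute (mem_Qa.1 hq).2 haJ (commute_of_O2c hq.1)
      rw [hdp, (hS.le (M.img_mem q)).1.add, S.plane_fix (hS.le (M.img_mem q)) hp] at h
      exact add_right_cancel h
    · obtain ⟨q, hq, rfl⟩ := M.mem_Abar.1 ht
      obtain ⟨y, hy, rfl⟩ := M.surj v
      have hyJa : y ∈ Ja z a := M.mem_Ja_of_bb haJ hy (by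
        rw [hdp, bb_add_right, hvd, S.plane_bb _ hv _ hp]; rfl)
      have hx : M.img q (M.vec y) + M.vec y ∈ T :=
        ⟨_, M.commutator_Xa ha hq hyJa, (M.commutator_J (mem_Qa.1 hq).2 hy).2⟩
      have hw6 := S.six_add _ (GS_six (hS.le (M.img_mem q)) hv) _ hv
      refine hT0 hx hw6 (by decide +kernel) (add_zero _).symm ?_
      have hqd : M.img q d = d := by
        have h := M.fix_of_commute (mem_Qa.1 hq).2 haJ (commute_of_O2c hq.1)
        rw [hdp, (hS.le (M.img_mem q)).1.add, S.plane_fix (hS.le (M.img_mem q)) hp] at h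
        exact add_right_cancel h
      have hbq := M.img_bb q (M.vec y) d
      rw [hqd] at hbq
      rw [bb_add_left, hbq, hvd]
      rfl
  have h := M.card_Qa_eq a
  rw [hQ] at h
  nlinarith

/-- `O₂(C(z))` holds no other conjugate of `z`. -/
theorem not_mem_J {a : G} (ha : a ∈ cls z) (haJ : a ∈ O2c z) : a = z := by
  rcases M.shape_cases with ⟨he, h⟩ | h
  · exact M.nat_not_J h he ha haJ
  · exact M.split_not_J h ha haJ

end Coord

end Cfsg.Agent.ThreeTransp.U62Cent
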