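import Cfsg.Agent.Lib.ThreeTransp.U62Cent.Groups

/-!
# Bounding 2-groups by the maps they induce on a complement
-/

set_option autoImplicit false
set_option maxRecDepth 100000

namespace Cfsg.Agent.ThreeTransp.U62Cent

open W8

/-- A subgroup with no three independent vectors has at most four elements. -/
theorem ncard_le_four {S : Set W8} (h0 : (0 : W8) ∈ S) (hadd : ∀ x ∈ S, ∀ y ∈ S, x + y ∈ S)
    (hno : ∀ x ∈ S, ∀ y ∈ S, ∀ w ∈ S,
      x = 0 ∨ y = 0 ∨ x = y ∨ w = 0 ∨ w = x ∨ w = y ∨ w = x + y) : S.ncard ≤ 4 := by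
  classical
  by_cases hx : ∃ x ∈ S, x ≠ 0
  swap
  · push Not at hx
    calc S.ncard ≤ ({0} : Set W8).ncard := Set.ncard_le_ncard (fun x h => hx x h) (Set.toFinite _)
      _ ≤ 4 := by rw [Set.ncard_singleton]; norm_num
  obtain ⟨x, hxS, hx0⟩ := hx
  by_cases hy : ∃ y ∈ S, y ≠ 0 ∧ y ≠ x
  swap
  · push Not at hy
    calc S.ncard ≤ (↑({0, x} : Finset W8) : Set W8).ncard := Set.ncard_le_ncard (fun y h => by
          by_cases e : y = 0
          · simp [e]
          · simp [hy y h e]) (Set.toFinite _)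
      _ ≤ 4 := by
          rw [Set.ncard_coe_finset]
          exact (Finset.card_le_two).trans (by norm_num)
  obtain ⟨y, hyS, hy0, hyx⟩ := hy
  calc S.ncard ≤ (↑({0, x, y, x + y} : Finset W8) : Set W8).ncard :=
        Set.ncard_le_ncard (fun w h => by
          rcases hno x hxS y hyS w h with e | e | e | e | e | e | e
          · exact absurd e hx0
          · exact absurd e hy0
          · exact absurd e.symm hyx
          all_goals simp [e]) (Set.toFinite _)
    _ ≤ 4 := by
        rw [Set.ncard_coe_finset]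
        exact Finset.card_le_four

/-- the three lists of a fixed space, a subspace and a complement -/
structure Split (C L W : List W8) (indP : List (List W8)) : Prop where
  prj_mem : ∀ v ∈ C, prj L W v ∈ W ∧ v + prj L W v ∈ L
  prj_unique : ∀ v ∈ W, ∀ w ∈ W, v + w ∈ W ∧ (v + w ∈ L → v = w)
  W_sub : ∀ w ∈ W, w ∈ C
  L_add : ∀ l ∈ L, ∀ l' ∈ L, l + l' ∈ L
  small : smallTwo W indP = true

namespace Split

variable {C L W : List W8} {indP : List (List W8)} (D : Split C L W indP)
include D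

theorem prj_eq {v w : W8} (hv : v ∈ C) (hw : w ∈ W) (h : v + w ∈ L) : prj L W v = w := by
  obtain ⟨h1, h2⟩ := D.prj_mem v hv
  refine (D.prj_unique _ h1 _ hw).2 ?_
  have := D.L_add _ h2 _ h
  rwa [show v + prj L W v + (v + w) = (v + v) + (prj L W v + w) by abel, W8.add_self, zero_add] at this

theorem prj_W {w : W8} (hw : w ∈ W) (h0 : (0 : W8) ∈ L) : prj L W w = w :=
  D.prj_eq (D.W_sub w hw) hw (by rwa [W8.add_self])

/-- A 2-group preserving `C`, `L` whose maps on `C/L` are tabulated is at most twice its kernel. -/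
theorem card_le {A : Subgroup (Equiv.Perm W8)} (hA : IsPGroup 2 A) (hadd : A ≤ addPerm)
    (h0 : (0 : W8) ∈ L) (hC : ∀ g ∈ A, ∀ v ∈ C, g v ∈ C) (hL : ∀ g ∈ A, ∀ l ∈ L, g l ∈ L)
    (hind : ∀ g ∈ A, W.map (fun w => prj L W (g w)) ∈ indP) {m : ℕ} {S : List (Equiv.Perm W8)}
    (hS : S.length ≤ m) (hker : ∀ g ∈ A, (∀ w ∈ W, g w + w ∈ L) → g ∈ S) :
    Nat.card A ≤ 2 * m := by
  classical
  let ρ : Equiv.Perm W8 → List W8 := fun g => W.map fun w => prj L W (g w)
  have hρ : ∀ g, ρ g = W.map fun w => prj L W (g w) := fun _ => rfl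
  have hget : ∀ g, ∀ x ∈ W, (ρ g).getD (W.idxOf x) 0 = prj L W (g x) := by
    intro g x hx
    have hi := List.idxOf_lt_length_iff.2 hx
    rw [hρ, List.getD_eq_getElem _ _ (by rw [List.length_map]; exact hi), List.getElem_map,
      List.getElem_idxOf]
  have hone : ρ 1 = W := by
    rw [hρ]
    conv_rhs => rw [← List.map_id W]
    exact List.map_congr_left fun w hw => D.prj_W hw h0
  have hprj : ∀ g ∈ A, ∀ v ∈ C, prj L W (g v) = prj L W (g (prj L W v)) := by
    intro g hg v hv
    obtain ⟨h1, h2⟩ := D.prj_mem v hv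
    obtain ⟨h3, h4⟩ := D.prj_mem _ (hC g hg _ (D.W_sub _ h1))
    refine D.prj_eq (hC g hg v hv) h3 ?_
    have h5 := D.L_add _ (hL g hg _ h2) _ h4
    rwa [hadd hg, show g v + g (prj L W v) + (g (prj L W v) + prj L W (g (prj L W v))) =
      g v + (g (prj L W v) + g (prj L W v)) + prj L W (g (prj L W v)) by abel, W8.add_self, add_zero] at h5
  have hmul : ∀ g ∈ A, ∀ h ∈ A, ρ (g * h) = comp W (ρ g) (ρ h) := by
    intro g hg h hh
    rw [comp, hρ (g * h), hρ h, List.map_map]
    refine List.map_congr_left fun w hw => ?_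
    have hC' := hC h hh w (D.W_sub w hw)
    show prj L W (g (h w)) = (ρ g).getD (W.idxOf (prj L W (h w))) 0
    rw [hget g _ (D.prj_mem _ hC').1]
    exact hprj g hg _ hC'
  have hcong : ∀ g ∈ A, ∀ h ∈ A, ∀ k ∈ A, ρ g = ρ h → ρ (g * k) = ρ (h * k) ∧ ρ (k * g) = ρ (k * h) :=
    fun g hg h hh k hk e => ⟨by rw [hmul g hg k hk, hmul h hh k hk, e],
      by rw [hmul k hk g hg, hmul k hk h hh, e]⟩
  have hpow : ∀ g ∈ A, ∀ n, ρ (g ^ n) = tpow W (ρ g) n := by
    intro g hg n
    induction n with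
    | zero => rw [pow_zero, hone]; rfl
    | succ n ih => rw [pow_succ', hmul g hg _ (A.pow_mem hg n), ih]; rfl
  have hs := D.small
  simp only [smallTwo, List.all_eq_true, Bool.and_eq_true, Bool.or_eq_true, beq_iff_eq, bne_iff_ne] at hs
  have hsq : ∀ g ∈ A, ρ (g * g) = W := by
    intro g hg
    have h6 : ρ (g ^ 6) = W := by rw [hpow g hg]; exact (hs _ (hind g hg)).1
    obtain ⟨k, hk⟩ := hA ⟨g, hg⟩
    have hk' : g ^ 2 ^ k = 1 := by simpa using congrArg Subtype.val hk
    have hcop : Nat.Coprime 3 (orderOf g) :=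
      Nat.Coprime.of_dvd_right (orderOf_dvd_of_pow_eq_one hk') (Nat.Coprime.pow_right k (by norm_num))
    obtain ⟨n, hn⟩ := exists_pow_eq_self_of_coprime hcop
    have hn1 : ∀ n, ρ ((g ^ 6) ^ n) = W := by
      intro n
      induction n with
      | zero => rw [pow_zero, hone]
      | succ n ih =>
        rw [pow_succ]
        refine ((hcong _ (A.pow_mem (A.pow_mem hg 6) n) 1 A.one_mem _ (A.pow_mem hg 6) (ih.trans hone.symm)).1).trans ?_
        rw [one_mul, h6]
    have e : g * g = (g ^ 6) ^ n := by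
      calc g * g = ((g ^ 3) ^ n) * ((g ^ 3) ^ n) := by rw [hn]
        _ = _ := by rw [← pow_mul, ← pow_mul, ← pow_add]; ring_nf
    rw [e, hn1]
  have hcomm : ∀ g ∈ A, ∀ h ∈ A, ρ (g * h) = ρ (h * g) := by
    intro g hg h hh
    have hgh := A.mul_mem hg hh
    have hhg := A.mul_mem hh hg
    have h1 : ρ (g * h * (h * g)) = W := by
      rw [show g * h * (h * g) = g * (h * h) * g by group]
      have h2 := (hcong (h * h) (A.mul_mem hh hh) 1 A.one_mem g hg ((hsq h hh).trans hone.symm)).2
      rw [mul_one] at h2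
      refine ((hcong _ (A.mul_mem hg (A.mul_mem hh hh)) g hg g hg h2).1).trans (hsq g hg)
    have h3 := (hcong _ (A.mul_mem hgh hhg) 1 A.one_mem _ hhg (h1.trans hone.symm)).1
    rw [one_mul, mul_assoc] at h3
    have h4 := (hcong _ (A.mul_mem hhg hhg) 1 A.one_mem _ hgh ((hsq _ hhg).trans hone.symm)).2
    rw [mul_one] at h4
    exact h4.symm.trans h3
  have hval : ∀ g ∈ A, ∀ h ∈ A, ρ g ≠ W → ρ h ≠ W → ρ g = ρ h := by
    intro g hg h hh hne hne'
    rcases (hs _ (hind g hg)).2 _ (hind h hh) with (((((e | e) | e) | e) | e) | e)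
    · exact absurd ((hmul g hg g hg).symm.trans (hsq g hg)) e
    · exact absurd ((hmul h hh h hh).symm.trans (hsq h hh)) e
    · exact absurd e hne
    · exact absurd e hne'
    · exact e
    · exact absurd ((hmul g hg h hh).symm.trans ((hcomm g hg h hh).trans (hmul h hh g hg))) e
  let K : Set (Equiv.Perm W8) := {g | g ∈ A ∧ ρ g = W}
  have hK : K.ncard ≤ m := by
    refine le_trans ?_ hS
    calc K.ncard ≤ (↑S.toFinset : Set (Equiv.Perm W8)).ncard := by
          refine Set.ncard_le_ncard (fun g hg => List.mem_toFinset.2 (hker g hg.1 fun w hw => ?_)) (Set.toFinite _)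
          have e1 : prj L W (g w) = w := by
            have := congrArg (fun l => l.getD (W.idxOf w) 0) hg.2
            simp only [hget g w hw] at this
            rw [this, List.getD_eq_getElem _ _ (List.idxOf_lt_length_iff.2 hw), List.getElem_idxOf]
          have := (D.prj_mem _ (hC g hg.1 w (D.W_sub w hw))).2
          rwa [e1] at this
      _ ≤ S.length := by rw [Set.ncard_coe_finset]; exact S.toFinset_card_le
  rw [← SetLike.coe_sort_coe, Nat.card_coe_set_eq]
  by_cases hne : ∃ g ∈ A, ρ g ≠ W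
  · obtain ⟨g0, hg0, hne0⟩ := hne
    calc (A : Set (Equiv.Perm W8)).ncard ≤ (K ∪ (g0 * ·) '' K).ncard := by
          refine Set.ncard_le_ncard (fun g hg => ?_) (Set.toFinite _)
          by_cases e : ρ g = W
          · exact Or.inl ⟨hg, e⟩
          · refine Or.inr ⟨g0⁻¹ * g, ⟨A.mul_mem (A.inv_mem hg0) hg, ?_⟩, mul_inv_cancel_left g0 g⟩
            have h2 := (hcong g hg g0 hg0 _ (A.inv_mem hg0) (hval g hg g0 hg0 e hne0)).2
            rw [h2, inv_mul_cancel, hone]
      _ ≤ K.ncard + ((g0 * ·) '' K).ncard := Set.ncard_union_le _ _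
      _ ≤ m + m := Nat.add_le_add hK ((Set.ncard_image_le (Set.toFinite _)).trans hK)
      _ = 2 * m := (two_mul m).symm
  · push Not at hne
    calc (A : Set (Equiv.Perm W8)).ncard ≤ K.ncard :=
          Set.ncard_le_ncard (fun g hg => ⟨hg, hne g hg⟩) (Set.toFinite _)
      _ ≤ 2 * m := hK.trans (Nat.le_mul_of_pos_left m two_pos)

/-- the induced map on a span -/
theorem map_span (h0 : (0 : W8) ∈ L) (h0W : (0 : W8) ∈ W) {g : W8 → W8}
    (hg : ∀ v w, g (v + w) = g v + g w) (hC : ∀ v ∈ C, g v ∈ C) :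
    ∀ l : List W8, (∀ v ∈ l, v ∈ W) →
      (span l).map (fun w => prj L W (g w)) = span ((l.map g).map (prj L W)) ∧
        ∀ v ∈ span l, v ∈ W
  | [], _ => by
    have e : prj L W (g 0) = 0 := by rw [additive_zero hg]; exact D.prj_W h0W h0
    exact ⟨by simp [span, e], fun v hv => by rw [List.mem_singleton.1 hv]; exact h0W⟩
  | a :: l, hl => by
    obtain ⟨ih1, ih2⟩ := map_span h0 h0W hg hC l fun v hv => hl v (List.mem_cons_of_mem _ hv)
    have ha := hl a List.mem_cons_self
    have hs : ∀ v ∈ span l, a + v ∈ W := fun v hv => (D.prj_unique a ha v (ih2 v hv)).1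
    constructor
    · simp only [List.map_map] at ih1
      simp only [span, List.map_cons, List.map_append, List.map_map]
      rw [← ih1]
      simp only [List.map_map]
      congr 1
      refine List.map_congr_left fun v hv => ?_
      show prj L W (g (a + v)) = prj L W (g a) + prj L W (g v)
      have hga := hC a (D.W_sub a ha)
      have hgv := hC v (D.W_sub v (ih2 v hv))
      refine D.prj_eq (hC _ (D.W_sub _ (hs v hv)))
        (D.prj_unique _ (D.prj_mem _ hga).1 _ (D.prj_mem _ hgv).1).1 ?_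
      have h2 := D.L_add _ (D.prj_mem _ hga).2 _ (D.prj_mem _ hgv).2
      rwa [show g a + prj L W (g a) + (g v + prj L W (g v)) =
        g a + g v + (prj L W (g a) + prj L W (g v)) by abel, ← hg] at h2
    · intro v hv
      rcases List.mem_append.1 hv with hv | hv
      · exact ih2 v hv
      · obtain ⟨w, hw, rfl⟩ := List.mem_map.1 hv
        exact hs w hw

/-- A totally isotropic subgroup of `C` meeting `L` trivially has at most four elements. -/
theorem ts_le (hts : tsB W = true) (hperp : ∀ l ∈ L, ∀ v ∈ C, bb l v = false) {S : Set W8}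
    (h0 : (0 : W8) ∈ S) (hadd : ∀ x ∈ S, ∀ y ∈ S, x + y ∈ S) (hC : ∀ x ∈ S, x ∈ C)
    (hiso : ∀ x ∈ S, ∀ y ∈ S, bb x y = false) (hdis : ∀ x ∈ S, x ∈ L → x = 0) : S.ncard ≤ 4 := by
  classical
  have hmem : ∀ x ∈ S, prj L W x ∈ W := fun x hx => (D.prj_mem x (hC x hx)).1
  have hinj : ∀ x ∈ S, ∀ y ∈ S, prj L W x = prj L W y → x = y := by
    intro x hx y hy e
    refine eq_of_add (hdis _ (hadd x hx y hy) ?_)
    have := D.L_add _ (D.prj_mem x (hC x hx)).2 _ (D.prj_mem y (hC y hy)).2
    rwa [e, show x + prj L W y + (y + prj L W y) = x + y + (prj L W y + prj L W y) by abel,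
      W8.add_self, add_zero] at this
  have hlin : ∀ x ∈ S, ∀ y ∈ S, prj L W (x + y) = prj L W x + prj L W y := by
    intro x hx y hy
    refine D.prj_eq (hC _ (hadd x hx y hy)) (D.prj_unique _ (hmem x hx) _ (hmem y hy)).1 ?_
    have := D.L_add _ (D.prj_mem x (hC x hx)).2 _ (D.prj_mem y (hC y hy)).2
    rwa [show x + prj L W x + (y + prj L W y) = x + y + (prj L W x + prj L W y) by abel] at this
  have hb : ∀ x ∈ S, ∀ y ∈ S, bb (prj L W x) (prj L W y) = false := by
    intro x hx y hy
    obtain ⟨h1, h2⟩ := D.prj_mem x (hC x hx)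
    obtain ⟨h3, h4⟩ := D.prj_mem y (hC y hy)
    have ha : bb (prj L W x) (prj L W y) = bb x (prj L W y) := by
      have := hperp _ h2 _ (D.W_sub _ h3)
      rw [bb_add_left] at this
      revert this
      cases bb x (prj L W y) <;> cases bb (prj L W x) (prj L W y) <;> simp
    have hb' : bb x (prj L W y) = bb x y := by
      have := hperp _ h4 _ (hC x hx)
      rw [bb_add_left, bb_comm y, bb_comm (prj L W y)] at this
      revert this
      cases bb x (prj L W y) <;> cases bb x y <;> simp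
    rw [ha, hb', hiso x hx y hy]
  refine ncard_le_four h0 hadd fun x hx y hy w hw => ?_
  have hz : prj L W 0 = 0 := by
    have h := hlin 0 h0 0 h0
    rw [add_zero] at h
    exact left_eq_add.1 h
  simp only [tsB, List.all_eq_true, Bool.or_eq_true, beq_iff_eq, hb x hx y hy, hb x hx w hw,
    hb y hy w hw, Bool.false_eq_true, false_or] at hts
  have := hts _ (hmem x hx) _ (hmem y hy) _ (hmem w hw)
  simp only [hb x hx y hy, hb x hx w hw, hb y hy w hw, Bool.false_eq_true, false_or] at this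
  rw [← hz, ← hlin x hx y hy] at this
  rcases this with ((((((e | e) | e) | e) | e) | e) | e)
  · exact Or.inl (hinj _ hx _ h0 e)
  · exact Or.inr (Or.inl (hinj _ hy _ h0 e))
  · exact Or.inr (Or.inr (Or.inl (hinj _ hx _ hy e)))
  · exact Or.inr (Or.inr (Or.inr (Or.inl (hinj _ hw _ h0 e))))
  · exact Or.inr (Or.inr (Or.inr (Or.inr (Or.inl (hinj _ hw _ hx e)))))
  · exact Or.inr (Or.inr (Or.inr (Or.inr (Or.inr (Or.inl (hinj _ hw _ hy e))))))
  · exact Or.inr (Or.inr (Or.inr (Or.inr (Or.inr (Or.inr (hinj _ hw _ (hadd x hx y hy) e))))))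

end Split

end Cfsg.Agent.ThreeTransp.U62Cent
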