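import Cfsg.Agent.Lib.ThreeTransp.U62Cent.Lin

/-!
# Groups of isometries of the bit space
-/

set_option autoImplicit false
set_option maxRecDepth 100000

namespace Cfsg.Agent.ThreeTransp.U62Cent

open W8

/-- the isometries of the natural module -/
def GN : Subgroup (Equiv.Perm W8) where
  carrier := {g | IsIso true true g}
  one_mem' := ⟨fun _ _ => rfl, fun _ => rfl, fun _ _ => rfl⟩
  mul_mem' := fun hg hh => hg.comp hh
  inv_mem' := by
    intro g hg
    refine ⟨fun v w => g.injective ?_, fun v => ?_, fun hs v => g.injective ?_⟩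
    · rw [hg.add]; simp
    · conv_rhs => rw [← Equiv.apply_symm_apply g v, hg.q]
      rfl
    · rw [hg.sig hs]; simp

/-- the isometries of the split module, fixing the last plane pointwise -/
def GS (e : Bool) : Subgroup (Equiv.Perm W8) where
  carrier := {g | IsIso e false g ∧ g (W8.e 6) = W8.e 6 ∧ g (W8.e 7) = W8.e 7}
  one_mem' := ⟨⟨fun _ _ => rfl, fun _ => rfl, fun h => absurd h (by decide)⟩, rfl, rfl⟩
  mul_mem' := by
    rintro g h ⟨hg, g6, g7⟩ ⟨hh, h6, h7⟩
    exact ⟨hg.comp hh, by simp [h6, g6], by simp [h7, g7]⟩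
  inv_mem' := by
    rintro g ⟨hg, g6, g7⟩
    refine ⟨⟨fun v w => g.injective ?_, fun v => ?_, fun hs => absurd hs (by decide)⟩, ?_, ?_⟩
    · rw [hg.add]; simp
    · conv_rhs => rw [← Equiv.apply_symm_apply g v, hg.q]
      rfl
    · conv_lhs => rw [← g6]
      simp
    · conv_lhs => rw [← g7]
      simp

/-- the reflection in a vector -/
def rfx (r v : W8) : W8 := v + if bb v r then r else 0

/-- the transvection at an isotropic vector -/
def tv (p v : W8) : W8 := v + (if bb v p then W8.sig p else 0) + if bb v (W8.sig p) then p else 0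

theorem rfx_add (r v w : W8) : rfx r (v + w) = rfx r v + rfx r w := by
  simp only [rfx, bb_add_left]
  rw [add_add_add_comm]
  cases bb v r <;> cases bb w r <;> simp [add_self]

theorem tv_add (p v w : W8) : tv p (v + w) = tv p v + tv p w := by
  simp only [tv, bb_add_left]
  rw [show (v + (if bb v p then W8.sig p else 0) + (if bb v (W8.sig p) then p else 0)) +
      (w + (if bb w p then W8.sig p else 0) + (if bb w (W8.sig p) then p else 0)) =
      (v + w) + ((if bb v p then W8.sig p else 0) + (if bb w p then W8.sig p else 0)) +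
        ((if bb v (W8.sig p) then p else 0) + (if bb w (W8.sig p) then p else 0)) by abel]
  cases bb v p <;> cases bb w p <;> cases bb v (W8.sig p) <;> cases bb w (W8.sig p) <;> simp [add_self]

theorem rfx_inv (r v : W8) : rfx r (rfx r v) = v := by
  unfold rfx
  cases h : bb v r <;> simp [h, bb_add_left, bb_self, add_assoc, add_self]

theorem rfx_q {e : Bool} {r : W8} (hr : qe e r = true) (v : W8) : qe e (rfx r v) = qe e v := by
  simp only [rfx]
  cases h : bb v r
  · simp
  · simp [qe_add, hr, h]

/-- A transvection commutes with the passage to the image point. -/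
theorem tv_conj {g : W8 → W8} (hg : IsIso true true g) (p v : W8) : g (tv p v) = tv (g p) (g v) := by
  simp only [tv, hg.add, ← hg.sig rfl, hg.bb]
  cases bb v p <;> cases bb v (W8.sig p) <;> simp [hg.map_zero]

theorem rfx_conj {e sg : Bool} {g : W8 → W8} (hg : IsIso e sg g) (r v : W8) :
    g (rfx r v) = rfx (g r) (g v) := by
  simp only [rfx, hg.add, hg.bb]
  cases bb v r <;> simp [hg.map_zero]

/-- Bounding a group of isometries by the orbit of one vector and the completions of a basis. -/
theorem card_le_of_search {P : Subgroup (Equiv.Perm W8)} {e sg : Bool}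
    (hP : ∀ g ∈ P, IsIso e sg g) (v : W8) (O : List W8) (hO : ∀ g ∈ P, g v ∈ O)
    (l : List (W8 × List W8)) (hl : ∀ u ∈ basis, u ∈ span (det sg (l.map Prod.fst)))
    (hc : ∀ g ∈ P, g v = v → ∀ p ∈ l, g p.1 ∈ p.2) :
    Nat.card P ≤ O.length * (search e sg l).length := by
  classical
  let S : Subgroup P := MulAction.stabilizer P v
  have h1 : S.index ≤ O.length := by
    rw [MulAction.index_stabilizer]
    calc (MulAction.orbit P v).ncard ≤ (↑O.toFinset : Set W8).ncard := by
          refine Set.ncard_le_ncard ?_ (Set.toFinite _)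
          rintro _ ⟨g, rfl⟩
          exact List.mem_toFinset.2 (hO g g.2)
      _ ≤ O.length := by rw [Set.ncard_coe_finset]; exact O.toFinset_card_le
  have h2 : Nat.card S ≤ (search e sg l).length := by
    have hm : ∀ g : S, (l.map Prod.fst).map ((g : P) : Equiv.Perm W8) ∈ (search e sg l).toFinset :=
      fun g => List.mem_toFinset.2 (search_sound (hP _ (g : P).2) (hc _ (g : P).2 g.2))
    refine (Nat.card_le_card_of_injective (fun g : S => (⟨_, hm g⟩ : (search e sg l).toFinset))
      fun g g' h => Subtype.ext (Subtype.ext (Equiv.coe_fn_injective ?_))).trans ?_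
    · exact (hP _ (g : P).2).ext_det (hP _ (g' : P).2) hl (congrArg Subtype.val h)
    · rw [Nat.card_eq_fintype_card, Fintype.card_coe]
      exact (search e sg l).toFinset_card_le
  rw [← S.card_mul_index, mul_comm]
  exact Nat.mul_le_mul h1 h2

/-- A simple subgroup of small index is normal. -/
theorem normal_of_small_index {P : Type*} [Group P] [Finite P] (I : Subgroup P) [IsSimpleGroup I]
    (hi : I.index ≤ 3) (hI : 6 < Nat.card I) : I.Normal := by
  classical
  haveI : Finite (P ⧸ I) := inferInstance
  set φ : I →* Equiv.Perm (P ⧸ I) := (MulAction.toPermHom P (P ⧸ I)).comp I.subtype with hφ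
  have hk : φ.ker = ⊤ := by
    refine φ.normal_ker.eq_bot_or_eq_top.resolve_left fun h => ?_
    have h1 := Nat.card_le_card_of_injective φ (φ.ker_eq_bot_iff.1 h)
    rw [Nat.card_perm] at h1
    have h2 : (Nat.card (P ⧸ I)).factorial ≤ Nat.factorial 3 := Nat.factorial_le hi
    have : Nat.factorial 3 = 6 := rfl
    omega
  refine ⟨fun n hn g => ?_⟩
  have h : φ ⟨n, hn⟩ = 1 := MonoidHom.mem_ker.1 (by rw [hk]; exact Subgroup.mem_top _)
  have h' := congrArg (fun σ : Equiv.Perm (P ⧸ I) => σ (g⁻¹ : P)) h
  simp [hφ, MulAction.toPermHom_apply, QuotientGroup.eq] at h'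
  have := I.inv_mem h'
  simpa [mul_assoc] using this

end Cfsg.Agent.ThreeTransp.U62Cent
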