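import Cfsg.Agent.Lib.ThreeTransp.U62Cent.Bits

/-!
# Linear maps of the bit space and a search for isometries with prescribed images
-/

set_option autoImplicit false
set_option maxRecDepth 100000

namespace Cfsg.Agent.ThreeTransp.U62Cent

namespace W8

/-- composition -/
def mulM (M K : List W8) : List W8 := K.map (app M)

theorem app_mulM (M K : List W8) (v : W8) : app (mulM M K) v = app M (app K v) :=
  appFrom_map (app_add M) K 0 v

theorem app_map_basis {f : W8 → W8} (hf : ∀ v w, f (v + w) = f v + f w) (v : W8) :
    app (basis.map f) v = f v := (eq_app hf v).symm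

/-- an additive isometry, commuting with the scalar if `sg` -/
structure IsIso (e sg : Bool) (g : W8 → W8) : Prop where
  add : ∀ v w, g (v + w) = g v + g w
  q : ∀ v, qe e (g v) = qe e v
  sig : sg = true → ∀ v, g (sig v) = W8.sig (g v)

namespace IsIso

variable {e sg : Bool} {g g' : W8 → W8}

theorem map_zero (h : IsIso e sg g) : g 0 = 0 := additive_zero h.add

theorem bb (h : IsIso e sg g) (v w : W8) : W8.bb (g v) (g w) = W8.bb v w := by
  have h1 := qe_add e (g v) (g w)
  rw [← h.add, h.q, h.q, h.q, qe_add e v w] at h1
  exact (Bool.xor_right_inj.1 h1).symm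

theorem comp (h : IsIso e sg g) (h' : IsIso e sg g') : IsIso e sg (fun v => g (g' v)) :=
  ⟨fun v w => by simp only [h'.add, h.add], fun v => by simp only [h.q, h'.q],
    fun hs v => by simp only [h'.sig hs, h.sig hs]⟩

theorem injective (h : IsIso e sg g) : Function.Injective g := by
  intro v w hvw
  refine eq_of_add ((bb_nondeg (v + w)).resolve_right ?_)
  rintro ⟨u, -, hu⟩
  rw [← h.bb, h.add, hvw, add_self, bb_zero_left] at hu
  exact absurd hu (by decide)

theorem bijective (h : IsIso e sg g) : Function.Bijective g :=
  Finite.injective_iff_bijective.1 h.injective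

end IsIso

/-- `w` may be the image of `v`, given the pairs chosen so far -/
def compat (e sg : Bool) (v w : W8) (done : List (W8 × W8)) : Bool :=
  (qe e w == qe e v) && done.all fun p =>
    (bb w p.2 == bb v p.1) && (!sg || bb (sig w) p.2 == bb (sig v) p.1)

/-- all consistent choices of images -/
def search (e sg : Bool) : List (W8 × List W8) → List (List W8)
  | [] => [[]]
  | (v, S) :: rest => (search e sg rest).flatMap fun ws =>
      (S.filter fun w => compat e sg v w ((rest.map Prod.fst).zip ws)).map (· :: ws)

theorem search_sound {e sg : Bool} {g : W8 → W8} (hg : IsIso e sg g) :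
    ∀ {l : List (W8 × List W8)}, (∀ p ∈ l, g p.1 ∈ p.2) →
      (l.map Prod.fst).map g ∈ search e sg l
  | [], _ => List.mem_singleton.2 rfl
  | (v, S) :: rest, h => by
    have ih := search_sound hg (l := rest) fun p hp => h p (List.mem_cons_of_mem _ hp)
    simp only [search, List.mem_flatMap, List.mem_map, List.mem_filter, List.map_cons]
    refine ⟨_, ih, g v, ⟨h _ List.mem_cons_self, ?_⟩, by simp [List.map_map]⟩
    simp only [compat, hg.q, beq_self_eq_true, Bool.true_and, List.all_eq_true]
    intro p hp
    rw [List.zip_map_right] at hp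
    obtain ⟨⟨a, b⟩, hab, rfl⟩ := List.mem_map.1 hp
    have hab' : a = b := by
      rw [List.zip_eq_zipWith, List.zipWith_self] at hab
      obtain ⟨c, -, hc⟩ := List.mem_map.1 hab
      simp only [Prod.mk.injEq] at hc
      rw [← hc.1, ← hc.2]
    subst hab'
    cases sg
    · simp [hg.bb]
    · have e' := (hg.sig rfl v).symm
      simp only [Bool.not_true, Bool.false_or, Bool.and_eq_true, beq_iff_eq]
      exact ⟨hg.bb _ _, by rw [e']; exact hg.bb _ _⟩

/-- the span of a list -/
def span : List W8 → List W8
  | [] => [0]
  | v :: l => span l ++ (span l).map (v + ·)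

theorem eq_on_span {f g : W8 → W8} (hf : ∀ v w, f (v + w) = f v + f w)
    (hg : ∀ v w, g (v + w) = g v + g w) :
    ∀ {l : List W8}, (∀ v ∈ l, f v = g v) → ∀ v ∈ span l, f v = g v
  | [], _, v, hv => by
    rw [List.mem_singleton.1 hv, additive_zero hf, additive_zero hg]
  | a :: l, h, v, hv => by
    have ih := eq_on_span hf hg (l := l) fun u hu => h u (List.mem_cons_of_mem _ hu)
    rcases List.mem_append.1 hv with hv | hv
    · exact ih v hv
    · obtain ⟨u, hu, rfl⟩ := List.mem_map.1 hv
      rw [hf, hg, h a List.mem_cons_self, ih u hu]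

/-- Two additive maps agreeing on a spanning list are equal. -/
theorem eq_of_spanning {f g : W8 → W8} (hf : ∀ v w, f (v + w) = f v + f w)
    (hg : ∀ v w, g (v + w) = g v + g w) {l : List W8} (hl : ∀ u ∈ basis, u ∈ span l)
    (h : l.map f = l.map g) : f = g := by
  have h' : ∀ v ∈ l, f v = g v := List.map_inj_left.1 h
  funext v
  exact basis_add v hf hg fun u hu => eq_on_span hf hg h' u (hl u hu)

/-- the vectors on which an isometry is determined by its values on a list -/
def det (sg : Bool) (l : List W8) : List W8 := if sg then l ++ l.map sig else l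

/-- Two isometries agreeing on a list determining everything are equal. -/
theorem IsIso.ext_det {e sg : Bool} {f g : W8 → W8} (hf : IsIso e sg f) (hg : IsIso e sg g)
    {l : List W8} (hl : ∀ u ∈ basis, u ∈ span (det sg l)) (h : l.map f = l.map g) : f = g := by
  refine eq_of_spanning hf.add hg.add hl ?_
  cases sg
  · exact h
  · simp only [det, if_true, List.map_append, List.map_map, h]
    refine congrArg _ (List.map_congr_left fun v hv => ?_)
    show f (W8.sig v) = g (W8.sig v)
    rw [hf.sig rfl, hg.sig rfl, List.map_inj_left.1 h v hv]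

end W8

end Cfsg.Agent.ThreeTransp.U62Cent
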