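import Cfsg.Agent.Lib.SuzukiType.Isometry

/-!
# Monomial elements of `Ω₆⁻(2)`

Rotations of three orthogonal elliptic planes, a double flip, the cyclic permutation of the planes
and one more element of order three commuting with the product of the rotations.
-/

set_option autoImplicit false
set_option maxRecDepth 100000
set_option synthInstance.maxSize 4096
set_option synthInstance.maxHeartbeats 200000

namespace Cfsg.Agent.ThreeTransp.U62Cent.Om

open Cfsg.Agent.SuzukiType Cfsg.Agent.OctadInv.Orbits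

/-- the composite of the reflections -/
def wR : List V → V → V
  | [], v => v
  | r :: l, v => R r (wR l v)

/-- the product of the reflections -/
noncomputable def wO : List V → O6
  | [] => 1
  | r :: l => rfl' r * wO l

theorem act_wO : ∀ {l : List V}, (∀ r ∈ l, qf r = 1) → ∀ v, act (wO l) v = wR l v
  | [], _, v => act_one v
  | r :: l, h, v => by
    rw [wO, act_mul, act_rfl' (h r List.mem_cons_self),
      act_wO (fun s hs => h s (List.mem_cons_of_mem _ hs))]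
    rfl

theorem wO_append : ∀ l m : List V, wO (l ++ m) = wO l * wO m
  | [], m => (one_mul _).symm
  | r :: l, m => by rw [List.cons_append, wO, wO_append l m, wO, mul_assoc]

theorem wO_mem : ∀ {l : List V}, (∀ r ∈ l, qf r = 1) → l.length % 2 = 0 →
    wO l ∈ Cfsg.Omega (ZMod 2) ⇑F6
  | [], _, _ => one_mem _
  | [r], _, h => absurd h (by simp)
  | r :: s :: l, h, hl => by
    rw [wO, wO, ← mul_assoc]
    exact mul_mem (pair_mem (h r (by simp)) (h s (by simp)))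
      (wO_mem (fun t ht => h t (by simp [ht])) (by
        simp only [List.length_cons] at hl
        omega))

def la : List V := [mk 0 0 1 1 0 0, mk 1 1 0 1 0 0]
def lb : List V := [mk 0 1 1 1 0 0, mk 1 0 1 1 0 0]
def lc : List V := [mk 0 0 0 0 1 0, mk 0 0 0 0 0 1]
def lf : List V := [mk 1 1 1 0 0 0, mk 1 1 0 0 0 0]
def ly : List V := [mk 1 0 1 0 1 1, mk 1 0 0 1 0 1, mk 0 1 0 1 1 0, mk 0 0 0 1 1 0]
def lg : List V := [mk 1 0 0 0 1 0, mk 0 0 0 1 0 1]

/-- the generators -/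
def gen : ℕ → List V := fun i => [la, lb, lc, lf, ly, lg].getD i []

theorem gen_ok : ∀ i < 6, (∀ r ∈ gen i, qf r = 1) ∧ (gen i).length % 2 = 0 := by decide +kernel

/-- an element as a member of `Ω` -/
noncomputable def el (i : ℕ) (hi : i < 6) : ↥(Cfsg.Omega (ZMod 2) ⇑F6) :=
  ⟨wO (gen i), wO_mem (gen_ok i hi).1 (gen_ok i hi).2⟩

noncomputable def a := el 0 (by norm_num)
noncomputable def b := el 1 (by norm_num)
noncomputable def c := el 2 (by norm_num)
noncomputable def f := el 3 (by norm_num)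
noncomputable def y := el 4 (by norm_num)
noncomputable def g := el 5 (by norm_num)

/-- code of a vector -/
def cd (v : V) : ℕ :=
  (x1 v).val + 2 * (y1 v).val + 4 * (x2 v).val + 8 * (y2 v).val + 16 * (za v).val + 32 * (zb v).val

/-- the polar form on codes -/
def bN (v w : ℕ) : Bool :=
  ((v &&& 1) * (w >>> 1 &&& 1) + (v >>> 1 &&& 1) * (w &&& 1) + (v >>> 2 &&& 1) * (w >>> 3 &&& 1) +
    (v >>> 3 &&& 1) * (w >>> 2 &&& 1) + (v >>> 4 &&& 1) * (w >>> 5 &&& 1) +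
    (v >>> 5 &&& 1) * (w >>> 4 &&& 1)) % 2 == 1

/-- the form on codes -/
def qN (v : ℕ) : Bool :=
  ((v &&& 1) * (v >>> 1 &&& 1) + (v >>> 2 &&& 1) * (v >>> 3 &&& 1) + (v >>> 4 &&& 1) +
    (v >>> 5 &&& 1) + (v >>> 4 &&& 1) * (v >>> 5 &&& 1)) % 2 == 1

/-- the reflection on codes -/
def RN (r v : ℕ) : ℕ := if bN r v then v ^^^ r else v

theorem cd_R : ∀ r v : V, cd (R r v) = RN (cd r) (cd v) := by decide +kernel

theorem cd_inj : ∀ v w : V, cd v = cd w → v = w := by decide +kernel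

theorem cd_add : ∀ v w : V, cd (v + w) = cd v ^^^ cd w := by decide +kernel

/-- composites on codes -/
def wN : List ℕ → ℕ → ℕ
  | [], v => v
  | r :: l, v => RN r (wN l v)

theorem cd_wR : ∀ (l : List V) (v : V), cd (wR l v) = wN (l.map cd) (cd v)
  | [], _ => rfl
  | r :: l, v => by rw [wR, cd_R, cd_wR l v]; rfl

theorem cd_lt : ∀ v : V, cd v < 64 := by decide +kernel

theorem eq_of_wN {l m : List V} (h : ∀ n < 64, wN (l.map cd) n = wN (m.map cd) n) :
    ∀ v, wR l v = wR m v := fun v => cd_inj _ _ (by rw [cd_wR, cd_wR]; exact h _ (cd_lt v))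

theorem eq_of_wR {l m : List V} (hl : ∀ r ∈ l, qf r = 1) (hm : ∀ r ∈ m, qf r = 1)
    (h : ∀ v, wR l v = wR m v) : wO l = wO m :=
  ext_act fun v => by rw [act_wO hl, act_wO hm, h v]

theorem rel {l m : List V}
    (h : (∀ r ∈ l, qf r = 1) ∧ (∀ r ∈ m, qf r = 1) ∧ ∀ n < 64, wN (l.map cd) n = wN (m.map cd) n) :
    wO l = wO m := eq_of_wR h.1 h.2.1 (eq_of_wN h.2.2)

/-- the relations -/
theorem rels : (a * a * a = 1 ∧ b * b * b = 1 ∧ c * c * c = 1) ∧
    (a * b = b * a ∧ a * c = c * a ∧ b * c = c * b) ∧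
    (f * a = a * a * f ∧ f * b = b * b * f ∧ f * c = c * f) ∧
    (y * a = b * y ∧ y * b = c * y ∧ y * c = a * y) ∧
    (g * g * g = 1 ∧ g * (a * b * c) = a * b * c * g) ∧ a ≠ 1 := by
  refine ⟨?_, ?_, ?_, ?_, ?_, fun h => ?_⟩
  iterate 4
    (refine ⟨?_, ?_, ?_⟩ <;> apply Subtype.ext <;>
      (simp only [a, b, c, f, y, g, el, Subgroup.coe_mul, ← wO_append, OneMemClass.coe_one]
       first
         | exact rel (by decide +kernel)
         | exact (rel (m := []) (by decide +kernel))))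
  · refine ⟨?_, ?_⟩ <;> apply Subtype.ext <;>
      (simp only [a, b, c, g, el, Subgroup.coe_mul, ← wO_append, OneMemClass.coe_one]
       first
         | exact rel (by decide +kernel)
         | exact (rel (m := []) (by decide +kernel)))
  · have h' := congrArg (fun A : ↥(Cfsg.Omega (ZMod 2) ⇑F6) => act (A : O6) (mk 0 0 1 1 0 0)) h
    simp only [a, el, OneMemClass.coe_one, act_one] at h'
    rw [act_wO (gen_ok 0 (by norm_num)).1] at h'
    have h'' := congrArg cd h'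
    rw [cd_wR] at h''
    revert h''
    decide +kernel

/-- words carrying the first elliptic plane to every elliptic plane -/
def words : List (List ℕ) :=
  [[], [4], [5], [4, 4], [5, 4], [0, 5], [1, 5], [2, 5], [3, 5], [5, 5], [5, 4, 4], [3, 5, 4], [5, 5, 4], [2, 0, 5], [3, 0, 5], [3, 1, 5], [3, 2, 5], [0, 3, 5], [1, 3, 5], [4, 3, 5], [5, 3, 5], [3, 5, 4, 4], [1, 3, 5, 4], [4, 3, 5, 4], [5, 3, 5, 4], [4, 3, 0, 5], [5, 3, 0, 5], [4, 3, 1, 5], [5, 3, 1, 5], [4, 3, 2, 5], [5, 3, 2, 5], [4, 0, 3, 5], [5, 0, 3, 5], [4, 1, 3, 5], [5, 1, 3, 5], [3, 4, 3, 5], [5, 4, 3, 5], [0, 5, 3, 5], [1, 5, 3, 5], [2, 5, 3, 5], [5, 5, 3, 5], [4, 3, 5, 4, 4], [5, 3, 5, 4, 4], [4, 1, 3, 5, 4], [5, 1, 3, 5, 4], [3, 4, 3, 5, 4], [5, 4, 3, 5, 4], [0, 5, 3, 5, 4], [1, 5, 3, 5, 4], [2, 5, 3, 5, 4], [5, 5, 3, 5, 4], [3, 4, 3, 0, 5], [4, 4, 3, 0, 5], [5, 4, 3, 0, 5], [0, 5, 3, 0, 5], [1, 5, 3, 0, 5], [2, 5, 3, 0, 5], [3, 5, 3, 0, 5], [5,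 5, 3, 0, 5], [4, 4, 3, 1, 5], [5, 4, 3, 1, 5], [0, 5, 3, 1, 5], [1, 5, 3, 1, 5], [2, 5, 3, 1, 5], [3, 5, 3, 1, 5], [5, 5, 3, 1, 5], [5, 4, 3, 2, 5], [0, 5, 3, 2, 5], [1, 5, 3, 2, 5], [2, 5, 3, 2, 5], [3, 5, 3, 2, 5], [5, 5, 3, 2, 5], [3, 4, 0, 3, 5], [4, 4, 0, 3, 5], [5, 4, 0, 3, 5], [0, 5, 0, 3, 5], [1, 5, 0, 3, 5], [2, 5, 0, 3, 5], [3, 5, 0, 3, 5], [5, 5, 0, 3, 5], [4, 4, 1, 3, 5], [5, 4, 1, 3, 5], [0, 5, 1, 3, 5], [1, 5, 1, 3, 5], [2, 5, 1, 3, 5], [5, 5, 1, 3, 5], [5, 3, 4, 3, 5], [0, 5, 4, 3, 5], [5, 5, 4, 3, 5], [0, 0, 5, 3, 5], [2, 0, 5, 3, 5], [3, 0, 5, 3, 5], [1, 1, 5, 3, 5], [2, 1, 5, 3, 5], [4, 5, 5, 3, 5], [3, 4, 3, 5, 4, 4], [0, 5, 3, 5, 4, 4], [1, 5, 3, 5, 4, 4], [5, 5, 3, 5, 4, 4], [5, 4, 1, 3, 5, 4], [0, 5, 1, 3, 5, 4], [1, 5, 1, 3, 5, 4], [2, 5, 1, 3, 5, 4], [5, 5, 1, 3, 5, 4], [5, 3, 4, 3, 5, 4], [5, 5, 4, 3, 5, 4], [2, 0, 5, 3, 5, 4], [1, 1, 5, 3, 5, 4], [2, 1, 5, 3, 5, 4], [3, 5, 5, 3, 5, 4],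 [5, 3, 4, 3, 0, 5], [5, 4, 4, 3, 0, 5], [2, 0, 5, 3, 0, 5], [1, 3, 5, 3, 0, 5], [5, 5, 4, 3, 1, 5], [1, 1, 5, 3, 1, 5], [5, 3, 4, 0, 3, 5], [5, 4, 4, 0, 3, 5], [5, 4, 4, 1, 3, 5], [0, 0, 5, 1, 3, 5]]

/-- the action of a word -/
def wG : List ℕ → V → V
  | [], v => v
  | i :: l, v => wR (gen i) (wG l v)

/-- the word action on codes -/
def gN (i v : ℕ) : ℕ := wN ((gen i).map cd) v

/-- the word action on codes -/
def wGN : List ℕ → ℕ → ℕ
  | [], v => v
  | i :: l, v => gN i (wGN l v)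

theorem cd_wG : ∀ (w : List ℕ) (v : V), cd (wG w v) = wGN w (cd v)
  | [], _ => rfl
  | i :: l, v => by rw [wG, cd_wR, cd_wG l v]; rfl

theorem reachN : ∀ r < 64, ∀ s < 64, bN r s = true →
    qN r = true → qN s = true → ∃ w ∈ words, (∀ i ∈ w, i < 6) ∧
      (wGN w 12 = r ∨ wGN w 12 = s ∨ wGN w 12 = r ^^^ s) ∧
      (wGN w 11 = r ∨ wGN w 11 = s ∨ wGN w 11 = r ^^^ s) := by decide +kernel

theorem cd_qf : ∀ v : V, qf v = 1 → qN (cd v) = true := by decide +kernel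

theorem cd_bf : ∀ v w : V, bf v w = 1 → bN (cd v) (cd w) = true := by decide +kernel

theorem reach (r s : V) (hr : qf r = 1) (hs : qf s = 1) (hrs : bf r s = 1) : ∃ w ∈ words,
    (∀ i ∈ w, i < 6) ∧ (wG w (mk 0 0 1 1 0 0) = r ∨ wG w (mk 0 0 1 1 0 0) = s ∨ wG w (mk 0 0 1 1 0 0) = r + s) ∧
      (wG w (mk 1 1 0 1 0 0) = r ∨ wG w (mk 1 1 0 1 0 0) = s ∨ wG w (mk 1 1 0 1 0 0) = r + s) := by
  obtain ⟨w, hw, h6, hx, hy⟩ := reachN _ (cd_lt r) _ (cd_lt s) (cd_bf r s hrs) (cd_qf r hr) (cd_qf s hs)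
  have e12 : cd (mk 0 0 1 1 0 0) = 12 := by decide +kernel
  have e11 : cd (mk 1 1 0 1 0 0) = 11 := by decide +kernel
  refine ⟨w, hw, h6, ?_, ?_⟩
  · rw [← e12, ← cd_wG, ← cd_add] at hx
    exact hx.imp (cd_inj _ _) (Or.imp (cd_inj _ _) (cd_inj _ _))
  · rw [← e11, ← cd_wG, ← cd_add] at hy
    exact hy.imp (cd_inj _ _) (Or.imp (cd_inj _ _) (cd_inj _ _))

theorem qN_iff : ∀ v : V, qN (cd v) = true → qf v = 1 := by decide +kernel

theorem bN_iff : ∀ v w : V, bN (cd v) (cd w) = true → bf v w = 1 := by decide +kernel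

theorem linkN : ∀ r < 64, ∀ s < 64, qN r = true → qN s = true → bN r s = false → r ≠ s →
    ∃ t < 64, qN t = true ∧ bN r t = true ∧ bN t s = true := by decide +kernel

theorem cd_surj : ∀ n < 64, ∃ v : V, cd v = n := by decide +kernel

theorem link (r s : V) (hr : qf r = 1) (hs : qf s = 1) (hrs : bf r s = 0) (hne : r ≠ s) :
    ∃ t, qf t = 1 ∧ bf r t = 1 ∧ bf t s = 1 := by
  obtain ⟨n, hn, h1, h2, h3⟩ := linkN _ (cd_lt r) _ (cd_lt s) (cd_qf r hr) (cd_qf s hs)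
    (Bool.eq_false_iff.2 fun h => by rw [bN_iff r s h] at hrs; exact one_ne_zero hrs)
    (fun h => hne (cd_inj _ _ h))
  obtain ⟨t, rfl⟩ := cd_surj n hn
  exact ⟨t, qN_iff t h1, bN_iff r t h2, bN_iff t s h3⟩

theorem triN : ∀ r < 64, ∀ s < 64, qN r = true → qN s = true → bN r s = true →
    qN (r ^^^ s) = true ∧ ∀ n < 64, wN [r, s] n = wN [s, r ^^^ s] n := by decide +kernel

theorem tri (r s : V) (hr : qf r = 1) (hs : qf s = 1) (hrs : bf r s = 1) :
    qf (r + s) = 1 ∧ ∀ v, R r (R s v) = R s (R (r + s) v) := by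
  obtain ⟨h1, h2⟩ := triN _ (cd_lt r) _ (cd_lt s) (cd_qf r hr) (cd_qf s hs) (cd_bf r s hrs)
  exact ⟨qN_iff _ (by rw [cd_add]; exact h1),
    eq_of_wN (l := [r, s]) (m := [s, r + s]) (by simp only [List.map, cd_add]; exact h2)⟩

set_option maxHeartbeats 1600000 in
/-- The elements generate. -/
theorem gen_top : Subgroup.closure {a, b, c, f, y, g} = (⊤ : Subgroup ↥(Cfsg.Omega (ZMod 2) ⇑F6)) := by
  set H := Subgroup.closure {a, b, c, f, y, g} with hH
  have hel : ∀ i (hi : i < 6), el i hi ∈ H := by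
    intro i hi
    apply Subgroup.subset_closure
    interval_cases i <;> simp [a, b, c, f, y, g]
  set H' := H.map (Cfsg.Omega (ZMod 2) ⇑F6).subtype with hH'
  have hgen : ∀ i < 6, wO (gen i) ∈ H' := fun i hi => ⟨el i hi, hel i hi, rfl⟩
  -- conjugates of the first rotation
  have hw : ∀ w : List ℕ, (∀ i ∈ w, i < 6) → ∃ A ∈ H', ∀ v, act A v = wG w v := by
    intro w
    induction w with
    | nil => exact fun _ => ⟨1, one_mem _, act_one⟩
    | cons i w ih =>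
      intro h
      obtain ⟨A, hA, hA'⟩ := ih fun j hj => h j (List.mem_cons_of_mem _ hj)
      have hi := h i List.mem_cons_self
      exact ⟨_, mul_mem (hgen i hi) hA, fun v => by rw [act_mul, act_wO (gen_ok i hi).1, hA']; rfl⟩
  have hconj : ∀ (A : O6) (r : V), qf r = 1 → A * rfl' r * A⁻¹ = rfl' (act A r) := by
    intro A r hr
    refine ext_act fun v => ?_
    rw [act_mul, act_mul, act_rfl' hr, act_rfl' (by rw [act_qf, hr]), R, R, act_add, act_sm,
      ← act_mul A A⁻¹, mul_inv_cancel, act_one]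
    congr 2
    rw [← act_bf A r, ← act_mul A A⁻¹, mul_inv_cancel, act_one]
  have hone : ∀ r s : V, qf r = 1 → qf s = 1 → bf r s = 1 → rfl' r * rfl' s ∈ H' := by
    intro r s hr hs hrs
    have htri : ∀ r s : V, qf r = 1 → qf s = 1 → bf r s = 1 →
        rfl' r * rfl' s = rfl' s * rfl' (r + s) := by
      intro r s hr hs hrs
      refine ext_act fun v => ?_
      rw [act_mul, act_mul, act_rfl' hr, act_rfl' hs, act_rfl' hs, act_rfl' (tri r s hr hs hrs).1,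
        (tri r s hr hs hrs).2 v]
    obtain ⟨w, -, hw6, hx, hy⟩ := reach r s hr hs hrs
    obtain ⟨A, hA, hA'⟩ := hw w hw6
    have hq0 : qf (mk 0 0 1 1 0 0) = 1 ∧ qf (mk 1 1 0 1 0 0) = 1 := by decide +kernel
    have hrot : rfl' (wG w (mk 0 0 1 1 0 0)) * rfl' (wG w (mk 1 1 0 1 0 0)) ∈ H' := by
      rw [← hA', ← hA', ← hconj A _ hq0.1, ← hconj A _ hq0.2]
      have e : A * rfl' (mk 0 0 1 1 0 0) * A⁻¹ * (A * rfl' (mk 1 1 0 1 0 0) * A⁻¹) = A * wO la * A⁻¹ := by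
        simp only [la, wO, mul_one]; group
      rw [e]
      exact mul_mem (mul_mem hA (hgen 0 (by norm_num))) (inv_mem hA)
    have hswap : ∀ p q : V, rfl' q * rfl' p ∈ H' → rfl' p * rfl' q ∈ H' := by
      intro p q h
      have e : rfl' p * rfl' q = (rfl' q * rfl' p)⁻¹ := by
        refine eq_inv_of_mul_eq_one_left ?_
        rw [mul_assoc, ← mul_assoc (rfl' q), rfl'_sq, one_mul, rfl'_sq]
      rw [e]; exact inv_mem h
    have hne : wG w (mk 0 0 1 1 0 0) ≠ wG w (mk 1 1 0 1 0 0) := by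
      rw [← hA', ← hA']
      intro e
      have e' := congrArg (act A⁻¹) e
      rw [act_inv_self, act_inv_self] at e'
      revert e'; decide +kernel
    have e1 := htri r s hr hs hrs
    have e2 := htri s (r + s) hs (tri r s hr hs hrs).1 (by rw [bf_add_right, bf_self, add_zero, bf_comm, hrs])
    rw [show s + (r + s) = r by rw [add_comm r s, ← add_assoc, add_self_V, zero_add]] at e2
    rcases hx with hx | hx | hx <;> rcases hy with hy | hy | hy <;> rw [hx, hy] at hrot hne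
    · exact absurd rfl hne
    · exact hrot
    · exact e1.trans e2 ▸ hswap _ _ hrot
    · exact hswap _ _ hrot
    · exact absurd rfl hne
    · exact e1 ▸ hrot
    · rw [e1, e2]; exact hrot
    · rw [e1]; exact hswap _ _ hrot
    · exact absurd rfl hne
  have hall : ∀ r s : V, qf r = 1 → qf s = 1 → rfl' r * rfl' s ∈ H' := by
    intro r s hr hs
    rcases z2 (bf r s) with h | h
    · by_cases e : r = s
      · rw [e, rfl'_sq]; exact one_mem _
      · obtain ⟨t, ht, h1, h2⟩ := link r s hr hs h e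
        have := mul_mem (hone r t hr ht h1) (hone t s ht hs h2)
        rwa [mul_assoc, ← mul_assoc (rfl' t), rfl'_sq, one_mul] at this
    · exact hone r s hr hs h
  -- the pairs span a normal subgroup
  haveI := omega_simple
  set S : Set ↥(Cfsg.Omega (ZMod 2) ⇑F6) :=
    {x | ∃ r s, qf r = 1 ∧ qf s = 1 ∧ (x : O6) = rfl' r * rfl' s} with hS
  have hN : (Subgroup.closure S).Normal := by
    refine ⟨fun x hx k => ?_⟩
    have hle : (Subgroup.closure S).map (MulAut.conj k).toMonoidHom ≤ Subgroup.closure S := by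
      rw [MonoidHom.map_closure]
      refine Subgroup.closure_mono ?_
      rintro _ ⟨z, ⟨r, s, hr, hs, hz⟩, rfl⟩
      refine ⟨act (k : O6) r, act (k : O6) s, by rw [act_qf, hr], by rw [act_qf, hs], ?_⟩
      show (k : O6) * z * (k : O6)⁻¹ = _
      rw [hz, ← hconj _ r hr, ← hconj _ s hs]; group
    exact hle ⟨x, hx, rfl⟩
  have hbot : Subgroup.closure S ≠ ⊥ := by
    intro h
    have ha : a ∈ Subgroup.closure S := Subgroup.subset_closure
      ⟨mk 0 0 1 1 0 0, mk 1 1 0 1 0 0, by decide +kernel, by decide +kernel, by simp [a, el, gen, la, wO]⟩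
    rw [h, Subgroup.mem_bot] at ha
    exact rels.2.2.2.2.2 ha
  have htop := hN.eq_bot_or_eq_top.resolve_left hbot
  rw [eq_top_iff, ← htop, Subgroup.closure_le]
  rintro x ⟨r, s, hr, hs, hx⟩
  obtain ⟨z, hz, e⟩ := hall r s hr hs
  have : z = x := Subtype.ext (e.trans hx.symm)
  exact this ▸ hz

end Cfsg.Agent.ThreeTransp.U62Cent.Om
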