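import Cfsg.Agent.Lib.ThreeTransp.U62Cent.Idem
import Cfsg.Agent.Lib.ThreeTransp.U62Cent.Lin
import Cfsg.Agent.Lib.ThreeTransp.U62Cent.Omega

/-!
# Eight-dimensional orthogonal modules for `Ω₆⁻(2)`: auxiliary facts
-/

set_option autoImplicit false

namespace Cfsg.Agent.ThreeTransp.U62Cent

open W8

/-- the group acting -/
abbrev OmG : Type := ↥(Cfsg.Omega (ZMod 2) ⇑Cfsg.Agent.SuzukiType.F6)

/-- a quadratic space of order 256 with a faithful action of `Ω₆⁻(2)` -/
structure Mod (V : Type*) [AddCommGroup V] where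
  q : V → Bool
  b : V → V → Bool
  add_self : ∀ v : V, v + v = 0
  q_add : ∀ v w, q (v + w) = xor (xor (q v) (q w)) (b v w)
  b_add_left : ∀ u v w, b (u + v) w = xor (b u w) (b v w)
  b_comm : ∀ v w, b v w = b w v
  nondeg : ∀ v, (∀ w, b v w = false) → v = 0
  card : Nat.card V = 256
  ρ : OmG →* AddMonoid.End V
  q_inv : ∀ x v, q (ρ x v) = q v
  inj : ∀ x, ρ x = 1 → x = 1

namespace Mod

variable {V : Type*} [AddCommGroup V] (M : Mod V)

theorem b_add_right (u v w : V) : M.b u (v + w) = xor (M.b u v) (M.b u w) := by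
  rw [M.b_comm, M.b_add_left, M.b_comm v, M.b_comm w]

theorem b_self (v : V) : M.b v v = false := by
  have h := M.q_add v v
  have h0 := M.q_add 0 0
  rw [M.add_self v, Bool.xor_self, Bool.false_xor] at h
  rw [add_zero, Bool.xor_self, Bool.false_xor] at h0
  have hb : M.b (0 : V) 0 = false := by
    have h1 := M.b_add_left 0 0 0
    rw [add_zero, Bool.xor_self] at h1
    exact h1
  rw [← h, h0, hb]

theorem b_zero_left (v : V) : M.b 0 v = false := by
  have h := M.b_add_left 0 0 v
  rw [add_zero, Bool.xor_self] at h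
  exact h

theorem b_zero_right (v : V) : M.b v 0 = false := by rw [M.b_comm, M.b_zero_left]

theorem q_zero : M.q 0 = false := by
  have h := M.q_add 0 0
  rw [add_zero, Bool.xor_self, Bool.false_xor, M.b_zero_left] at h
  exact h

theorem b_inv (x : OmG) (v w : V) : M.b (M.ρ x v) (M.ρ x w) = M.b v w := by
  have h := M.q_add (M.ρ x v) (M.ρ x w)
  rw [← map_add, M.q_inv, M.q_inv, M.q_inv, M.q_add v w] at h
  exact (Bool.xor_right_inj.1 h).symm

include M in
theorem two (x : AddMonoid.End V) : x + x = 0 := AddMonoidHom.ext fun v => M.add_self (x v)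

/-- self-adjoint -/
def Sym (x : AddMonoid.End V) : Prop := ∀ v w, M.b (x v) w = M.b v (x w)

theorem Sym.mul {x y : AddMonoid.End V} (hx : M.Sym x) (hy : M.Sym y) (h : x * y = y * x) :
    M.Sym (x * y) := fun v w => by
  show M.b (x (y v)) w = M.b v (x (y w))
  rw [hx, hy, show y (x w) = (y * x) w from rfl, ← h]
  rfl

theorem Sym.add {x y : AddMonoid.End V} (hx : M.Sym x) (hy : M.Sym y) : M.Sym (x + y) := fun v w => by
  show M.b (x v + y v) w = M.b v (x w + y w)
  rw [M.b_add_left, M.b_add_right, hx, hy]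

theorem sym_one : M.Sym 1 := fun _ _ => rfl

theorem adj {x : OmG} (hx : x * x * x = 1) (v w : V) :
    M.b (M.ρ x v) w = M.b v (M.ρ (x * x) w) := by
  rw [← M.b_inv x v (M.ρ (x * x) w)]
  congr 1
  show w = (M.ρ x * M.ρ (x * x)) w
  rw [← map_mul, ← mul_assoc, hx, map_one]
  rfl

theorem sym_p0 {x : OmG} (hx : x * x * x = 1) : M.Sym (p0 (M.ρ x)) := fun v w => by
  have h2 : x * x * (x * x) = x := by rw [← mul_assoc, hx, one_mul]
  show M.b (v + M.ρ x v + (M.ρ x * M.ρ x) v) w = M.b v (w + M.ρ x w + (M.ρ x * M.ρ x) w)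
  rw [← map_mul, M.b_add_left, M.b_add_left, M.b_add_right, M.b_add_right, M.adj hx,
    M.adj (x := x * x) (by
      calc x * x * (x * x) * (x * x) = (x * x * x) * (x * x * x) := by simp only [mul_assoc]
        _ = 1 := by rw [hx, one_mul]), h2]
  cases M.b v w <;> cases M.b v (M.ρ (x * x) w) <;> cases M.b v (M.ρ x w) <;> rfl

theorem sym_p1 {x : OmG} (hx : x * x * x = 1) : M.Sym (p1 (M.ρ x)) := by
  have e : p1 (M.ρ x) = 1 + p0 (M.ρ x) := by
    simp only [p0, p1]
    rw [← add_assoc, ← add_assoc, M.two, zero_add]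
  rw [e]
  exact (M.sym_one).add M (M.sym_p0 hx)

/-- the range of an endomorphism -/
noncomputable def sz (x : AddMonoid.End V) : ℕ := Nat.card (Set.range x)

variable [Finite V]

theorem sz_pos (x : AddMonoid.End V) : 0 < sz x := Nat.card_pos

theorem sz_one : sz (1 : AddMonoid.End V) = Nat.card V :=
  Nat.card_congr ((Equiv.setCongr (Set.range_id)).trans (Equiv.Set.univ V))

include M in
theorem sz_split {x e : AddMonoid.End V} (he : e * e = e) (hc : e * x = x * e) :
    sz x = sz (e * x) * sz ((1 + e) * x) := by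
  rw [sz, sz, sz, ← Nat.card_prod]
  refine Nat.card_congr (Equiv.ofBijective
    (fun v : Set.range x => ((⟨e v, by
        obtain ⟨u, hu⟩ := v.2
        exact ⟨u, by show e (x u) = _; rw [hu]⟩⟩ : Set.range (⇑(e * x : AddMonoid.End V))),
      (⟨(1 + e) v, by
        obtain ⟨u, hu⟩ := v.2
        exact ⟨u, by show (1 + e) (x u) = _; rw [hu]⟩⟩ : Set.range (⇑((1 + e) * x : AddMonoid.End V))))) ⟨?_, ?_⟩)
  · intro v w h
    simp only [Prod.mk.injEq, Subtype.mk.injEq] at h
    obtain ⟨h1, h2⟩ := h
    apply Subtype.ext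
    have h3 : (v : V) + e v = (w : V) + e w := h2
    rw [h1] at h3
    exact add_right_cancel h3
  · rintro ⟨⟨_, u, rfl⟩, ⟨_, u', rfl⟩⟩
    have hee : ∀ y : V, e (e y) = e y := fun y => by
      show (e * e) y = e y
      rw [he]
    have hz : ∀ y : V, e ((1 + e) y) = 0 := fun y => by
      show e (y + e y) = 0
      rw [map_add, hee, M.add_self]
    refine ⟨⟨(e * x) u + ((1 + e) * x) u', e u + (1 + e) u', ?_⟩, ?_⟩
    · rw [map_add]
      show (x * e) u + (x * (1 + e)) u' = _
      rw [← hc, show x * (1 + e) = (1 + e) * x by rw [mul_add, add_mul, mul_one, one_mul, hc]]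
    · refine Prod.ext (Subtype.ext ?_) (Subtype.ext ?_)
      · show e (e (x u) + (1 + e) (x u')) = e (x u)
        rw [map_add, hee, hz, add_zero]
      · show (1 + e) (e (x u) + (1 + e) (x u')) = (1 + e) (x u')
        rw [map_add]
        show e (x u) + e (e (x u)) + ((1 + e) (x u') + e ((1 + e) (x u'))) = _
        rw [hee, hz, M.add_self, zero_add, add_zero]

theorem sz_conj {u x x' : AddMonoid.End V} (hu : Function.Bijective u) (h : u * x = x' * u) :
    sz x = sz x' := by
  rw [sz, sz, show (Set.range x' : Set V) = u '' Set.range x from ?_]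
  · exact (Nat.card_image_of_injective hu.1 _).symm
  · ext w
    constructor
    · rintro ⟨v, rfl⟩
      obtain ⟨v, rfl⟩ := hu.2 v
      exact ⟨x v, ⟨v, rfl⟩, congrArg (fun f : AddMonoid.End V => f v) h⟩
    · rintro ⟨_, ⟨v, rfl⟩, rfl⟩
      exact ⟨u v, (congrArg (fun f : AddMonoid.End V => f v) h).symm⟩

theorem ρ_bijective (x : OmG) : Function.Bijective (M.ρ x) := by
  refine Function.bijective_iff_has_inverse.2 ⟨M.ρ x⁻¹, fun v => ?_, fun v => ?_⟩
  · show (M.ρ x⁻¹ * M.ρ x) v = v
    rw [← map_mul, inv_mul_cancel, map_one]; rfl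
  · show (M.ρ x * M.ρ x⁻¹) v = v
    rw [← map_mul, mul_inv_cancel, map_one]; rfl

theorem eq_zero_of_sz {x : AddMonoid.End V} (h : sz x ≤ 1) : x = 0 := by
  refine AddMonoidHom.ext fun v => ?_
  haveI : Subsingleton (Set.range x) := Finite.card_le_one_iff_subsingleton.1 h
  exact congrArg Subtype.val
    (Subsingleton.elim (⟨x v, v, rfl⟩ : Set.range x) ⟨0, 0, map_zero x⟩)

include M in
/-- a nonzero space moved freely by an element of order three has at least four elements -/
theorem four_le {t e : AddMonoid.End V} (ht : t * t * t = 1) (hc : t * e = e * t)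
    (h0 : p0 t * e = 0) (he : e ≠ 0) : 4 ≤ sz e := by
  obtain ⟨v, hv⟩ : ∃ v, e v ≠ 0 := by
    by_contra h
    exact he (AddMonoidHom.ext fun v => not_not.1 fun hv => h ⟨v, hv⟩)
  set p := e v with hp
  have h3 : p + t p + t (t p) = 0 := congrArg (fun f : AddMonoid.End V => f v) h0
  have htt : t (t (t p)) = p := congrArg (fun f : AddMonoid.End V => f p) ht
  have ht1 : t p ≠ p := fun e' => hv (by rw [e', e', M.add_self, zero_add] at h3; exact h3)
  have ht0 : t p ≠ 0 := fun e' => hv (by rw [e', map_zero, map_zero] at htt; exact htt.symm)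
  have ht2 : t (t p) ≠ 0 := fun e' => hv (by rw [e', map_zero] at htt; exact htt.symm)
  have ht3 : t (t p) ≠ p := fun e' => ht1 (by rw [e'] at htt; exact htt)
  have ht4 : t (t p) ≠ t p := fun e' => ht3 (by
    have h := congrArg (fun u => t u) e'
    replace h : t (t (t p)) = t (t p) := h
    rw [htt] at h
    exact h.symm)
  have hm : ∀ u, t (e u) ∈ Set.range e := fun u =>
    ⟨t u, (congrArg (fun f : AddMonoid.End V => f u) hc).symm⟩
  obtain ⟨u, hu⟩ := hm v
  have hinj : Function.Injective (![(⟨0, 0, map_zero e⟩ : Set.range e), ⟨p, v, rfl⟩,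
      ⟨t p, hm v⟩, ⟨t (t p), by rw [← hu]; exact hm u⟩]) := by
    intro i j h
    have h' := congrArg Subtype.val h
    fin_cases i <;> fin_cases j <;> simp at h' ⊢ <;>
      first
        | exact hv h'.symm | exact hv h' | exact ht1 h' | exact ht1 h'.symm
        | exact ht0 h' | exact ht0 h'.symm | exact ht2 h' | exact ht2 h'.symm
        | exact ht3 h' | exact ht3 h'.symm | exact ht4 h' | exact ht4 h'.symm
  have := Nat.card_le_card_of_injective _ hinj
  rwa [Nat.card_eq_fintype_card, Fintype.card_fin] at this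

/-- A plane split off by a self-adjoint idempotent with four elements. -/
theorem plane_basis {e : AddMonoid.End V} (hee : e * e = e) (hs : M.Sym e) (h4 : sz e = 4) :
    ∃ p p', e p = p ∧ e p' = p' ∧ M.b p p' = true := by
  obtain ⟨v, hv⟩ : ∃ v, e v ≠ 0 := by
    by_contra h
    have h0 : e = 0 := AddMonoidHom.ext fun v => not_not.1 fun hv => h ⟨v, hv⟩
    have hle : sz (0 : AddMonoid.End V) ≤ 1 :=
      Finite.card_le_one_iff_subsingleton.2 ⟨fun a b => Subtype.ext
        (by obtain ⟨_, ha⟩ := a.2; obtain ⟨_, hb⟩ := b.2; rw [← ha, ← hb]; rfl)⟩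
    rw [h0] at h4
    omega
  set p := e v with hp
  have hep : e p = p := congrArg (fun f : AddMonoid.End V => f v) hee
  obtain ⟨w, hw⟩ : ∃ w, M.b p w = true := by
    by_contra h
    exact hv (M.nondeg p fun w => Bool.eq_false_iff.2 fun hw => h ⟨w, hw⟩)
  exact ⟨p, e w, hep, congrArg (fun f : AddMonoid.End V => f w) hee, by rw [← hs, hep]; exact hw⟩

/-- The form on a plane moved by an element of order three. -/
theorem plane_t {e : AddMonoid.End V} (hee : e * e = e) (hs : M.Sym e) (h4 : sz e = 4) {t : OmG}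
    (ht : t * t * t = 1) (hc : M.ρ t * e = e * M.ρ t) (h0 : p0 (M.ρ t) * e = 0) :
    ∃ p, e p = p ∧ e (M.ρ t p) = M.ρ t p ∧ M.b p (M.ρ t p) = true ∧ M.q p = true ∧
      M.q (M.ρ t p) = true ∧ M.ρ t (M.ρ t p) = M.ρ t p + p := by
  obtain ⟨p, p', hp, hp', hb⟩ := M.plane_basis hee hs h4
  set T := M.ρ t
  have hp0 : p ≠ 0 := fun h => by rw [h, M.b_zero_left] at hb; exact Bool.false_ne_true hb
  have h3 : p + T p + T (T p) = 0 := by
    have := congrArg (fun f : AddMonoid.End V => f p) h0
    simp only [p0] at this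
    rw [show ((1 + T + T * T) * e) p = e p + T (e p) + T (T (e p)) from rfl, hp] at this
    exact this
  have htt : T (T p) = T p + p := by
    rw [← sub_eq_zero, sub_eq_add_neg, neg_eq_of_add_eq_zero_left (M.add_self (T p + p)), ← h3]
    abel
  have heT : e (T p) = T p := by
    have := congrArg (fun f : AddMonoid.End V => f p) hc
    rw [show (T * e) p = T (e p) from rfl, show (e * T) p = e (T p) from rfl, hp] at this
    exact this.symm
  have hTp0 : T p ≠ 0 := fun h => hp0 (by rw [h, map_zero, zero_add] at htt; exact htt.symm)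
  have hTp : T p ≠ p := fun h => hp0 (by rw [h, h, M.add_self] at htt; exact htt)
  -- the plane is `{0, p, T p, p + T p}`
  have hb' : M.b p (T p) = true := by
    by_contra hcon
    rw [Bool.not_eq_true] at hcon
    have hinj : Function.Injective (![(⟨0, 0, map_zero e⟩ : Set.range e), ⟨p, p, hp⟩,
        ⟨T p, T p, heT⟩, ⟨p + T p, p + T p, by rw [map_add, hp, heT]⟩]) := by
      intro i j h
      have h' := congrArg Subtype.val h
      fin_cases i <;> fin_cases j <;> simp at h' ⊢ <;>
        first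
          | exact hp0 h' | exact hp0 h'.symm | exact hTp0 h' | exact hTp0 h'.symm
          | exact hTp h' | exact hTp h'.symm
          | exact hTp ((eq_neg_of_add_eq_zero_right h').trans (neg_eq_of_add_eq_zero_left (M.add_self p)))
          | exact hTp ((eq_neg_of_add_eq_zero_right h'.symm).trans
              (neg_eq_of_add_eq_zero_left (M.add_self p)))
    obtain ⟨i, hi⟩ := ((Nat.bijective_iff_injective_and_card _).2
      ⟨hinj, by rw [Nat.card_eq_fintype_card, Fintype.card_fin]; exact h4.symm⟩).2 ⟨p', p', hp'⟩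
    have hi' := congrArg Subtype.val hi
    simp only at hi'
    rw [← hi'] at hb
    fin_cases i <;> simp [M.b_zero_right, M.b_self, M.b_add_right, hcon] at hb
  have hq : M.q (T p) = M.q p := M.q_inv t p
  have h5 := M.q_add (T p) p
  rw [← htt, M.q_inv, hq, M.b_comm, hb'] at h5
  have hqp : M.q p = true := by simpa using h5
  exact ⟨p, hp, heT, hb', hqp, hq.trans hqp, htt⟩

/-- Extension of a choice of basis images. -/
def liftFrom : List V → ℕ → W8 → V
  | [], _, _ => 0
  | m :: l, i, v => (if v.bit i then m else 0) + liftFrom l (i + 1) v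

omit [Finite V] in
include M in
theorem liftFrom_add : ∀ (l : List V) (i : ℕ) (v w : W8),
    liftFrom l i (v + w) = liftFrom l i v + liftFrom l i w
  | [], _, _, _ => (add_zero 0).symm
  | m :: l, i, v, w => by
    simp only [liftFrom, liftFrom_add l, W8.bit_add]
    rw [add_add_add_comm]
    cases v.bit i <;> cases w.bit i <;> simp [M.add_self]

theorem exists_coords (l : List V) (e : Bool) (hl : l.length = 8)
    (hq : ∀ i < 8, M.q (l.getD i 0) = qe e (W8.e i))
    (hb : ∀ i < 8, ∀ j < 8, M.b (l.getD i 0) (l.getD j 0) = bb (W8.e i) (W8.e j)) :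
    ∃ Φ : W8 ≃+ V, (∀ v, M.q (Φ v) = qe e v) ∧ ∀ i < 8, Φ (W8.e i) = l.getD i 0 := by
  obtain ⟨a0, a1, a2, a3, a4, a5, a6, a7, rfl⟩ :
      ∃ a0 a1 a2 a3 a4 a5 a6 a7, l = [a0, a1, a2, a3, a4, a5, a6, a7] := by
    rcases l with _ | ⟨a0, _ | ⟨a1, _ | ⟨a2, _ | ⟨a3, _ | ⟨a4, _ | ⟨a5, _ | ⟨a6, _ | ⟨a7, _ | ⟨a8, l⟩⟩⟩⟩⟩⟩⟩⟩⟩ <;>
      simp at hl
    exact ⟨_, _, _, _, _, _, _, _, rfl⟩
  set φ : W8 → V := liftFrom [a0, a1, a2, a3, a4, a5, a6, a7] 0 with hφ
  have hadd : ∀ v w, φ (v + w) = φ v + φ w := M.liftFrom_add _ _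
  have h0 : φ 0 = 0 := by
    have h := hadd 0 0
    rw [add_zero] at h
    exact left_eq_add.1 h
  have he : ∀ i < 8, φ (W8.e i) = [a0, a1, a2, a3, a4, a5, a6, a7].getD i 0 := by
    have hbit : ∀ i < 8, ∀ j < 8, (W8.e i).bit j = decide (i = j) := by decide +kernel
    intro i hi
    have b0 := hbit i hi 0 (by norm_num)
    have b1 := hbit i hi 1 (by norm_num)
    have b2 := hbit i hi 2 (by norm_num)
    have b3 := hbit i hi 3 (by norm_num)
    have b4 := hbit i hi 4 (by norm_num)
    have b5 := hbit i hi 5 (by norm_num)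
    have b6 := hbit i hi 6 (by norm_num)
    have b7 := hbit i hi 7 (by norm_num)
    interval_cases i <;> simp [hφ, liftFrom, b0, b1, b2, b3, b4, b5, b6, b7]
  have hbb : ∀ v w, M.b (φ v) (φ w) = bb v w := by
    have hspan : ∀ v : W8, v ∈ span basis := by decide +kernel
    have hlin : ∀ (P : W8 → Prop), P 0 → (∀ v w, P v → P w → P (v + w)) →
        (∀ i < 8, P (W8.e i)) → ∀ v, P v := by
      intro P P0 Padd Pe v
      have hs : ∀ l : List W8, (∀ u ∈ l, P u) → ∀ u ∈ span l, P u := by
        intro l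
        induction l with
        | nil => exact fun _ u hu => (List.mem_singleton.1 hu) ▸ P0
        | cons a l ih =>
          intro h u hu
          rcases List.mem_append.1 hu with hu | hu
          · exact ih (fun x hx => h x (List.mem_cons_of_mem _ hx)) u hu
          · obtain ⟨x, hx, rfl⟩ := List.mem_map.1 hu
            exact Padd _ _ (h a List.mem_cons_self)
              (ih (fun x hx => h x (List.mem_cons_of_mem _ hx)) x hx)
      refine hs basis ?_ v (hspan v)
      intro u hu
      obtain ⟨i, hi, rfl⟩ := List.mem_map.1 hu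
      exact Pe i (List.mem_range.1 hi)
    intro v
    refine hlin (fun v => ∀ w, M.b (φ v) (φ w) = bb v w) ?_ ?_ ?_ v
    · intro w; rw [h0, M.b_zero_left, bb_zero_left]
    · intro v u hv hu w; rw [hadd, M.b_add_left, hv, hu, bb_add_left]
    · intro i hi
      refine hlin _ ?_ ?_ ?_
      · rw [h0, M.b_zero_right, bb_zero_right]
      · intro v u hv hu; rw [hadd, M.b_add_right, hv, hu, bb_add_right]
      · intro j hj; rw [he i hi, he j hj, hb i hi j hj]
  have hqq : ∀ v, M.q (φ v) = qe e v := by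
    have hs : ∀ v : W8, v ∈ span basis := by decide +kernel
    have key : ∀ l : List W8, (∀ u ∈ l, M.q (φ u) = qe e u) → ∀ u ∈ span l, M.q (φ u) = qe e u := by
      intro l
      induction l with
      | nil => exact fun _ u hu => by rw [List.mem_singleton.1 hu, h0, M.q_zero, qe_zero]
      | cons a l ih =>
        intro h u hu
        rcases List.mem_append.1 hu with hu | hu
        · exact ih (fun x hx => h x (List.mem_cons_of_mem _ hx)) u hu
        · obtain ⟨x, hx, rfl⟩ := List.mem_map.1 hu
          rw [hadd, M.q_add, hbb, qe_add, h a List.mem_cons_self,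
            ih (fun x hx => h x (List.mem_cons_of_mem _ hx)) x hx]
    intro v
    refine key basis ?_ v (hs v)
    intro u hu
    obtain ⟨i, hi, rfl⟩ := List.mem_map.1 hu
    rw [he i (List.mem_range.1 hi), hq i (List.mem_range.1 hi)]
  have hinj : Function.Injective φ := by
    intro v w h
    refine eq_of_add ((bb_nondeg (v + w)).resolve_right ?_)
    rintro ⟨u, -, hu⟩
    rw [← hbb, hadd, h, M.add_self, M.b_zero_left] at hu
    exact Bool.false_ne_true hu
  have hbij : Function.Bijective φ := (Nat.bijective_iff_injective_and_card _).2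
    ⟨hinj, by rw [M.card, Nat.card_eq_fintype_card]; exact Fintype.card_fin 256⟩
  exact ⟨{ Equiv.ofBijective φ hbij with map_add' := hadd }, hqq, he⟩

end Mod

end Cfsg.Agent.ThreeTransp.U62Cent
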