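import Cfsg.Agent.Lib.ThreeTransp.U62Cent.ModSplit
import Cfsg.Agent.Lib.SuzukiType.Frame

/-!
# An eight-dimensional orthogonal module for `Ω₆⁻(2)` is natural or split
-/

set_option autoImplicit false

namespace Cfsg.Agent.ThreeTransp.U62Cent

open W8

theorem p0_sq' {R : Type*} [Ring R] {t : R} (ht : t * t * t = 1) : p0 (t * t) = p0 t := by
  simp only [p0]
  rw [← mul_assoc, ht, one_mul]
  abel

namespace Mod

variable {V : Type*} [AddCommGroup V] [Finite V] (M : Mod V)

/-- what the analysis needs to know about the abelian group of the three rotations -/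
structure Tor (T : Type*) [CommRing T] where
  ι : T →+* AddMonoid.End V
  inj : Function.Injective ι
  a : T
  b : T
  c : T
  ha : ι a = M.ρ Om.a
  hb : ι b = M.ρ Om.b
  hc : ι c = M.ρ Om.c

theorem exists_tor : ∃ (T : Subring (AddMonoid.End V)) (_ : CommRing T), Nonempty (M.Tor T) := by
  obtain ⟨-, ⟨hab, hac, hbc⟩, -, -, -, -⟩ := Om.rels
  set s : Set (AddMonoid.End V) := {M.ρ Om.a, M.ρ Om.b, M.ρ Om.c} with hs
  have hcomm : ∀ x ∈ s, ∀ y ∈ s, x * y = y * x := by
    have key : ∀ {o o' : OmG}, o * o' = o' * o → M.ρ o * M.ρ o' = M.ρ o' * M.ρ o := by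
      intro o o' h
      rw [← map_mul, ← map_mul, h]
    have e1 := key hab
    have e2 := key hac
    have e3 := key hbc
    rw [hs]
    generalize M.ρ Om.a = A, M.ρ Om.b = B, M.ρ Om.c = C at e1 e2 e3 ⊢
    intro x hx y hy
    rcases hx with rfl | rfl | rfl <;> rcases hy with rfl | rfl | rfl <;>
      first | rfl | assumption | exact e1.symm | exact e2.symm | exact e3.symm
  letI inst := Subring.closureCommRingOfComm hcomm
  refine ⟨Subring.closure s, inst, ⟨{
    ι := (Subring.closure s).subtype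
    inj := Subtype.val_injective
    a := ⟨M.ρ Om.a, Subring.subset_closure (by simp [hs])⟩
    b := ⟨M.ρ Om.b, Subring.subset_closure (by simp [hs])⟩
    c := ⟨M.ρ Om.c, Subring.subset_closure (by simp [hs])⟩
    ha := rfl
    hb := rfl
    hc := rfl }⟩⟩

namespace Tor

variable {M} {T : Type*} [CommRing T] (t : M.Tor T)

include t in
theorem two : (2 : T) = 0 := t.inj (by
  rw [← one_add_one_eq_two, map_add, map_one, map_zero, M.two])

theorem cube_of {x : T} {o : OmG} (h : t.ι x = M.ρ o) (ho : o * o * o = 1) : x * x * x = 1 :=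
  t.inj (by rw [map_mul, map_mul, map_one, h, ← map_mul, ← map_mul, ho, map_one])

theorem a3 : t.a * t.a * t.a = 1 := t.cube_of t.ha Om.rels.1.1
theorem b3 : t.b * t.b * t.b = 1 := t.cube_of t.hb Om.rels.1.2.1
theorem c3 : t.c * t.c * t.c = 1 := t.cube_of t.hc Om.rels.1.2.2

/-- the number of elements of an image -/
noncomputable def n (x : T) : ℕ := sz (t.ι x)

theorem n_pos (x : T) : 0 < t.n x := sz_pos _

theorem n_split {e : T} (x : T) (he : e * e = e) : t.n x = t.n (e * x) * t.n ((1 + e) * x) := by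
  rw [n, n, n, map_mul, map_mul, map_add, map_one]
  exact M.sz_split (by rw [← map_mul, he]) (by rw [← map_mul, ← map_mul, mul_comm])

theorem eq_zero {x : T} (h : t.n x = 1) : x = 0 :=
  t.inj (by rw [map_zero]; exact eq_zero_of_sz h.le)

theorem four_le {x y : T} (hy : y * y * y = 1) (h0 : p0 y * x = 0) (hx : t.n x ≠ 1) : 4 ≤ t.n x := by
  refine M.four_le (t := t.ι y) (by rw [← map_mul, ← map_mul, hy, map_one]) (by
    rw [← map_mul, ← map_mul, mul_comm]) (by rw [← map_p0, ← map_mul, h0, map_zero]) fun h => hx ?_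
  rw [n, h]
  exact Nat.card_eq_one_iff_unique.2 ⟨⟨fun a b => Subtype.ext (by
    obtain ⟨_, ha⟩ := a.2; obtain ⟨_, hb⟩ := b.2; rw [← ha, ← hb]; rfl)⟩, ⟨⟨0, 0, rfl⟩⟩⟩

theorem n_conj {x x' : T} (o : OmG) (h : M.kj o (t.ι x) = t.ι x') : t.n x = t.n x' := by
  rw [n, n, ← h, sz_kj]

theorem kj_id {o o' : OmG} (h : o * o' = o' * o) : M.kj o (M.ρ o') = M.ρ o' := M.kj_ρ o o' o' h

theorem ky : M.kj Om.y (t.ι t.a) = t.ι t.b ∧ M.kj Om.y (t.ι t.b) = t.ι t.c ∧
    M.kj Om.y (t.ι t.c) = t.ι t.a := by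
  obtain ⟨h1, h2, h3⟩ := Om.rels.2.2.2.1
  refine ⟨?_, ?_, ?_⟩
  · rw [t.ha, t.hb]; exact M.kj_ρ _ _ _ h1
  · rw [t.hb, t.hc]; exact M.kj_ρ _ _ _ h2
  · rw [t.hc, t.ha]; exact M.kj_ρ _ _ _ h3

theorem kf : M.kj Om.f (t.ι t.a) = t.ι (t.a * t.a) ∧ M.kj Om.f (t.ι t.b) = t.ι (t.b * t.b) ∧
    M.kj Om.f (t.ι t.c) = t.ι t.c := by
  obtain ⟨h1, h2, h3⟩ := Om.rels.2.2.1
  refine ⟨?_, ?_, ?_⟩
  · rw [map_mul, t.ha, ← map_mul]; exact M.kj_ρ _ _ _ h1
  · rw [map_mul, t.hb, ← map_mul]; exact M.kj_ρ _ _ _ h2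
  · rw [t.hc]; exact M.kj_ρ _ _ _ h3

/-- the other double flip -/
theorem kf' : M.kj (Om.y * Om.f * Om.y⁻¹) (t.ι t.a) = t.ι t.a ∧
    M.kj (Om.y * Om.f * Om.y⁻¹) (t.ι t.b) = t.ι (t.b * t.b) ∧
    M.kj (Om.y * Om.f * Om.y⁻¹) (t.ι t.c) = t.ι (t.c * t.c) := by
  have hinv : ∀ {x x' : T}, M.kj Om.y (t.ι x) = t.ι x' → M.kj Om.y⁻¹ (t.ι x') = t.ι x := by
    intro x x' h
    rw [← h, ← kj_mul, inv_mul_cancel]
    show M.ρ 1 * t.ι x * M.ρ 1⁻¹ = t.ι x
    rw [inv_one, map_one, one_mul, mul_one]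
  obtain ⟨y1, y2, y3⟩ := t.ky
  obtain ⟨f1, f2, f3⟩ := t.kf
  refine ⟨?_, ?_, ?_⟩ <;> rw [kj_mul, kj_mul]
  · rw [hinv y3, f3, y3]
  · rw [hinv y1, f1, map_mul, map_mul, y1, map_mul]
  · rw [hinv y2, f2, map_mul, map_mul, y2, map_mul]

/-- the eight joint projections -/
def X (i j k : Bool) : T :=
  cond k (p1 t.c) (p0 t.c) * (cond j (p1 t.b) (p0 t.b) * cond i (p1 t.a) (p0 t.a))

theorem sum_X : (1 : T) = (t.X false false false + t.X true false false + t.X false true false +
    t.X false false true) + (t.X true true false + t.X true false true + t.X false true true) +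
    t.X true true true := by
  have h2 := t.two
  have key : ∀ A B C A' B' C' : T, A + A' = 1 → B + B' = 1 → C + C' = 1 → (1 : T) =
      (C * (B * A) + C * (B * A') + C * (B' * A) + C' * (B * A)) +
        (C * (B' * A') + C' * (B * A') + C' * (B' * A)) + C' * (B' * A') := by
    intro A B C A' B' C' ha hb hc
    linear_combination -(B * C + B' * C + B * C' + B' * C') * ha - (C + C') * hb - hc
  exact key _ _ _ _ _ _ (p0_add_p1 h2) (p0_add_p1 h2) (p0_add_p1 h2)

include t in
theorem one_p0 (x : T) : 1 + p0 x = p1 x := by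
  simp only [p0, p1]; linear_combination t.two

theorem n_split3 : t.n 1 = t.n (t.X false false false) * t.n (t.X true false false) *
    t.n (t.X false true false) * t.n (t.X false false true) *
    (t.n (t.X true true false) * t.n (t.X true false true) * t.n (t.X false true true)) *
    t.n (t.X true true true) := by
  have h2 := t.two
  rw [t.n_split 1 (p0_idem h2 t.a3), t.one_p0, mul_one, mul_one,
    t.n_split (p0 t.a) (p0_idem h2 t.b3), t.n_split (p1 t.a) (p0_idem h2 t.b3), t.one_p0,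
    t.n_split (p0 t.b * p0 t.a) (p0_idem h2 t.c3), t.n_split (p1 t.b * p0 t.a) (p0_idem h2 t.c3),
    t.n_split (p0 t.b * p1 t.a) (p0_idem h2 t.c3), t.n_split (p1 t.b * p1 t.a) (p0_idem h2 t.c3),
    t.one_p0]
  simp only [X, cond_true, cond_false]
  ring

theorem n_rot : (t.n (t.X false true false) = t.n (t.X true false false) ∧
    t.n (t.X false false true) = t.n (t.X true false false)) ∧
    (t.n (t.X false true true) = t.n (t.X true true false) ∧
      t.n (t.X true false true) = t.n (t.X true true false)) := by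
  obtain ⟨y1, y2, y3⟩ := t.ky
  have h : ∀ i j k, t.n (t.X i j k) = t.n (t.X k i j) := by
    intro i j k
    refine t.n_conj Om.y ?_
    rw [show t.X k i j = cond k (p1 t.a) (p0 t.a) * (cond j (p1 t.c) (p0 t.c) * cond i (p1 t.b) (p0 t.b))
      by simp only [X]; ring]
    simp only [X, map_mul]
    cases i <;> cases j <;> cases k <;> simp only [cond_true, cond_false, map_p0, map_p1, y1, y2, y3]
  exact ⟨⟨(h true false false).symm, (h false false true)⟩,
    ⟨(h true true false).symm, (h true false true).trans rfl⟩⟩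

theorem halves (x : T) (hx : p1 t.b * p1 t.a * x = x) :
    t.n x = t.n (p0 (t.a * t.b) * x) * t.n (p0 (t.a * (t.b * t.b)) * x) := by
  have h2 := t.two
  have hab3 : t.a * t.b * (t.a * t.b) * (t.a * t.b) = 1 := by
    linear_combination (t.b * t.b * t.b) * t.a3 + t.b3
  rw [t.n_split x (p0_idem h2 hab3)]
  congr 2
  linear_combination -hx + x * (p1_mul_p1 h2 t.a3 t.b3) + x * p0 (t.a * t.b) * h2

theorem two_bound : t.n (t.X true true false) = 1 ∨ 16 ≤ t.n (t.X true true false) := by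
  have h2 := t.two
  have hi : p1 t.b * p1 t.a * t.X true true false = t.X true true false := by
    have ha : p1 t.a * p1 t.a = p1 t.a := by
      simp only [p1]; linear_combination (t.a + 2) * t.a3 + h2
    have hb : p1 t.b * p1 t.b = p1 t.b := by
      simp only [p1]; linear_combination (t.b + 2) * t.b3 + h2
    simp only [X, cond_true, cond_false]
    linear_combination p0 t.c * p1 t.b * p1 t.b * ha + p0 t.c * p1 t.a * hb
  set x := t.X true true false with hx
  have hsw : t.n (p0 (t.a * t.b) * x) = t.n (p0 (t.a * (t.b * t.b)) * x) := by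
    obtain ⟨f1, f2, f3⟩ := t.kf'
    refine t.n_conj (Om.y * Om.f * Om.y⁻¹) (Eq.trans (b := t.ι (p0 (t.a * (t.b * t.b)) *
      (p0 (t.c * t.c) * (p1 (t.b * t.b) * p1 t.a)))) ?_ ?_)
    · simp only [hx, X, cond_true, cond_false, map_mul, map_p0, map_p1, f1, f2, f3]
    · rw [p0_sq h2 t.c3, p1_sq h2 t.b3]
      rfl
  have h0 : p0 t.a * (p0 (t.a * t.b) * x) = 0 := by
    simp only [hx, X, cond_true, cond_false]
    linear_combination p0 (t.a * t.b) * p0 t.c * p1 t.b * (p0_p1 h2 t.a3)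
  rw [t.halves x hi, ← hsw]
  rcases eq_or_ne (t.n (p0 (t.a * t.b) * x)) 1 with h | h
  · left; rw [h]
  · right
    have := t.four_le t.a3 h0 h
    nlinarith

theorem four_bound : t.n (t.X true true true) = 1 ∨ 256 ≤ t.n (t.X true true true) ∧
    (t.n (t.X true true true) = 256 →
      t.n (p0 (t.a * t.c) * (p0 (t.a * t.b) * t.X true true true)) = 4 ∧
      t.n (p0 (t.a * (t.c * t.c)) * (p0 (t.a * t.b) * t.X true true true)) = 4 ∧
      t.n (p0 (t.a * t.c) * (p0 (t.a * (t.b * t.b)) * t.X true true true)) = 4 ∧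
      t.n (p0 (t.a * (t.c * t.c)) * (p0 (t.a * (t.b * t.b)) * t.X true true true)) = 4) := by
  have h2 := t.two
  have ha : p1 t.a * p1 t.a = p1 t.a := by
    simp only [p1]; linear_combination (t.a + 2) * t.a3 + h2
  have hb : p1 t.b * p1 t.b = p1 t.b := by
    simp only [p1]; linear_combination (t.b + 2) * t.b3 + h2
  have hc : p1 t.c * p1 t.c = p1 t.c := by
    simp only [p1]; linear_combination (t.c + 2) * t.c3 + h2
  set x := t.X true true true with hx
  have hiab : p1 t.b * p1 t.a * x = x := by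
    simp only [hx, X, cond_true]
    linear_combination p1 t.c * p1 t.b * p1 t.b * ha + p1 t.c * p1 t.a * hb
  have hiac : p1 t.c * p1 t.a * x = x := by
    simp only [hx, X, cond_true]
    linear_combination p1 t.c * p1 t.c * p1 t.b * ha + p1 t.b * p1 t.a * hc
  set u := p0 (t.a * t.b)
  set v := p0 (t.a * (t.b * t.b))
  set w := p0 (t.a * t.c)
  set r := p0 (t.a * (t.c * t.c))
  have hsub : ∀ s : T, t.n (s * x) = t.n (w * (s * x)) * t.n (r * (s * x)) := by
    intro s
    have hac3 : t.a * t.c * (t.a * t.c) * (t.a * t.c) = 1 := by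
      linear_combination (t.c * t.c * t.c) * t.a3 + t.c3
    rw [t.n_split (s * x) (p0_idem h2 hac3)]
    congr 2
    linear_combination -(s * hiac) + (s * x) * (p1_mul_p1 h2 t.a3 t.c3) + (s * x) * w * h2
  obtain ⟨f1, f2, f3⟩ := t.kf
  obtain ⟨g1, g2, g3⟩ := t.kf'
  have hfa : p0 (t.a * t.a * t.c) = r := p0_mul_sq t.a3 t.c3
  have hfu : p0 (t.a * t.a * (t.b * t.b)) = u := by
    rw [show t.a * t.a * (t.b * t.b) = t.a * t.b * (t.a * t.b) by ring]
    exact p0_sq h2 (by linear_combination (t.b * t.b * t.b) * t.a3 + t.b3)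
  have hfv : p0 (t.a * t.a * (t.b * t.b * (t.b * t.b))) = v := by
    rw [show t.a * t.a * (t.b * t.b * (t.b * t.b)) = t.a * (t.b * t.b) * (t.a * (t.b * t.b)) by ring]
    exact p0_sq h2 (by linear_combination (t.b ^ 6) * t.a3 + (t.b * t.b * t.b + 1) * t.b3)
  have e1 : t.n (w * (u * x)) = t.n (r * (u * x)) := by
    refine t.n_conj Om.f (Eq.trans (b := t.ι (p0 (t.a * t.a * t.c) * (p0 (t.a * t.a * (t.b * t.b)) *
      (p1 t.c * (p1 (t.b * t.b) * p1 (t.a * t.a)))))) ?_ ?_)
    · simp only [w, u, hx, X, cond_true, map_mul, map_p0, map_p1, f1, f2, f3]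
    · rw [hfa, hfu, p1_sq h2 t.b3, p1_sq h2 t.a3]
      rfl
  have e2 : t.n (w * (v * x)) = t.n (r * (v * x)) := by
    refine t.n_conj Om.f (Eq.trans (b := t.ι (p0 (t.a * t.a * t.c) *
      (p0 (t.a * t.a * (t.b * t.b * (t.b * t.b))) *
      (p1 t.c * (p1 (t.b * t.b) * p1 (t.a * t.a)))))) ?_ ?_)
    · simp only [w, v, hx, X, cond_true, map_mul, map_p0, map_p1, f1, f2, f3]
    · rw [hfa, hfv, p1_sq h2 t.b3, p1_sq h2 t.a3]
      rfl
  have e3 : t.n (w * (u * x)) = t.n (r * (v * x)) := by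
    refine t.n_conj (Om.y * Om.f * Om.y⁻¹) (Eq.trans (b := t.ι (p0 (t.a * (t.c * t.c)) * (p0 (t.a * (t.b * t.b)) *
      (p1 (t.c * t.c) * (p1 (t.b * t.b) * p1 t.a))))) ?_ ?_)
    · simp only [w, u, hx, X, cond_true, map_mul, map_p0, map_p1, g1, g2, g3]
    · rw [p1_sq h2 t.b3, p1_sq h2 t.c3]
      rfl
  have hn : t.n x = t.n (w * (u * x)) * t.n (w * (u * x)) * t.n (w * (u * x)) * t.n (w * (u * x)) := by
    rw [t.halves x hiab, hsub u, hsub v, ← e1, e2, ← e3]
    ring
  rcases eq_or_ne (t.n (w * (u * x))) 1 with h | h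
  · left; rw [hn, h]
  · right
    have h0 : p0 t.a * (w * (u * x)) = 0 := by
      simp only [hx, X, cond_true]
      linear_combination w * u * p1 t.c * p1 t.b * (p0_p1 h2 t.a3)
    have h4 := t.four_le t.a3 h0 h
    have h44 : 4 * 4 ≤ t.n (w * (u * x)) * t.n (w * (u * x)) := Nat.mul_le_mul h4 h4
    refine ⟨by rw [hn]; nlinarith, fun h256 => ?_⟩
    have hg : t.n (w * (u * x)) = 4 := by
      rw [hn] at h256
      by_contra hne
      have h5 : 5 * 5 ≤ t.n (w * (u * x)) * t.n (w * (u * x)) := Nat.mul_le_mul (by omega) (by omega)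
      nlinarith
    exact ⟨hg, e1 ▸ hg, by rw [e2, ← e3, hg], e3 ▸ hg⟩

end Tor

end Mod

end Cfsg.Agent.ThreeTransp.U62Cent
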