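import Cfsg.Agent.Lib.ThreeTransp.U62Cent.ModBasic

/-!
# The two shapes of an eight-dimensional orthogonal module for `Ω₆⁻(2)`
-/

set_option autoImplicit false

namespace Cfsg.Agent.ThreeTransp.U62Cent

open W8

namespace Mod

variable {V : Type*} [AddCommGroup V] [Finite V] (M : Mod V)

/-- the natural four-dimensional module over the field with four elements -/
def IsNatural (Φ : W8 ≃+ V) : Prop :=
  ∀ x v, M.ρ x (Φ (sig v)) = Φ (sig (Φ.symm (M.ρ x (Φ v))))

/-- the six-dimensional module plus a fixed plane -/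
def IsSplit (Φ : W8 ≃+ V) : Prop :=
  (∀ x v, v.pl 3 = 0 → (Φ.symm (M.ρ x (Φ v))).pl 3 = 0) ∧
    ∀ x, M.ρ x (Φ (W8.e 6)) = Φ (W8.e 6) ∧ M.ρ x (Φ (W8.e 7)) = Φ (W8.e 7)

/-- conjugation -/
noncomputable def kj (x : OmG) : AddMonoid.End V →+* AddMonoid.End V where
  toFun e := M.ρ x * e * M.ρ x⁻¹
  map_one' := by rw [mul_one, ← map_mul, mul_inv_cancel, map_one]
  map_mul' e e' := by
    have h : M.ρ x⁻¹ * M.ρ x = 1 := by rw [← map_mul, inv_mul_cancel, map_one]
    calc M.ρ x * (e * e') * M.ρ x⁻¹ = M.ρ x * e * (M.ρ x⁻¹ * M.ρ x) * e' * M.ρ x⁻¹ := by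
          rw [h, mul_one, mul_assoc (M.ρ x) e e']
      _ = _ := by simp only [mul_assoc]
  map_zero' := by rw [mul_zero, zero_mul]
  map_add' e e' := by rw [mul_add, add_mul]

theorem kj_apply (x : OmG) (e : AddMonoid.End V) : M.kj x e = M.ρ x * e * M.ρ x⁻¹ := rfl

theorem kj_comm {x : OmG} {e : AddMonoid.End V} (h : M.kj x e = e) : M.ρ x * e = e * M.ρ x := by
  conv_rhs => rw [← h, kj_apply, mul_assoc, ← map_mul, inv_mul_cancel, map_one, mul_one]

theorem kj_ρ (x a a' : OmG) (h : x * a = a' * x) : M.kj x (M.ρ a) = M.ρ a' := by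
  rw [kj_apply, ← map_mul, ← map_mul, h, mul_inv_cancel_right]

theorem kj_mul (x x' : OmG) (e : AddMonoid.End V) : M.kj (x * x') e = M.kj x (M.kj x' e) := by
  simp only [kj_apply]
  rw [map_mul M.ρ, mul_inv_rev, map_mul M.ρ]
  simp only [mul_assoc]

theorem sz_kj (x : OmG) (e : AddMonoid.End V) : sz (M.kj x e) = sz e :=
  (sz_conj (M.ρ_bijective x) (by
    rw [kj_apply, mul_assoc, ← map_mul, inv_mul_cancel, map_one, mul_one])).symm

include M in
/-- An element of order three on a plane moved by another one commutes with it there. -/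
theorem comm_on_plane {E T U : AddMonoid.End V} (hE : E * E = E) (h4 : sz E = 4) (hT : T * E = E * T)
    (hT3 : T * T * T = 1) (hT0 : p0 T * E = 0) (hU : U * E = E * U) (hU3 : U * U * U = 1) :
    U * (T * E) = T * E * U := by
  have hne : ∃ v, E v ≠ 0 := by
    by_contra h
    have h0 : E = 0 := AddMonoidHom.ext fun v => not_not.1 fun hv => h ⟨v, hv⟩
    have hle : sz (0 : AddMonoid.End V) ≤ 1 :=
      Finite.card_le_one_iff_subsingleton.2 ⟨fun a b => Subtype.ext
        (by obtain ⟨_, ha⟩ := a.2; obtain ⟨_, hb⟩ := b.2; rw [← ha, ← hb]; rfl)⟩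
    rw [h0] at h4
    omega
  obtain ⟨v, hv⟩ := hne
  set p := E v with hp
  have hEp : E p = p := congrArg (fun f : AddMonoid.End V => f v) hE
  have ET : ∀ u, E (T u) = T (E u) := fun u => (congrArg (fun f : AddMonoid.End V => f u) hT).symm
  have EU : ∀ u, E (U u) = U (E u) := fun u => (congrArg (fun f : AddMonoid.End V => f u) hU).symm
  have U3 : ∀ u, U (U (U u)) = u := fun u => congrArg (fun f : AddMonoid.End V => f u) hU3
  have T3 : ∀ u, T (T (T u)) = u := fun u => congrArg (fun f : AddMonoid.End V => f u) hT3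
  have hTTu : ∀ u, E u = u → T (T u) = T u + u := fun u hu => by
    have h := congrArg (fun f : AddMonoid.End V => f u) hT0
    simp only [p0] at h
    rw [show ((1 + T + T * T) * E) u = E u + T (E u) + T (T (E u)) from rfl, hu] at h
    rw [← sub_eq_zero, sub_eq_add_neg, neg_eq_of_add_eq_zero_left (M.add_self (T u + u))]
    refine Eq.trans ?_ (h.trans (by rfl))
    abel
  have hTT : T (T p) = T p + p := hTTu p hEp
  have h1 : T p ≠ p := fun e => hv (by rw [e, e, M.add_self] at hTT; exact hTT)
  have h0 : T p ≠ 0 := fun e => hv (by rw [e, map_zero, zero_add] at hTT; exact hTT.symm)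
  have h2 : T p + p ≠ 0 := fun e => h1 ((eq_neg_of_add_eq_zero_left e).trans
    (neg_eq_of_add_eq_zero_left (M.add_self p)))
  have hTpp : T p + p ≠ p := fun e => h0 (add_eq_right.1 e)
  have hTpT : T p + p ≠ T p := fun e => hv (add_eq_left.1 e)
  -- the four elements
  have hall : ∀ u, E u = u → u = 0 ∨ u = p ∨ u = T p ∨ u = T p + p := by
    intro u hu
    by_contra hc
    push Not at hc
    have hinj : Function.Injective (![(⟨0, 0, map_zero E⟩ : Set.range E), ⟨p, p, hEp⟩,
        ⟨T p, T p, by rw [ET, hEp]⟩, ⟨T p + p, T p + p, by rw [map_add, ET, hEp]⟩, ⟨u, u, hu⟩]) := by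
      intro i j e
      have e' := congrArg Subtype.val e
      fin_cases i <;> fin_cases j <;> simp at e' ⊢ <;>
        first
          | exact hv e' | exact hv e'.symm | exact h1 e' | exact h1 e'.symm | exact h0 e'
          | exact h0 e'.symm | exact h2 e' | exact h2 e'.symm | exact hc.1 e' | exact hc.1 e'.symm
          | exact hc.2.1 e' | exact hc.2.1 e'.symm | exact hc.2.2.1 e' | exact hc.2.2.1 e'.symm
          | exact hc.2.2.2 e' | exact hc.2.2.2 e'.symm
    have := Nat.card_le_card_of_injective _ hinj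
    rw [Nat.card_eq_fintype_card (α := Fin 5), Fintype.card_fin] at this
    exact absurd (this.trans h4.le) (by norm_num)
  have hUinj : ∀ u, U u = 0 → u = 0 := fun u h => by rw [← U3 u, h, map_zero, map_zero]
  have hsum : U (T p + p) = U (T p) + U p := map_add U _ _
  have key : U (T p) = T (U p) := by
    have cp := hall (U p) (by rw [EU, hEp])
    have ct := hall (U (T p)) (by rw [EU, ET, hEp])
    rcases cp with e | e | e | e
    · exact absurd (hUinj p e) hv
    · rw [e]
      rcases ct with e' | e' | e' | e'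
      · exact absurd (hUinj _ e') h0
      · exact absurd ((U3 (T p)).symm.trans (by rw [e', e, e])) h1
      · exact e'
      · have h := U3 (T p)
        rw [e', map_add U, e', e, add_assoc, M.add_self, add_zero, e'] at h
        exact absurd h hTpT
    · rw [e, hTT]
      rcases ct with e' | e' | e' | e'
      · exact absurd (hUinj _ e') h0
      · have h := U3 p
        rw [e, e', e] at h
        exact absurd h h1
      · have h := U3 p
        rw [e, e', e'] at h
        exact absurd h h1
      · exact e'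
    · rw [e, map_add, hTT, add_comm (T p) p, add_assoc, M.add_self, add_zero]
      rcases ct with e' | e' | e' | e'
      · exact absurd (hUinj _ e') h0
      · exact e'
      · have h := U3 (T p)
        rw [e', e', e'] at h
        have h' := U3 p
        rw [e, hsum, e', e, ← add_assoc, M.add_self, zero_add] at h'
        have h'' : U p = p := h'
        exact absurd (e.symm.trans h'') hTpp
      · have h := U3 p
        rw [e, hsum, e', e, M.add_self, map_zero] at h
        exact absurd h.symm hv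
  refine AddMonoidHom.ext fun w => ?_
  show U (T (E w)) = T (E (U w))
  rw [EU]
  have hw : E (E w) = E w := congrArg (fun f : AddMonoid.End V => f w) hE
  rcases hall _ hw with e | e | e | e <;> rw [e]
  · simp only [map_zero]
  · exact key
  · rw [hTT, hsum, key, hTTu (U p) (by rw [EU, hEp])]
  · rw [map_add T, hTT, map_add U, map_add U, key, map_add T, hTTu (U p) (by rw [EU, hEp])]

/-- coordinates from four orthogonal planes -/
theorem coords_of_planes (G : ℕ → AddMonoid.End V) (hG : ∀ k < 4, M.Sym (G k))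
    (horth : ∀ k < 4, ∀ k' < 4, k ≠ k' → G k * G k' = 0) (p p' : ℕ → V) (e : Bool)
    (hp : ∀ k < 4, G k (p k) = p k ∧ G k (p' k) = p' k ∧ M.b (p k) (p' k) = true ∧
      M.q (p k) = qe e (W8.e (2 * k)) ∧ M.q (p' k) = qe e (W8.e (2 * k + 1))) :
    ∃ Φ : W8 ≃+ V, (∀ v, M.q (Φ v) = qe e v) ∧
      ∀ k < 4, Φ (W8.e (2 * k)) = p k ∧ Φ (W8.e (2 * k + 1)) = p' k := by
  set l : List V := [p 0, p' 0, p 1, p' 1, p 2, p' 2, p 3, p' 3] with hl
  have hev : ∀ i < 8, ∀ k, k = i / 2 → l.getD i 0 = if i % 2 = 0 then p k else p' k := by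
    intro i hi k hk
    subst hk
    interval_cases i <;> rfl
  have hfix : ∀ i < 8, G (i / 2) (l.getD i 0) = l.getD i 0 := by
    intro i hi
    rw [hev i hi _ rfl]
    split
    · exact (hp _ (by omega)).1
    · exact (hp _ (by omega)).2.1
  have hq' : ∀ i < 8, M.q (l.getD i 0) = qe e (W8.e i) := by
    intro i hi
    rw [hev i hi _ rfl]
    split
    · rw [(hp _ (by omega)).2.2.2.1, show 2 * (i / 2) = i by omega]
    · rw [(hp _ (by omega)).2.2.2.2, show 2 * (i / 2) + 1 = i by omega]
  have hb' : ∀ i < 8, ∀ j < 8, M.b (l.getD i 0) (l.getD j 0) = bb (W8.e i) (W8.e j) := by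
    intro i hi j hj
    have hbb : ∀ i < 8, ∀ j < 8, bb (W8.e i) (W8.e j) = decide (i / 2 = j / 2 ∧ i ≠ j) := by
      decide +kernel
    rw [hbb i hi j hj]
    by_cases hk : i / 2 = j / 2
    · by_cases hij : i = j
      · subst hij; simp [M.b_self]
      · rw [hev i hi _ rfl, hev j hj _ rfl, decide_eq_true ⟨hk, hij⟩, ← hk]
        have h := (hp (i / 2) (by omega)).2.2.1
        by_cases h2 : i % 2 = 0
        · rw [if_pos h2, if_neg (by omega)]; exact h
        · rw [if_neg h2, if_pos (by omega), M.b_comm]; exact h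
    · rw [decide_eq_false fun h => hk h.1, ← hfix i hi, ← hfix j hj, hG _ (by omega)]
      show M.b _ ((G (i / 2) * G (j / 2)) _) = false
      rw [horth _ (by omega) _ (by omega) hk]
      exact M.b_zero_right _
  obtain ⟨Φ, hΦ, hbas⟩ := M.exists_coords l e rfl hq' hb'
  refine ⟨Φ, hΦ, fun k hk => ⟨?_, ?_⟩⟩
  · rw [hbas _ (by omega), hev _ (by omega) k (by omega), if_pos (by omega)]
  · rw [hbas _ (by omega), hev _ (by omega) k (by omega), if_neg (by omega)]

end Mod

end Cfsg.Agent.ThreeTransp.U62Cent
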