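import Cfsg.Agent.Lib.ThreeTransp.U62Cent.Transv

/-!
# Coordinates at every conjugate
-/

set_option autoImplicit false
set_option linter.unusedSectionVars false

namespace Cfsg.Agent.ThreeTransp.U62Cent

open W8 Subgroup Cfsg.Agent.LargeExtra

universe u

variable {G : Type u} [Group G]

/-- `p` and `q` lie in one coset of the core at `x` -/
def Rel (x p q : G) : Prop := p * q ∈ O2c x

theorem Rel.conj [Finite G] {x p q : G} (g : G) (h : Rel x p q) :
    Rel (g * x * g⁻¹) (g * p * g⁻¹) (g * q * g⁻¹) := by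
  show g * p * g⁻¹ * (g * q * g⁻¹) ∈ O2c (g * x * g⁻¹)
  rw [show g * p * g⁻¹ * (g * q * g⁻¹) = g * (p * q) * g⁻¹ by group]
  exact (mem_O2c_conj g x _).2 h

theorem cls_eq {z x : G} (hx : x ∈ cls z) : cls x = cls z := by
  obtain ⟨g, rfl⟩ := hx
  ext y
  constructor
  · rintro ⟨k, rfl⟩; exact ⟨k * g, by group⟩
  · rintro ⟨k, rfl⟩; exact ⟨k * g⁻¹, by group⟩

namespace Coord

variable [Finite G] {z : G} (M : Coord z)

include M

/-- the conjugate coordinates -/
noncomputable def moveBy {x g : G} (hg : g * z * g⁻¹ = x) : Coord x := by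
  classical
  have hmem : ∀ {w : G}, w ∈ O2c x → g⁻¹ * w * g ∈ O2c z := fun {w} hw => by
    rw [← mem_O2c_conj g, hg]
    simpa [mul_assoc] using hw
  have hmem' : ∀ {w : G}, w ∈ O2c z → g * w * g⁻¹ ∈ O2c x := fun {w} hw => by
    rw [← hg]; exact (mem_O2c_conj g z w).2 hw
  have hcent : ∀ c : ↥(centralizer ({x} : Set G)), Commute (g⁻¹ * (c : G) * g) z := fun c => by
    obtain ⟨c, hc⟩ := c
    subst hg
    simpa [mul_assoc] using conj_commute g⁻¹ (mem_cent.1 hc)
  let π' : ↥(centralizer ({x} : Set G)) →* Equiv.Perm W8 :=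
    { toFun := fun c => M.img (g⁻¹ * (c : G) * g)
      map_one' := by simp [M.img_J (one_mem _)]
      map_mul' := fun c d => by
        rw [← M.img_mul (hcent c) (hcent d)]
        congr 1
        push_cast
        group }
  have hrange : π'.range = M.π.range := by
    ext t
    constructor
    · rintro ⟨c, rfl⟩; exact M.img_mem _
    · intro ht
      obtain ⟨c, hc, rfl⟩ := M.exists_img ht
      refine ⟨⟨g * c * g⁻¹, mem_cent.2 ?_⟩, ?_⟩
      · rw [← hg]; exact conj_commute g hc
      · show M.img (g⁻¹ * (g * c * g⁻¹) * g) = M.img c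
        simp [mul_assoc]
  exact {
    two := (M.ctr_of ⟨g, hg⟩).two
    ctr := M.ctr_of ⟨g, hg⟩
    card := by
      rw [← M.card]
      refine Nat.card_congr ((MulAut.conj g⁻¹).toEquiv.subtypeEquiv fun w => ?_)
      show w ∈ O2c x ↔ g⁻¹ * w * g⁻¹⁻¹ ∈ O2c z
      rw [inv_inv, ← hg, ← mem_O2c_conj g z]
      simp [mul_assoc]
    e := M.e
    vec := fun w => M.vec (g⁻¹ * w * g)
    π := π'
    vec_mul := fun {v w} hv hw => by
      rw [← M.vec_mul (hmem hv) (hmem hw)]
      congr 1
      group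
    vec_z := by rw [← hg]; simp [mul_assoc, M.vec_z]
    vec_cases := fun {w} hw h0 => by
      rcases M.vec_cases (hmem hw) h0 with e | e
      · left
        have : w = g * (g⁻¹ * w * g) * g⁻¹ := by group
        rw [this, e]; simp
      · right
        have : w = g * (g⁻¹ * w * g) * g⁻¹ := by group
        rw [this, e, hg]
    surj := fun v => by
      obtain ⟨w, hw, rfl⟩ := M.surj v
      exact ⟨g * w * g⁻¹, hmem' hw, by simp [mul_assoc]⟩
    sq := fun {w} hw => by
      have e := M.sq (hmem hw)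
      have e2 : g⁻¹ * (w * w) * g = zb z (qe M.e (M.vec (g⁻¹ * w * g))) := by rw [← e]; group
      rw [show w * w = g * (g⁻¹ * (w * w) * g) * g⁻¹ by group, e2]
      cases qe M.e (M.vec (g⁻¹ * w * g))
      · simp [zb]
      · simp [zb, hg]
    comm := fun {v w} hv hw => by
      have e := M.comm (hmem hv) (hmem hw)
      have e2 : g⁻¹ * (v * w) * g =
          zb z (bb (M.vec (g⁻¹ * v * g)) (M.vec (g⁻¹ * w * g))) * (g⁻¹ * (w * v) * g) := by
        rw [show g⁻¹ * (v * w) * g = g⁻¹ * v * g * (g⁻¹ * w * g) by group, e]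
        group
      rw [show v * w = g * (g⁻¹ * (v * w) * g) * g⁻¹ by group, e2]
      cases bb (M.vec (g⁻¹ * v * g)) (M.vec (g⁻¹ * w * g))
      · simp [zb, mul_assoc]
      · simp [zb, ← hg, mul_assoc]
    vec_conj := fun c {w} hw => by
      show _ = M.img (g⁻¹ * (c : G) * g) _
      rw [← M.vec_conj' (hcent c) (hmem hw)]
      congr 1
      group
    ker := fun c => by
      show M.img _ = 1 ↔ _
      rw [M.img_eq_one (hcent c), ← mem_O2c_conj g z, hg]
      simp [mul_assoc]
    simple := by rw [hrange]; exact M.simple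
    card_img := by rw [hrange]; exact M.card_img
    iso := by rw [hrange]; exact M.iso
    shape := by rw [hrange]; exact M.shape }

/-- coordinates at a conjugate -/
noncomputable def move {x : G} (hx : x ∈ cls z) : Coord x := M.moveBy hx.choose_spec

theorem mem_move {x p : G} (hx : x ∈ cls z) : Mem x p ↔ p ∈ cls z ∧ Commute p x ∧ p ≠ x :=
  ⟨fun h => ⟨cls_eq hx ▸ h.cls, h.comm, h.ne⟩, fun h => ⟨(cls_eq hx).symm ▸ h.1, h.2.1, h.2.2⟩⟩

theorem rel_iff {p q : G} (hp : Mem z p) (hq : Mem z q) :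
    Rel z p q ↔ M.img p = M.img q := by
  constructor
  · intro h
    have e := M.img_J h
    rw [M.img_mul hp.comm hq.comm] at e
    exact (eq_inv_of_mul_eq_one_left e).trans (inv_eq_of_mul_eq_one_right (M.img_sq hq))
  · intro h
    exact M.diff_mem_J hp hq h.symm

theorem rel_symm {x p q : G} (hp : p ∈ cls z) (hq : q ∈ cls z) (h : Rel x p q) : Rel x q p := by
  show q * p ∈ O2c x
  have := inv_mem h
  rwa [mul_inv_rev, M.cls_inv hp, M.cls_inv hq] at this

theorem rel_trans {x p q r : G} (hq : q ∈ cls z) (h : Rel x p q) (h' : Rel x q r) : Rel x p r := by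
  show p * r ∈ O2c x
  have := mul_mem h h'
  rwa [show p * q * (q * r) = p * (q * q) * r by group, M.cls_sq hq, mul_one] at this

/-- Three members of a line may be rotated. -/
theorem rel_rotate {x p q : G} (hx : x ∈ cls z) (hp : Mem x p) (hq : Mem x q) (hne : q ≠ p)
    (h : Rel x p q) : Rel p q x ∧ Commute p q := by
  have hi := ((M.move hx).rel_iff hp hq).1 h
  have hcore := (M.move hx).fibre_core hp hq hi.symm hne
  refine ⟨?_, (M.move hx).fibre_commute hp hq hi.symm⟩
  show q * x ∈ O2c p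
  have h2 := mul_mem ((M.move hx).ctr_of hp.cls).z_mem hcore.2
  rwa [← mul_assoc, ← mul_assoc, (M.move hx).cls_sq hp.cls, one_mul] at h2

theorem fibre_iff {a b : G} (ha : Mem z a) : b ∈ M.fibre a ↔ Mem z b ∧ Rel z a b :=
  ⟨fun h => ⟨h.1, (M.rel_iff ha h.1).2 h.2.symm⟩, fun h => ⟨h.1, ((M.rel_iff ha h.1).1 h.2).symm⟩⟩

end Coord

end Cfsg.Agent.ThreeTransp.U62Cent
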