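import Cfsg.Agent.Lib.ThreeTransp.U62Cent.Table

/-!
# Finite facts about the natural module
-/

set_option autoImplicit false
set_option maxRecDepth 100000
set_option synthInstance.maxSize 4096
set_option synthInstance.maxHeartbeats 200000

namespace Cfsg.Agent.ThreeTransp.U62Cent

open W8

namespace N

/-- the representative transvection -/
def a0 : W8 → W8 := wT [5]
/-- the representative of the other class -/
def a1 : W8 → W8 := wT [65, 20]
/-- the commutator space of the transvection -/
def L0 : List W8 := vecs [0, 10, 5, 15]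
/-- its fixed space -/
def C0 : List W8 :=
  vecs [0, 128, 64, 192, 32, 160, 96, 224, 16, 144, 80, 208, 48, 176, 112, 240, 10, 138, 74, 202, 42, 170, 106, 234, 26, 154, 90, 218, 58, 186, 122, 250, 5, 133, 69, 197, 37, 165, 101, 229, 21, 149, 85, 213, 53, 181, 117, 245, 15, 143, 79, 207, 47, 175, 111, 239, 31, 159, 95, 223, 63, 191, 127, 255]
/-- a complement -/
def W0 : List W8 := vecs [0, 128, 64, 192, 32, 160, 96, 224, 16, 144, 80, 208, 48, 176, 112, 240]
/-- the fixed space of the other representative -/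
def L1 : List W8 := vecs [0, 130, 65, 195, 40, 170, 105, 235, 20, 150, 85, 215, 60, 190, 125, 255]

/-- the Sylow 2-subgroup -/
def syl : List (List W8) := Data.sylMN.map vecs

/-- the matrices are those of the words -/
def sylWords : Bool :=
  (List.range 64).all fun i =>
    okT (Data.sylN.getD i []) && (cols (wT (Data.sylN.getD i [])) == syl.getD i [])

theorem syl_ok : sylWords = true ∧ syl.length = 64 ∧ syl.getD 0 [] = cols id ∧
    (syl.map fun A => A.foldl (fun n x => n * 256 + W8.code x) 0).Nodup := by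
  decide +kernel

theorem syl_tbl : tableOk syl Data.sylTN = true := by decide +kernel

theorem reps_ok : okT [5] = true ∧ okT [65, 20] = true ∧ cols (app (cols a0)) = cols a0 ∧
    cols (app (cols a1)) = cols a1 := by decide +kernel

/-- conjugating data check -/
def cjOk : Bool :=
  (List.range 64).all fun i =>
    (syl.getD i [] == cols id) || (mulM (syl.getD i []) (syl.getD i []) != cols id) ||
      Data.cjN.any fun t => t.1 == i && okT t.2.2 &&
        (mulM (cols (wT t.2.2)) (syl.getD i []) ==
          mulM (if t.2.1 then cols a1 else cols a0) (cols (wT t.2.2)))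

theorem cj_ok : cjOk = true := by decide +kernel

theorem C0_iff : ∀ v : W8, a0 v = v ↔ v ∈ C0 := by decide +kernel

theorem L0_iff : (∀ v : W8, a0 v + v ∈ L0) ∧ ∀ l ∈ L0, ∃ v : W8, a0 v + v = l := by decide +kernel

theorem L0_perp : ∀ v : W8, (∀ u ∈ [mk 5, mk 10, mk 16, mk 32, mk 64, mk 128], bb v u = false) →
    v ∈ L0 := by decide +kernel

theorem L0_sing : ∀ l ∈ L0, qe true l = false := by decide +kernel

theorem L0_sub : ∀ l ∈ L0, l ∈ C0 := by decide +kernel

/-- the completions fixing the fixed space -/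
def fixList0 : List (W8 × List W8) :=
  [(mk 1, span basis), (mk 64, [mk 64]), (mk 16, [mk 16]), (mk 5, [mk 5])]

theorem fix0 : searchIn true true fixList0
    [(fixList0.map Prod.fst), (fixList0.map Prod.fst).map a0] = true := by decide +kernel

theorem fix0_span : ∀ u ∈ basis, u ∈ span (det true (fixList0.map Prod.fst)) := by decide +kernel

theorem fix0_mem : mk 5 ∈ C0 ∧ mk 16 ∈ C0 ∧ mk 64 ∈ C0 ∧ mk 32 ∈ C0 ∧ mk 128 ∈ C0 := by decide +kernel

theorem prj_mem : ∀ v ∈ C0, prj L0 W0 v ∈ W0 ∧ v + prj L0 W0 v ∈ L0 := by decide +kernel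

theorem prj_unique : ∀ v ∈ W0, ∀ w ∈ W0, v + w ∈ W0 ∧ (v + w ∈ L0 → v = w) := by decide +kernel

/-- the images of the generators of the complement -/
def indList : List (W8 × List W8) :=
  [(mk 16, C0), (mk 32, C0), (mk 64, C0), (mk 128, C0)]

/-- the induced maps -/
def indP : List (List W8) := Data.indN0.map vecs

theorem ind_all : ((search true true indList).all fun o =>
    indP.contains (span (o.map (prj L0 W0)))) = true := by decide +kernel

theorem ind_span : W0 = span (indList.map Prod.fst) := by decide +kernel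

theorem ind_small : smallTwo W0 indP = true := by decide +kernel

theorem ts0 : tsB W0 = true := by decide +kernel

/-- words and products of two words -/
def two (g : List (List ℕ)) : List (List ℕ) := [] :: g ++ g.flatMap fun x => g.map fun y => x ++ y

theorem cg_ok : (∀ w ∈ two Data.cgN0, okT w = true ∧
      mulM (cols (wT w)) (cols a0) = mulM (cols a0) (cols (wT w))) ∧
    ∀ w ∈ two Data.cgN1, okT w = true ∧
      mulM (cols (wT w)) (cols a1) = mulM (cols a1) (cols (wT w)) := by decide +kernel

theorem L0_trans : ∀ l ∈ L0, ∀ l' ∈ L0, l = 0 ∨ l' = 0 ∨ ∃ w ∈ two Data.cgN0, wT w l = l' := by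
  decide +kernel

theorem L1_iff : (∀ v : W8, a1 v = v ↔ v ∈ L1) ∧ (∀ v : W8, a1 v + v ∈ L1) ∧
    ∀ l ∈ L1, qe true l = false ∧ ∃ v : W8, a1 v + v = l := by decide +kernel

/-- the completions fixing the fixed space -/
def fixList1 : List (W8 × List W8) :=
  [(mk 4, span basis), (mk 1, span basis), (mk 65, [mk 65]), (mk 20, [mk 20])]

theorem fix1 : (search true true fixList1).length ≤ 16 ∧
    (∀ u ∈ basis, u ∈ span (det true (fixList1.map Prod.fst))) ∧ mk 65 ∈ L1 ∧ mk 20 ∈ L1 := by
  decide +kernel

theorem cocycle : ∀ l ∈ L1, l = 0 ∨ ∃ w ∈ two Data.cgN1, wT w l ≠ l ∧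
    ∀ y : W8, a1 y + y = l → bb y (wT w l) = false := by decide +kernel

theorem orbit : ∀ v : W8, v = 0 ∨ qe true v = true ∨ ∃ w ∈ Data.orbN, okT w = true ∧ wT w (mk 5) = v := by
  decide +kernel

theorem mv_ok : ∀ w ∈ Data.mvN, okT w = true ∧ wT w (mk 5) = mk 5 := by decide +kernel

theorem move : ∀ x : W8, qe true x = true ∨ bb x (mk 5) = true ∨ x = 0 ∨ x = mk 5 ∨ x = mk 10 ∨
    x = mk 15 ∨ (∃ g ∈ Data.mvN, wT g x + x = mk 10 ∨ wT g x + x = mk 15) ∨
    ∃ g ∈ Data.mvN, ∃ h ∈ Data.mvN,
      wT h (wT g x + x) + (wT g x + x) = mk 10 ∨ wT h (wT g x + x) + (wT g x + x) = mk 15 := by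
  decide +kernel

/-- the completions trivial on the orthogonal space of the first singular vector modulo it -/
def radList : List (W8 × List W8) :=
  [(mk 2, span basis), (mk 128, [mk 128, mk 133]), (mk 64, [mk 64, mk 69]), (mk 32, [mk 32, mk 37]),
    (mk 16, [mk 16, mk 21]), (mk 10, [mk 10, mk 15]), (mk 1, [mk 1, mk 4]), (mk 5, [mk 5])]

theorem rad : (search true true radList).length < 64 ∧
    (∀ u ∈ basis, u ∈ span (det true (radList.map Prod.fst))) ∧
    ∀ p ∈ radList, p.1 = mk 2 ∨ bb p.1 (mk 5) = false ∧ (p.1 = mk 5 ∨ p.2 = [p.1, p.1 + mk 5]) := by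
  decide +kernel

end N

end Cfsg.Agent.ThreeTransp.U62Cent
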