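import Cfsg.Agent.Lib.ThreeTransp.U62Cent.Induced

/-!
# The natural module: fixers, radical and induced maps in terms of groups
-/

set_option autoImplicit false
set_option maxRecDepth 100000

namespace Cfsg.Agent.ThreeTransp.U62Cent

open W8

theorem perp_count : ∀ u : W8, u = 0 ∨ ((span basis).filter fun v => !bb v u).length = 128 := by
  decide +kernel

theorem span_basis_nodup : (span basis).Nodup := by decide +kernel

/-- the orthogonal space of a nonzero vector has 128 elements -/
theorem ncard_perp {u : W8} (hu : u ≠ 0) : {v : W8 | bb v u = false}.ncard = 128 := by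
  have h := (perp_count u).resolve_left hu
  rw [← h, ← List.toFinset_card_of_nodup (span_basis_nodup.filter _), ← Set.ncard_coe_finset]
  congr 1
  ext v
  simp [span_all v]

namespace N

theorem singular_count : ((span basis).filter fun v => !qe true v && v != 0).length = 135 := by
  decide +kernel

theorem ncard_singular : {v : W8 | qe true v = false ∧ v ≠ 0}.ncard = 135 := by
  rw [← singular_count, ← List.toFinset_card_of_nodup (span_basis_nodup.filter _), ← Set.ncard_coe_finset]
  congr 1
  ext v
  simp [span_all v]

theorem a0_add (v w : W8) : a0 (v + w) = a0 v + a0 w := wT_add _ v w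

theorem a1_add (v w : W8) : a1 (v + w) = a1 v + a1 w := wT_add _ v w

theorem C0_lt : C0.length = 64 ∧ C0.Nodup ∧ L1.length = 16 ∧ L1.Nodup ∧ L0.length = 4 ∧ L0.Nodup ∧
    (∀ v ∈ C0, sig v ∈ C0) ∧ (∀ v ∈ L0, sig v ∈ L0) ∧ ∀ v ∈ L1, sig v ∈ L1 := by decide +kernel

theorem ncard_fix0 : {v : W8 | a0 v = v}.ncard = 64 := by
  rw [← C0_lt.1, ← List.toFinset_card_of_nodup C0_lt.2.1, ← Set.ncard_coe_finset]
  congr 1
  ext v
  simp [C0_iff]

theorem ncard_fix1 : {v : W8 | a1 v = v}.ncard = 16 := by
  rw [← C0_lt.2.2.1, ← List.toFinset_card_of_nodup C0_lt.2.2.2.1, ← Set.ncard_coe_finset]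
  congr 1
  ext v
  simp [L1_iff.1]

/-- An isometry fixing the fixed space of the transvection is trivial or the transvection. -/
theorem fix0_group {g : Equiv.Perm W8} (hg : g ∈ GN) (h : ∀ v ∈ C0, g v = v) :
    g = 1 ∨ ∀ v, g v = a0 v := by
  have hm := search_sound (l := fixList0) hg fun p hp => by
    simp only [fixList0, List.mem_cons, List.not_mem_nil, or_false] at hp
    rcases hp with rfl | rfl | rfl | rfl
    · exact span_all _
    all_goals refine List.mem_singleton.2 (h _ ?_)
    exacts [fix0_mem.2.2.1, fix0_mem.2.1, fix0_mem.1]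
  have hs := fix0
  simp only [searchIn, List.all_eq_true] at hs
  have := List.contains_iff_mem.1 (hs _ hm)
  simp only [List.mem_cons, List.not_mem_nil, or_false] at this
  rcases this with e | e
  · left
    refine Equiv.coe_fn_injective (hg.ext_det (GN.one_mem : IsIso true true _) fix0_span ?_)
    rw [e]
    exact (List.map_id _).symm
  · right
    have ha : IsIso true true a0 := by
      have := tvP_mem (W8.mk 5) (by decide +kernel)
      exact this
    intro v
    exact congrFun (hg.ext_det ha fix0_span e) v

/-- A group fixing the fixed space of the other representative has at most sixteen elements. -/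
theorem fix1_group {A : Subgroup (Equiv.Perm W8)} (hA : A ≤ GN) (h : ∀ g ∈ A, ∀ v ∈ L1, g v = v) :
    Nat.card A ≤ 16 := by
  refine (card_le_of_search (fun g hg => hA hg) (W8.mk 65) [W8.mk 65]
    (fun g hg => List.mem_singleton.2 (h g hg _ fix1.2.2.1)) fixList1 fix1.2.1
    fun g hg _ p hp => ?_).trans ?_
  · simp only [fixList1, List.mem_cons, List.not_mem_nil, or_false] at hp
    rcases hp with rfl | rfl | rfl | rfl
    iterate 2 exact span_all _
    · exact List.mem_singleton.2 (h g hg _ fix1.2.2.1)
    · exact List.mem_singleton.2 (h g hg _ fix1.2.2.2)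
  · simpa using fix1.1

/-- A group trivial on the orthogonal space of a singular vector modulo it has order less than 64. -/
theorem rad_group {A : Subgroup (Equiv.Perm W8)} (hA : A ≤ GN) (h5 : ∀ g ∈ A, g (W8.mk 5) = W8.mk 5)
    (h : ∀ g ∈ A, ∀ v, bb v (W8.mk 5) = false → g v + v = 0 ∨ g v + v = W8.mk 5) :
    Nat.card A < 64 := by
  refine lt_of_le_of_lt (card_le_of_search (fun g hg => hA hg) (W8.mk 5) [W8.mk 5]
    (fun g hg => List.mem_singleton.2 (h5 g hg)) radList rad.2.1 fun g hg _ p hp => ?_) (by simpa using rad.1)
  rcases rad.2.2 p hp with e | ⟨hb, e⟩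
  · have : p.2 = span basis := by
      simp only [radList, List.mem_cons, List.not_mem_nil, or_false] at hp
      rcases hp with rfl | rfl | rfl | rfl | rfl | rfl | rfl | rfl
      · rfl
      all_goals exact absurd e (by decide +kernel)
    rw [this]
    exact span_all _
  · rcases e with e | e
    · have : p.2 = [W8.mk 5] := by
        simp only [radList, List.mem_cons, List.not_mem_nil, or_false] at hp
        rcases hp with rfl | rfl | rfl | rfl | rfl | rfl | rfl | rfl
        iterate 7 exact absurd e (by decide +kernel)
        rfl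
      rw [this, e, h5 g hg]
      exact List.mem_singleton.2 rfl
    · rw [e]
      rcases h g hg _ hb with e' | e'
      · rw [W8.eq_of_add e']; exact List.mem_cons_self
      · refine List.mem_cons_of_mem _ (List.mem_singleton.2 ?_)
        rw [← e', add_left_comm, W8.add_self, add_zero]

theorem split0 : Split C0 L0 W0 indP where
  prj_mem := prj_mem
  prj_unique := prj_unique
  W_sub := by decide +kernel
  L_add := by decide +kernel
  small := ind_small

/-- the induced map is tabulated -/
theorem ind_mem {g : Equiv.Perm W8} (hg : g ∈ GN) (hC : ∀ v ∈ C0, g v ∈ C0)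
    (hL : ∀ l ∈ L0, g l ∈ L0) : W0.map (fun w => prj L0 W0 (g w)) ∈ indP := by
  have hm := search_sound (l := indList) hg fun p hp => by
    simp only [indList, List.mem_cons, List.not_mem_nil, or_false] at hp
    rcases hp with rfl | rfl | rfl | rfl <;> exact hC _ (by decide +kernel)
  have h := List.contains_iff_mem.1 (List.all_eq_true.1 ind_all _ hm)
  have hw : ∀ v ∈ indList.map Prod.fst, v ∈ W0 := by decide +kernel
  have e := (split0.map_span (by decide +kernel) (by decide +kernel) hg.add hC _ hw).1
  rw [← ind_span] at e
  rw [e]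
  exact h

end N

end Cfsg.Agent.ThreeTransp.U62Cent
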