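import Cfsg.Agent.Lib.ThreeTransp.U62Cent.InJ

/-!
# A conjugate of `z` in the centraliser, outside `O₂(C(z))`
-/

set_option autoImplicit false
set_option linter.unusedSectionVars false

namespace Cfsg.Agent.ThreeTransp.U62Cent

open W8 Subgroup Cfsg.Agent.LargeExtra

universe u

variable {G : Type u} [Group G]

/-- a conjugate of `z` commuting with `z` and different from it -/
structure Mem (z a : G) : Prop where
  cls : a ∈ U62Cent.cls z
  comm : Commute a z
  ne : a ≠ z

theorem Mem.conj {z a c : G} (h : Mem z a) (hc : Commute c z) : Mem z (c * a * c⁻¹) := by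
  refine ⟨conj_mem_cls c h.cls, ?_, fun e => h.ne ?_⟩
  · have := conj_commute c h.comm
    rwa [hc.eq, mul_inv_cancel_right] at this
  · have e' : a = c⁻¹ * (c * a * c⁻¹) * c := by group
    rw [e', e, mul_assoc, ← hc.eq, inv_mul_cancel_left]

namespace Pre

variable [Finite G] {z : G} (M : Pre z)

include M

theorem flip' {a : G} (h : Mem z a) :
    ∃ g b : G, g * z * g⁻¹ = a ∧ g * b * g⁻¹ = z ∧ Mem z b := by
  obtain ⟨g, b, h1, h2, h3, h4, h5⟩ := M.flip h.cls h.comm h.ne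
  exact ⟨g, b, h1, h2, h3, h4, h5⟩

theorem img_sq {a : G} (h : Mem z a) : M.img a * M.img a = 1 := by
  rw [← M.img_mul h.comm h.comm, M.cls_sq h.cls, M.img_J (one_mem _)]

theorem img_self (a : G) (h : Mem z a) (v : W8) : M.img a (M.img a v) = v :=
  congrArg (fun s : Equiv.Perm W8 => s v) (M.img_sq h)

/-- the vectors of the centraliser of `a` -/
def Kset (a : G) : Set W8 := {v | M.img a v = v ∧ M.phi a v = false}

theorem mem_Ja_iff {a y : G} (ha : Commute a z) (hy : y ∈ O2c z) :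
    y ∈ Ja z a ↔ M.vec y ∈ M.Kset a := by
  constructor
  · intro h
    have hf := M.fix_of_commute ha hy (mem_Ja.1 h).2.symm
    exact ⟨hf, (M.commute_iff_phi ha hy hf).1 (mem_Ja.1 h).2.symm⟩
  · rintro ⟨hf, hp⟩
    exact mem_Ja.2 ⟨hy, ((M.commute_iff_phi ha hy hf).2 hp).symm⟩

theorem card_Ja_eq {a : G} (ha : Commute a z) : Nat.card ↥(Ja z a) = 2 * (M.Kset a).ncard := by
  refine le_antisymm (M.card_le_two_mul inf_le_left fun y hy => (M.mem_Ja_iff ha hy.1).1 hy) ?_
  refine M.ncard_le_card fun v hv t => (M.mem_Ja_iff ha (mul_mem (M.lift_mem v) (M.zb_mem t))).2 ?_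
  rwa [M.vec_mul (M.lift_mem v) (M.zb_mem t), M.vec_lift, M.vec_zb, add_zero]

theorem fix_le_two_Kset {a : G} (ha : Commute a z) :
    {v : W8 | M.img a v = v}.ncard ≤ 2 * (M.Kset a).ncard := by
  classical
  by_cases h : ∃ v0, M.img a v0 = v0 ∧ M.phi a v0 = true
  · obtain ⟨v0, h1, h2⟩ := h
    calc {v : W8 | M.img a v = v}.ncard ≤ (M.Kset a ∪ (v0 + ·) '' M.Kset a).ncard := by
          refine Set.ncard_le_ncard (fun v hv => ?_) (Set.toFinite _)
          cases hp : M.phi a v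
          · exact Or.inl ⟨hv, hp⟩
          · refine Or.inr ⟨v0 + v, ⟨by rw [M.img_add, h1, hv], ?_⟩, ?_⟩
            · rw [M.phi_add ha h1 hv, h2, hp]; rfl
            · show v0 + (v0 + v) = v
              rw [← add_assoc, W8.add_self, zero_add]
      _ ≤ (M.Kset a).ncard + ((v0 + ·) '' M.Kset a).ncard := Set.ncard_union_le _ _
      _ ≤ _ := by
          have := Set.ncard_image_le (f := (v0 + ·)) (Set.toFinite (M.Kset a))
          omega
  · push Not at h
    refine (Set.ncard_le_ncard (fun v hv => ?_) (Set.toFinite _)).trans (Nat.le_mul_of_pos_left _ two_pos)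
    exact ⟨hv, by simpa using h v hv⟩

theorem mul_z_mem_of_phi {a : G} (h : Mem z a) {v : W8} (hv : M.img a v = v) (hp : M.phi a v = true) :
    a * z ∈ cls z := by
  have e := M.phi_spec h.comm (M.lift_mem v) (by rw [M.vec_lift, hv])
  rw [M.vec_lift, hp, zb_true] at e
  have e2 : (M.lift v)⁻¹ * a * M.lift v = a * z := by
    have hzy : Commute (M.lift v) z := commute_of_O2c (M.lift_mem v)
    calc (M.lift v)⁻¹ * a * M.lift v = (M.lift v)⁻¹ * (a * M.lift v * a⁻¹) * a := by group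
      _ = (M.lift v)⁻¹ * M.lift v * (z * a) := by rw [e]; group
      _ = a * z := by rw [inv_mul_cancel, one_mul, h.comm.eq]
  rw [← e2]
  simpa using conj_mem_cls (M.lift v)⁻¹ h.cls

theorem commutator_shape {a y : G} (h : Mem z a) (hy : y ∈ O2c z) :
    y * a * y⁻¹ = a * (a * y * a⁻¹ * y⁻¹) := by
  simp only [← mul_assoc, M.cls_sq h.cls, one_mul, M.cls_inv h.cls]

/-- The form is the correction on the commutator space. -/
theorem phi_comm {a : G} (h : Mem z a) (w : W8) :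
    M.phi a (M.img a w + w) = qe M.e (M.img a w + w) := by
  obtain ⟨y, hy, rfl⟩ := M.surj w
  obtain ⟨hs, hv⟩ := M.commutator_J h.comm hy
  set s := a * y * a⁻¹ * y⁻¹ with hsd
  rw [← hv]
  refine M.phi_eq h.comm hs ?_ ?_
  · rw [hv, M.img_add, M.img_self a h, add_comm]
  · rw [← M.sq hs]
    have e : a * s * a⁻¹ * s = 1 := by
      rw [hsd]
      calc a * (a * y * a⁻¹ * y⁻¹) * a⁻¹ * (a * y * a⁻¹ * y⁻¹)
          = (a * a) * y * (a⁻¹ * a⁻¹) * y⁻¹ := by group
        _ = 1 := by rw [M.cls_inv h.cls, M.cls_sq h.cls]; group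
    have e2 : (s * s)⁻¹ = s * s := by
      rcases M.ctr.sq_cases hs with e' | e' <;> rw [e']
      · exact inv_one
      · exact M.ctr.inv_self
    calc a * s * a⁻¹ = s⁻¹ := eq_inv_of_mul_eq_one_left e
      _ = s * (s * s)⁻¹ := by group
      _ = s * (s * s) := by rw [e2]

theorem Abar_move {a : G} (h : Mem z a) {t : Equiv.Perm W8} (ht : t ∈ M.Abar a) {v : W8}
    (hv : v ∈ M.Kset a) : t v + v ∈ M.vimg (Xa z a) := by
  obtain ⟨q, hq, rfl⟩ := M.mem_Abar.1 ht
  have hy : M.lift v ∈ Ja z a := (M.mem_Ja_iff h.comm (M.lift_mem v)).2 (by rwa [M.vec_lift])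
  refine ⟨_, M.commutator_Xa h.cls hq hy, ?_⟩
  rw [(M.commutator_J (mem_Qa.1 hq).2 hy.1).2, M.vec_lift]

theorem Abar_comm_apply {a : G} (h : Mem z a) {t : Equiv.Perm W8} (ht : t ∈ M.Abar a) (v : W8) :
    t (M.img a v) = M.img a (t v) :=
  congrArg (fun s : Equiv.Perm W8 => s v) (M.Abar_comm h.comm ht).eq

theorem Abar_two {a : G} (h : Mem z a) {t : Equiv.Perm W8} (ht : t ∈ M.Abar a) :
    ∃ k, t ^ 2 ^ k = 1 := by
  obtain ⟨k, hk⟩ := M.Abar_pgroup h.cls ⟨t, ht⟩
  exact ⟨k, by simpa using congrArg Subtype.val hk⟩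

theorem phi_conj {a c : G} (ha : Commute a z) (hc : Commute c z) {v : W8} (hv : M.img a v = v) :
    M.phi (c * a * c⁻¹) (M.img c v) = M.phi a v := by
  have hy : c * M.lift v * c⁻¹ ∈ O2c z := M.conj_J hc (M.lift_mem v)
  have hv' : M.vec (c * M.lift v * c⁻¹) = M.img c v := by rw [M.vec_conj' hc (M.lift_mem v), M.vec_lift]
  have hac : Commute (c * a * c⁻¹) z := by
    have := conj_commute c ha
    rwa [hc.eq, mul_inv_cancel_right] at this
  rw [← hv']
  refine M.phi_eq hac hy ?_ ?_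
  · rw [hv', M.img_conj hc ha]
    simp [hv]
  · have e := M.phi_spec ha (M.lift_mem v) (by rw [M.vec_lift, hv])
    rw [M.vec_lift] at e
    calc c * a * c⁻¹ * (c * M.lift v * c⁻¹) * (c * a * c⁻¹)⁻¹ = c * (a * M.lift v * a⁻¹) * c⁻¹ := by group
      _ = _ := by
        rw [e, ← mul_assoc c, mul_assoc (c * M.lift v) (zb z _) c⁻¹,
          ← zb_central hc.inv_left.eq, ← mul_assoc]

theorem exists_conj {a : G} (h : Mem z a) {y : Equiv.Perm W8} (hy : y ∈ M.π.range) :
    ∃ c, Commute c z ∧ M.img c = y ∧ Mem z (c * a * c⁻¹) ∧ M.img (c * a * c⁻¹) = y * M.img a * y⁻¹ := by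
  obtain ⟨c, hc, rfl⟩ := M.exists_img hy
  exact ⟨c, hc, rfl, h.conj hc, M.img_conj hc h.comm⟩

end Pre

namespace Coord

variable [Finite G] {z : G} (M : Coord z)

include M



theorem not_mem_core {a x : G} (ha : a ∈ cls z) (hx : x ∈ cls z) (hxa : x ∈ O2c a) : x = a := by
  obtain ⟨g, rfl⟩ := ha
  have e : g * (g⁻¹ * x * g) * g⁻¹ = x := by group
  rw [← e, mem_O2c_conj] at hxa
  have h1 : g⁻¹ * x * g ∈ cls z := by
    have := conj_mem_cls g⁻¹ hx
    rwa [inv_inv] at this
  rw [← e, M.not_mem_J h1 hxa]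

theorem z_not_mem {a : G} (h : Mem z a) : z ∉ O2c a := fun hz =>
  h.ne (M.not_mem_core h.cls (self_mem_cls z) hz).symm

theorem img_ne {a : G} (h : Mem z a) : M.img a ≠ 1 := fun e =>
  h.ne (M.not_mem_J h.cls ((M.img_eq_one h.comm).1 e))

theorem Xa_z {a : G} (h : Mem z a) : z ∉ Xa z a := fun hz => M.z_not_mem h hz.2

theorem Xa_sq {a x : G} (h : Mem z a) (hx : x ∈ Xa z a) : x * x = 1 := by
  rcases M.ctr.sq_cases hx.1 with e | e
  · exact e
  · rcases (M.ctr_of h.cls).sq_cases hx.2 with e' | e'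
    · exact e'
    · exact absurd (e'.symm.trans e) h.ne

theorem vimg_q {a : G} (h : Mem z a) {v : W8} (hv : v ∈ M.vimg (Xa z a)) : qe M.e v = false := by
  obtain ⟨x, hx, rfl⟩ := hv
  exact M.qe_of_sq hx.1 (M.Xa_sq h hx)

theorem vimg_bb {a : G} (h : Mem z a) {v w : W8} (hv : v ∈ M.vimg (Xa z a))
    (hw : w ∈ M.vimg (Xa z a)) : bb v w = false := by
  have h1 := M.vimg_q h (M.add_mem_vimg inf_le_left hv hw)
  rw [qe_add, M.vimg_q h hv, M.vimg_q h hw] at h1
  simpa using h1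

theorem card_Xa {a : G} (h : Mem z a) : Nat.card ↥(Xa z a) = (M.vimg (Xa z a)).ncard :=
  M.card_le_ncard inf_le_left (M.Xa_z h)

theorem vimg_fix {a : G} (h : Mem z a) {v : W8} (hv : v ∈ M.vimg (Xa z a)) : M.img a v = v := by
  obtain ⟨x, hx, rfl⟩ := hv
  exact M.fix_of_commute h.comm hx.1 (commute_of_O2c hx.2).symm

/-- A nontrivial element of the intersection over the commutator space. -/
theorem Xa_form {a x y : G} (h : Mem z a) (hx : x ∈ Xa z a) (hy : y ∈ O2c z)
    (hv : M.vec x = M.img a (M.vec y) + M.vec y) (hne : x ≠ 1) :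
    x = a * y * a⁻¹ * y⁻¹ * z ∧ a * z ∉ cls z := by
  obtain ⟨hs, hsv⟩ := M.commutator_J h.comm hy
  obtain ⟨t, ht⟩ := M.eq_zb hs hx.1 (by rw [hsv, hv])
  have hax : a * x ∈ O2c a := mul_mem (M.ctr_of h.cls).z_mem hx.2
  have hone : a * x = a → False := fun e => hne (mul_eq_left.1 e)
  cases t
  · rw [zb_false, mul_one] at ht
    have : a * x ∈ cls z := by
      rw [ht, ← M.commutator_shape h hy]
      exact conj_mem_cls y h.cls
    exact (hone (M.not_mem_core h.cls this hax)).elim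
  · rw [zb_true] at ht
    refine ⟨ht, fun haz => ?_⟩
    have : a * x ∈ cls z := by
      have e : y * (a * z) * y⁻¹ = a * x := by
        rw [ht, ← mul_assoc a _ z, ← M.commutator_shape h hy]
        calc y * (a * z) * y⁻¹ = y * a * (z * y⁻¹) := by group
          _ = _ := by rw [← ((commute_of_O2c hy).inv_left).eq]; group
      rw [← e]
      exact conj_mem_cls y haz
    exact hone (M.not_mem_core h.cls this hax)

theorem vimg_inter {a : G} (h : Mem z a) (haz : a * z ∈ cls z) {v w : W8}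
    (hv : v ∈ M.vimg (Xa z a)) (hw : v = M.img a w + w) : v = 0 := by
  obtain ⟨x, hx, rfl⟩ := hv
  obtain ⟨y, hy, rfl⟩ := M.surj w
  by_contra hne
  exact (M.Xa_form h hx hy hw fun e => hne (e ▸ M.vec_one)).2 haz

end Coord

end Cfsg.Agent.ThreeTransp.U62Cent
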