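import Cfsg.Agent.Lib.ThreeTransp.U62Cent.Move
import Cfsg.Agent.Lib.ZStar.Main
import Cfsg.Agent.Lib.LargeExtra.Mod

/-!
# The centraliser of a pair product; products of two conjugates
-/

set_option autoImplicit false
set_option linter.unusedSectionVars false

namespace Cfsg.Agent.ThreeTransp.U62Cent

open W8 Subgroup Cfsg.Agent.LargeExtra

universe u

variable {G : Type u} [Group G]

theorem conj_cancel {y p q : G} (hy : y * y = 1) (h : y * p * y⁻¹ = q) : y * q * y⁻¹ = p := by
  rw [← h, show y * (y * p * y⁻¹) * y⁻¹ = (y * y) * p * (y * y)⁻¹ by group, hy]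
  simp

theorem odd_sq_one {x : G} (ho : Odd (orderOf x)) (h : x * x = 1) : x = 1 := by
  obtain ⟨m, hm⟩ := ho
  have h1 : x ^ (2 * m + 1) = 1 := hm ▸ pow_orderOf_eq_one x
  rwa [pow_add, pow_mul, pow_two, h, one_pow, one_mul, pow_one] at h1

/-- An involution fixing no nontrivial element of an odd group inverts it. -/
theorem inverts_of_no_fixed [Finite G] {O : Subgroup G} {w : G} (hw : w * w = 1)
    (hn : ∀ h ∈ O, w * h * w ∈ O) (hfix : ∀ h ∈ O, Commute w h → h = 1) :
    ∀ h ∈ O, w * h * w = h⁻¹ := by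
  intro h hh
  let f : ↥O → ↥O := fun k => ⟨(k : G)⁻¹ * (w * k * w), mul_mem (inv_mem k.2) (hn k k.2)⟩
  have hf : Function.Injective f := by
    intro k l e
    have e' : (k : G)⁻¹ * (w * k * w) = (l : G)⁻¹ * (w * l * w) := congrArg Subtype.val e
    have h1 : (l : G) * (k : G)⁻¹ = w * ((l : G) * (k : G)⁻¹) * w := by
      calc (l : G) * (k : G)⁻¹
          = (l : G) * ((k : G)⁻¹ * (w * k * w)) * (w⁻¹ * (k : G)⁻¹ * w⁻¹) := by group
        _ = w * l * w * (w⁻¹ * (k : G)⁻¹ * w⁻¹) := by rw [e']; group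
        _ = _ := by rw [inv_eq_of_mul_eq_one_right hw]; simp [mul_assoc, hw, reassoc hw]
    have hc : Commute w ((l : G) * (k : G)⁻¹) := by
      show w * _ = _ * w
      conv_rhs => rw [h1]
      rw [mul_assoc _ w w, hw, mul_one]
    exact Subtype.ext (mul_inv_eq_one.1 (hfix _ (mul_mem l.2 (inv_mem k.2)) hc)).symm
  obtain ⟨k, hk⟩ := Finite.surjective_of_injective hf ⟨h, hh⟩
  have e : (k : G)⁻¹ * (w * k * w) = h := congrArg Subtype.val hk
  rw [← e]
  have hwi : w⁻¹ = w := inv_eq_of_mul_eq_one_right hw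
  calc w * ((k : G)⁻¹ * (w * k * w)) * w = w * (k : G)⁻¹ * w * k * (w * w) := by group
    _ = _ := by rw [hw, mul_inv_rev, mul_inv_rev, mul_inv_rev, hwi, inv_inv]; group
where
  reassoc {w : G} (hw : w * w = 1) (x : G) : w * (w * x) = x := by rw [← mul_assoc, hw, one_mul]

namespace Coord

variable [Finite G] {z : G} (M : Coord z)

include M

/-- No conjugate in the centraliser of a pair product exchanges the pair. -/
theorem swap_absurd {a y : G} (ha : Mem z a) (hy : y ∈ cls z) (hswap : y * z * y⁻¹ = a) : False := by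
  classical
  have hy2 := M.cls_sq hy
  have hyz : ¬ Commute y z := fun h => ha.ne (by rw [← hswap, h.eq, mul_inv_cancel_right])
  have hswap' := conj_cancel hy2 hswap
  let T : Set G := M.fibre a \ {a}
  have hT : T.ncard = 3 := by
    show (M.fibre a \ {a}).ncard = 3
    rw [Set.ncard_sdiff_singleton_of_mem (show a ∈ M.fibre a from ⟨ha, rfl⟩), M.fibre_ncard ha]
  have hmap : ∀ b ∈ T, y * b * y⁻¹ ∈ T := by
    rintro b ⟨hb, hba⟩
    obtain ⟨hbm, hbr⟩ := (M.fibre_iff ha).1 hb
    obtain ⟨hr, hc⟩ := M.rel_rotate (self_mem_cls z) ha hbm hba hbr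
    have hr' := Rel.conj y hr
    rw [hswap', hswap] at hr'
    have hm : Mem z (y * b * y⁻¹) := by
      refine ⟨conj_mem_cls y hbm.cls, ?_, fun e => hba ?_⟩
      · have h := conj_commute y hc.symm
        rwa [hswap'] at h
      · rw [← hswap'] at e
        exact mul_left_cancel (mul_right_cancel e)
    refine ⟨(M.fibre_iff ha).2 ⟨hm, M.rel_symm hm.cls ha.cls hr'⟩, fun e => hbm.ne ?_⟩
    rw [Set.mem_singleton_iff, ← hswap] at e
    exact mul_left_cancel (mul_right_cancel e)
  let f : ↥T → ↥T := fun b => ⟨_, hmap b b.2⟩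
  have hinv : Function.Involutive f := fun b => Subtype.ext (conj_cancel hy2 rfl)
  haveI : Fact (Nat.Prime 2) := ⟨Nat.prime_two⟩
  haveI : Fintype ↥T := Fintype.ofFinite _
  have hodd : ¬ 2 ∣ Fintype.card ↥T := by
    rw [← Nat.card_eq_fintype_card, Nat.card_coe_set_eq, hT]
    norm_num
  obtain ⟨⟨w, hw⟩, hfix⟩ := Equiv.Perm.exists_fixed_point_of_prime (p := 2) (n := 1) hodd
    (σ := hinv.toPerm) (by rw [pow_one, pow_two]; exact Equiv.ext fun b => hinv b)
  have hyw : y * w * y⁻¹ = w := congrArg Subtype.val hfix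
  obtain ⟨hwf, hwa'⟩ := hw
  have hwa : w ≠ a := hwa'
  obtain ⟨hwm, hwr⟩ := (M.fibre_iff ha).1 hwf
  obtain ⟨hr1, hcaw⟩ := M.rel_rotate (self_mem_cls z) ha hwm hwa hwr
  have hma : ∀ {p : G}, Commute p a → p ∈ cls z → p ≠ a → Mem a p :=
    fun h1 h2 h3 => (M.mem_move ha.cls).2 ⟨h2, h1, h3⟩
  have hzw : Rel w z a := (M.rel_rotate ha.cls (hma hcaw.symm hwm.cls hwa)
    (hma ha.comm.symm (self_mem_cls z) ha.ne.symm) hwm.ne.symm hr1).1
  have hmw : ∀ {p : G}, Commute p w → p ∈ cls z → p ≠ w → Mem w p :=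
    fun h1 h2 h3 => (M.mem_move hwm.cls).2 ⟨h2, h1, h3⟩
  have hZ : Mem w z := hmw hwm.comm.symm (self_mem_cls z) hwm.ne.symm
  have hA : Mem w a := hmw hcaw ha.cls hwa.symm
  have hcy : Commute y w := mul_inv_eq_iff_eq_mul.1 hyw
  have hY : Mem w y := hmw hcy hy fun e => hyz (e ▸ hwm.comm)
  set M' := M.move hwm.cls
  refine hyz ((M'.commute_iff hY hZ).2 ?_)
  have e2 : M'.img (y * z * y⁻¹) = M'.img a := by rw [hswap]
  rw [M'.img_conj hY.comm hZ.comm, ← (M'.rel_iff hZ hA).1 hzw] at e2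
  exact mul_inv_eq_iff_eq_mul.1 e2

/-- The members commuting with `z` with a pair product equal to that of `z` and `a`. -/
theorem pair_members {a p q : G} (ha : Mem z a) (hp : p ∈ cls z) (hpz : Commute p z) (hq : q ∈ cls z)
    (hpq : p * q = z * a) : p = z ∨ p = a := by
  by_contra hcon
  push Not at hcon
  obtain ⟨hp1, hp2⟩ := hcon
  have hqe : q = p * (z * a) := by rw [← hpq, ← mul_assoc, M.cls_sq hp, one_mul]
  have hqz : Commute q z := by
    rw [hqe]; exact hpz.mul_left ((Commute.refl z).mul_left ha.comm)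
  have hqne : q ≠ z := by
    intro e
    rw [e, ← ha.comm.eq] at hpq
    exact hp2 (mul_right_cancel hpq)
  have P : Mem z p := ⟨hp, hpz, hp1⟩
  have Q : Mem z q := ⟨hq, hqz, hqne⟩
  have himg : M.img p * M.img q = M.img a := by
    rw [← M.img_mul hpz hqz, hpq, M.img_mul (Commute.refl z) ha.comm, M.img_J M.z_mem, one_mul]
  have hpq' : M.img p ≠ M.img q := fun e => M.img_ne ha (by rw [← himg, e, M.img_sq Q])
  obtain ⟨v, hvq, hvp⟩ : ∃ v, M.img q v = v ∧ M.img p v ≠ v := by
    by_contra hc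
    push Not at hc
    have hsub : {v | M.img q v = v} = {v | M.img p v = v} :=
      Set.eq_of_subset_of_ncard_le (fun v hv => hc v hv) (by rw [M.fix_count P, M.fix_count Q]) (Set.toFinite _)
    obtain ⟨l, hl, hl0⟩ : ∃ l ∈ M.Lset q, l ≠ 0 := by
      by_contra hc'
      push Not at hc'
      have : (M.Lset q).ncard ≤ 1 :=
        (Set.ncard_le_ncard (t := {0}) (fun v hv => hc' v hv) (Set.toFinite _)).trans_eq (Set.ncard_singleton _)
      rw [M.Lset_ncard Q] at this
      omega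
    have hlp : l ∈ M.Lset p := M.perp_mem P fun v hv =>
      M.Lset_perp Q hl (show v ∈ {v | M.img q v = v} by rw [hsub]; exact hv)
    exact hpq' (M.Lset_inter P Q hlp hl hl0)
  have hl0 : M.img p v + v ≠ 0 := fun e => hvp (eq_of_add e)
  have hla : M.img p v + v ∈ M.Lset a := ⟨v, by rw [← himg, Equiv.Perm.mul_apply, hvq]⟩
  have heq := M.Lset_inter P ha ⟨v, rfl⟩ hla hl0
  rw [← himg] at heq
  exact M.img_ne Q (mul_eq_left.1 heq.symm)

/-- Odd elements of the centraliser normalised by the centraliser of `a` in the core are trivial. -/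
theorem odd_cent_trivial {a : G} (ha : Mem z a) {O : Subgroup G} (hodd : Odd (Nat.card ↥O))
    (hnorm : ∀ y ∈ O2c z, Commute a y → ∀ h ∈ O, y * h * y⁻¹ ∈ O) {h : G} (hh : h ∈ O)
    (hc : Commute h z) : h = 1 := by
  haveI : Fact (Nat.Prime 2) := ⟨Nat.prime_two⟩
  have hodd' : ∀ x ∈ O, Odd (orderOf x) := fun x hx =>
    hodd.of_dvd_nat (Subgroup.orderOf_dvd_natCard O hx)
  have hJ : ∀ x ∈ O, x ∈ O2c z → x = 1 := by
    intro x hx hxJ
    obtain ⟨k, hk⟩ := M.ctr.pgroup ⟨x, hxJ⟩
    have hk' : x ^ 2 ^ k = 1 := by simpa using congrArg Subtype.val hk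
    obtain ⟨i, -, hi⟩ := (Nat.dvd_prime_pow Nat.prime_two).1 (orderOf_dvd_of_pow_eq_one hk')
    rcases i with _ | i
    · exact orderOf_eq_one_iff.1 (by simpa using hi)
    · refine absurd (hodd' x hx) ?_
      rw [hi, Nat.not_odd_iff_even]
      exact ⟨2 ^ i, by ring⟩
  have hfix : ∀ v, M.img a v = v → M.img h v = v := by
    intro v hv
    have hy := M.lift_mem v
    have hay : Commute a (M.lift v) := (M.commute_J_iff ha hy).2 (by rw [M.vec_lift, hv])
    have h1 : h * M.lift v * h⁻¹ * (M.lift v)⁻¹ ∈ O2c z := (M.commutator_J hc hy).1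
    have h2 : h * M.lift v * h⁻¹ * (M.lift v)⁻¹ ∈ O :=
      commutator_mem_of hh (hnorm _ hy hay _ (inv_mem hh))
    have := hJ _ h2 h1
    rw [mul_inv_eq_one, mul_inv_eq_iff_eq_mul] at this
    have h3 := M.fix_of_commute hc hy this
    rwa [M.vec_lift] at h3
  obtain ⟨he, hN⟩ := M.nat_of_mem ha
  obtain ⟨y, hy, h1a, -, hC, -⟩ := M.std ha
  have hg : (y * M.img h * y⁻¹ : Equiv.Perm W8) ∈ GN :=
    mul_mem (mul_mem (hN.le hy) (hN.le (M.img_mem h))) (inv_mem (hN.le hy))
  have himg : M.img h = 1 ∨ M.img h = M.img a := by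
    rcases N.fix0_group hg (fun w hw => by
      rw [Equiv.Perm.mul_apply, Equiv.Perm.mul_apply,
        hfix _ ((hC ((y⁻¹ : Equiv.Perm W8) w)).2 (by simpa using hw))]
      simp) with e | e
    · exact Or.inl (by simpa [mul_inv_eq_one] using e)
    · right
      refine Equiv.ext fun v => y.injective ?_
      rw [h1a, ← e]
      simp
  refine hJ h hh ((M.img_eq_one hc).1 ?_)
  have hsq : M.img (h * h) = 1 := by
    rw [M.img_mul hc hc]
    rcases himg with e | e <;> rw [e]
    · exact one_mul _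
    · exact M.img_sq ha
  have hhh : h * h = 1 := hJ _ (mul_mem hh hh) ((M.img_eq_one (hc.mul_left hc)).1 hsq)
  rw [odd_sq_one (hodd' h hh) hhh]
  exact M.img_J (one_mem _)

/-- The centraliser of a pair product fixes the pair. -/
theorem cent_pair {a g : G} (ha : Mem z a) (hg : Commute g (z * a)) :
    g * z * g⁻¹ = z ∨ g * z * g⁻¹ = a := by
  classical
  haveI : Fact (Nat.Prime 2) := ⟨Nat.prime_two⟩
  set j := z * a with hj
  have hzj : Commute z j := (Commute.refl z).mul_right ha.comm.symm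
  have haj : Commute a j := ha.comm.mul_right (Commute.refl a)
  have hjj : j * j = 1 := by
    rw [hj, mul_assoc, ← mul_assoc a z a, ha.comm.eq, mul_assoc z a a, M.cls_sq ha.cls, mul_one, M.zz]
  have hj1 : j ≠ 1 := fun e =>
    ha.ne ((eq_inv_of_mul_eq_one_right e).trans M.ctr.inv_self)
  let K : Subgroup G := centralizer ({j} : Set G)
  let j' : ↥K := ⟨j, mem_cent.2 (Commute.refl j)⟩
  let z' : ↥K := ⟨z, mem_cent.2 hzj⟩
  have hjc : j' ∈ center ↥K := mem_center_iff.2 fun k => Subtype.ext (mem_cent.1 k.2).eq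
  have hjo : orderOf j' = 2 :=
    orderOf_eq_prime (Subtype.ext (by simpa [pow_two] using hjj)) fun e => hj1 (congrArg Subtype.val e)
  have hzp : ∀ u : ↥K, u ∈ zpowers j' → (u : G) = 1 ∨ (u : G) = j := by
    intro u hu
    obtain ⟨k, rfl⟩ := Subgroup.mem_zpowers_iff.1 hu
    have h2 : j' ^ (2 : ℤ) = 1 := by
      rw [zpow_two]; exact Subtype.ext hjj
    rcases Int.even_or_odd' k with ⟨m, rfl | rfl⟩
    · left; rw [zpow_mul, h2, one_zpow]; rfl
    · right; rw [zpow_add_one, zpow_mul, h2, one_zpow, one_mul]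
  haveI hn : (zpowers j').Normal := by
    refine ⟨fun w hw k => ?_⟩
    rw [mem_center_iff.1 ((zpowers_le.2 hjc) hw) k, mul_inv_cancel_right]
    exact hw
  set π := QuotientGroup.mk' (zpowers j') with hπ
  -- isolation modulo the pair product
  have hiso : Cfsg.IsIsolatedInvolution (π z') := by
    refine ⟨orderOf_eq_prime ?_ ?_, ?_⟩
    · rw [← map_pow, show z' ^ 2 = 1 from Subtype.ext (by simpa [pow_two] using M.zz), map_one]
    · intro e
      rw [hπ, QuotientGroup.mk'_apply, QuotientGroup.eq_one_iff] at e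
      rcases hzp _ e with e' | e'
      · exact M.ne_one e'
      · exact M.cls_ne_one ha.cls (left_eq_mul.1 e')
    · intro gq hgq
      obtain ⟨k, rfl⟩ := QuotientGroup.mk'_surjective (zpowers j') gq
      rw [← map_inv, ← map_mul, ← map_mul] at hgq ⊢
      set y' := k * z' * k⁻¹ with hy'
      have hy : (y' : G) ∈ cls z := ⟨k, rfl⟩
      have hcom : π (z' * y' * (y' * z')⁻¹) = 1 := by
        rw [map_mul, map_inv, mul_inv_eq_one, map_mul, map_mul]; exact hgq
      rw [hπ, QuotientGroup.mk'_apply, QuotientGroup.eq_one_iff] at hcom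
      rcases hzp _ hcom with e | e
      · push_cast at e
        rw [mul_inv_eq_one] at e
        have hq : (k : G) * a * (k : G)⁻¹ ∈ cls z := conj_mem_cls _ ha.cls
        have hprod : (y' : G) * ((k : G) * a * (k : G)⁻¹) = z * a := by
          show (k : G) * z * (k : G)⁻¹ * ((k : G) * a * (k : G)⁻¹) = j
          rw [show (k : G) * z * (k : G)⁻¹ * ((k : G) * a * (k : G)⁻¹) = (k : G) * j * (k : G)⁻¹ by
            rw [hj]; group, (mem_cent.1 k.2).eq, mul_inv_cancel_right]
        rcases M.pair_members ha hy e.symm hq hprod with e' | e'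
        · exact congrArg π (Subtype.ext e')
        · rw [hπ, QuotientGroup.mk'_apply, QuotientGroup.mk'_apply, QuotientGroup.eq]
          have : y'⁻¹ * z' = j' := Subtype.ext (by
            push_cast
            rw [e', M.cls_inv ha.cls]
            show a * z = z * a
            exact ha.comm.eq)
          rw [this]
          exact mem_zpowers _
      · exfalso
        push_cast at e
        rw [mul_inv_rev, M.cls_inv hy, M.ctr.inv_self, hj] at e
        have e2 : (y' : G) * z * (y' : G) = z * a * z⁻¹ := by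
          calc (y' : G) * z * (y' : G) = z⁻¹ * (z * (y' : G) * (z * (y' : G))) := by group
            _ = z⁻¹ * (z * a) := by rw [e]
            _ = a := by group
            _ = z * a * z⁻¹ := by rw [← ha.comm.eq, mul_inv_cancel_right]
        rw [← ha.comm.eq, mul_inv_cancel_right] at e2
        exact M.swap_absurd ha hy (by rwa [M.cls_inv hy])
  -- no odd core
  let O : Subgroup G := (Cfsg.oddCore ↥K).map K.subtype
  have hOodd : Odd (Nat.card ↥O) := by
    rw [card_map_of_injective K.subtype_injective]; exact Cfsg.Agent.Cores.oddCore_odd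
  have hnormO : ∀ y, Commute y j → ∀ h ∈ O, y * h * y⁻¹ ∈ O := by
    rintro y hy _ ⟨h, hh, rfl⟩
    exact ⟨⟨y, mem_cent.2 hy⟩ * h * ⟨y, mem_cent.2 hy⟩⁻¹,
      (inferInstance : (Cfsg.oddCore ↥K).Normal).conj_mem h hh _, rfl⟩
  have hO1 : ∀ h ∈ O, h = 1 := by
    intro h hh
    obtain ⟨b1, b2, b3, hb1, hb2, hb3, n1, n2, n3, hprod⟩ := M.quintet ha
    have hinvz : ∀ {w : G}, w ∈ cls z → Commute w j →
        (∀ x ∈ O, Commute w x → x = 1) → ∀ x ∈ O, w * x * w = x⁻¹ := fun {w} hw hwj hf =>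
      inverts_of_no_fixed (M.cls_sq hw)
        (fun x hx => by simpa [M.cls_inv hw] using hnormO w hwj x hx) hf
    have iz : ∀ x ∈ O, z * x * z = x⁻¹ := hinvz (self_mem_cls z) hzj fun x hx hc =>
      M.odd_cent_trivial ha hOodd
        (fun y hy hay => hnormO y ((commute_of_O2c hy).mul_right hay.symm)) hx hc.symm
    have hza : Mem a z := (M.mem_move ha.cls).2 ⟨self_mem_cls z, ha.comm.symm, ha.ne.symm⟩
    have ia : ∀ x ∈ O, a * x * a = x⁻¹ := hinvz ha.cls haj fun x hx hc =>
      (M.move ha.cls).odd_cent_trivial hza hOodd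
        (fun y hy hzy => hnormO y (hzy.symm.mul_right (commute_of_O2c hy))) hx hc.symm
    have ib : ∀ {b : G}, b ∈ M.fibre a → b ≠ a → ∀ x ∈ O, b * x * b = x⁻¹ := by
      intro b hb hba
      obtain ⟨hbm, hbr⟩ := (M.fibre_iff ha).1 hb
      obtain ⟨hr1, hcab⟩ := M.rel_rotate (self_mem_cls z) ha hbm hba hbr
      have hzab : Rel b z a := (M.rel_rotate ha.cls
        ((M.mem_move ha.cls).2 ⟨hbm.cls, hcab.symm, hba⟩) hza hbm.ne.symm hr1).1
      refine hinvz hbm.cls (hbm.comm.mul_right hcab.symm) fun x hx hc => ?_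
      have hZ : Mem b z := (M.mem_move hbm.cls).2 ⟨self_mem_cls z, hbm.comm.symm, hbm.ne.symm⟩
      have hA : Mem b a := (M.mem_move hbm.cls).2 ⟨ha.cls, hcab, hba.symm⟩
      refine (M.move hbm.cls).odd_cent_trivial hZ hOodd (fun y hy hzy => hnormO y ?_) hx hc.symm
      have hf := ((M.move hbm.cls).commute_J_iff hZ hy).1 hzy
      rw [((M.move hbm.cls).rel_iff hZ hA).1 hzab] at hf
      exact hzy.symm.mul_right (((M.move hbm.cls).commute_J_iff hA hy).2 hf).symm
    have e1 : z * h * z = h := by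
      have hi : ∀ {b : G}, b ∈ M.fibre a → b⁻¹ = b := fun hb => M.cls_inv hb.1.cls
      calc z * h * z = z * h * z⁻¹ := by rw [M.ctr.inv_self]
        _ = a * (b1 * (b2 * (b3 * h * b3) * b2) * b1) * a := by
          rw [← hprod, mul_inv_rev, mul_inv_rev, mul_inv_rev, hi hb1, hi hb2, hi hb3, M.cls_inv ha.cls]
          group
        _ = h := by
          rw [ib hb3 n3 h hh, ib hb2 n2 _ (inv_mem hh), inv_inv, ib hb1 n1 h hh, ia _ (inv_mem hh), inv_inv]
    rw [iz h hh] at e1
    exact odd_sq_one (hOodd.of_dvd_nat (Subgroup.orderOf_dvd_natCard O hh))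
      (by rw [← mul_inv_cancel h, e1])
  -- the commutator
  let g' : ↥K := ⟨g, mem_cent.2 hg⟩
  have hmem := Cfsg.Agent.ZStar.Main.commutator_mem_oddCore hiso (π g')
  let P : Subgroup ↥K := (Cfsg.oddCore (↥K ⧸ zpowers j')).comap π
  have hP4 : ¬ 4 ∣ Nat.card ↥P := by
    show ¬ 4 ∣ Nat.card ↥((Cfsg.oddCore (↥K ⧸ zpowers j')).comap (QuotientGroup.mk' (zpowers j')))
    rw [Cfsg.Agent.Cores.card_comap_mk', Nat.card_zpowers, hjo]
    intro h4
    have ho : Odd (Nat.card ↥(Cfsg.oddCore (↥K ⧸ zpowers j'))) := Cfsg.Agent.Cores.oddCore_odd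
    rw [Nat.odd_iff] at ho
    omega
  have hjP : j' ∈ P := by
    rw [mem_comap, show π j' = 1 from (QuotientGroup.eq_one_iff _).2 (mem_zpowers _)]
    exact one_mem _
  have hcP : z' * g' * z'⁻¹ * g'⁻¹ ∈ P := by
    rw [mem_comap, map_mul, map_mul, map_mul, map_inv, map_inv]; exact hmem
  have hmap : ∀ u : ↥P, u ∈ Cfsg.oddCore ↥P → ((u : ↥K) : G) = 1 := by
    intro u hu
    haveI : P.Normal := Subgroup.Normal.comap inferInstance π
    haveI : (Cfsg.oddCore ↥P).Characteristic := by infer_instance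
    haveI := Cfsg.Agent.Cores.normal_map_subtype P (Cfsg.oddCore ↥P)
    have hle : (Cfsg.oddCore ↥P).map P.subtype ≤ Cfsg.oddCore ↥K := Cfsg.Agent.Cores.le_oddCore (by
      rw [card_map_of_injective P.subtype_injective]; exact Cfsg.Agent.Cores.oddCore_odd)
    exact hO1 _ ⟨(u : ↥K), hle ⟨u, hu, rfl⟩, rfl⟩
  have hPc : (⟨j', hjP⟩ : ↥P) ∈ center ↥P :=
    mem_center_iff.2 fun u => Subtype.ext (mem_center_iff.1 hjc u)
  have hPo : orderOf (⟨j', hjP⟩ : ↥P) = 2 := by rw [← Subgroup.orderOf_coe]; exact hjo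
  rcases mem_oddCore_mul hPc hPo hP4 ⟨_, hcP⟩ with hh | hh
  · have e : z * g * z⁻¹ * g⁻¹ = 1 := hmap _ hh
    left
    rw [mul_inv_eq_one, mul_inv_eq_iff_eq_mul] at e
    rw [← e, mul_inv_cancel_right]
  · have e : z * g * z⁻¹ * g⁻¹ * j = 1 := hmap _ hh
    right
    have e' : g * z * g⁻¹ = j * z := by
      calc g * z * g⁻¹ = (z * g * z⁻¹ * g⁻¹)⁻¹ * z := by group
        _ = j * z := by rw [eq_inv_of_mul_eq_one_left e, inv_inv]
    rw [e', hj, mul_assoc, ha.comm.eq, ← mul_assoc, M.zz, one_mul]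

theorem dihedral_mem {x y : G} (hx : x ∈ cls z) (hy : y ∈ cls z) :
    ∀ n : ℕ, x * (x * y) ^ n ∈ cls z
  | 0 => by simpa using hx
  | 1 => by rw [pow_one, ← mul_assoc, M.cls_sq hx, one_mul]; exact hy
  | n + 2 => by
    have h := conj_mem_cls (x * y)⁻¹ (dihedral_mem hx hy n)
    have e : (x * y)⁻¹ * (x * (x * y) ^ n) * (x * y)⁻¹⁻¹ = x * (x * y) ^ (n + 2) := by
      rw [inv_inv, mul_inv_rev, M.cls_inv hx, M.cls_inv hy, mul_assoc, mul_assoc x _ (x * y), ← pow_succ,
        pow_succ' (x * y) (n + 1)]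
      simp only [← mul_assoc]
      rw [mul_assoc y x x, M.cls_sq hx, mul_one]
      simp
    rwa [e] at h

theorem commute_or_odd_base {y : G} (hy : y ∈ cls z) : Commute z y ∨ Odd (orderOf (z * y)) := by
  rcases Nat.even_or_odd (orderOf (z * y)) with ⟨m, hm⟩ | h
  swap
  · exact Or.inr h
  left
  set j := (z * y) ^ m with hj
  have hjj : j * j = 1 := by rw [hj, ← pow_add, ← hm, pow_orderOf_eq_one]
  have hj1 : j ≠ 1 := by
    intro e
    have h1 := orderOf_pos (z * y)
    have h2 := Nat.le_of_dvd (by omega) (orderOf_dvd_of_pow_eq_one e)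
    omega
  have hzjz : z * j * z⁻¹ = j := by
    rw [hj, ← conj_pow, M.ctr.inv_self, ← mul_assoc, M.zz, one_mul]
    have e : (y * z) ^ m = ((z * y) ^ m)⁻¹ := by
      rw [← inv_pow, mul_inv_rev, M.ctr.inv_self, M.cls_inv hy]
    rw [e]
    exact inv_eq_of_mul_eq_one_right hjj
  have hzj : Commute z j := mul_inv_eq_iff_eq_mul.1 hzjz
  have ha : Mem z (z * j) := ⟨M.dihedral_mem (self_mem_cls z) hy m,
    (Commute.refl z).mul_left hzj.symm, fun e => hj1 (mul_eq_left.1 e)⟩
  have hjy : Commute y j := by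
    have h1 : Commute (z * y) j := (Commute.refl (z * y)).pow_right m
    have := hzj.mul_left h1
    rwa [← mul_assoc, M.zz, one_mul] at this
  rcases M.cent_pair ha (g := y) (by rwa [← mul_assoc, M.zz, one_mul]) with e | e
  · exact (mul_inv_eq_iff_eq_mul.1 e).symm
  · exact (M.swap_absurd ha hy e).elim

/-- Two conjugates commute or have product of odd order. -/
theorem commute_or_odd {x y : G} (hx : x ∈ cls z) (hy : y ∈ cls z) :
    Commute x y ∨ Odd (orderOf (x * y)) :=
  (M.move hx).commute_or_odd_base ((cls_eq hx).symm ▸ hy)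

end Coord

end Cfsg.Agent.ThreeTransp.U62Cent
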