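import Cfsg.Agent.Lib.ThreeTransp.U62Cent.Pairs

/-!
# The forty-five points seen from `z`
-/

set_option autoImplicit false
set_option maxRecDepth 100000
set_option linter.unusedSectionVars false

namespace Cfsg.Agent.ThreeTransp.U62Cent

open W8 Subgroup Cfsg.Agent.LargeExtra

universe u

variable {G : Type u} [Group G]

namespace N

/-- the transvections commute -/
def com (p r : W8) : Bool := basis.all fun v => tv p (tv r v) == tv r (tv p v)

/-- the line through two commuting points -/
def lineOf (p r : W8) : List W8 := pts.filter fun t => com p t && com r t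

theorem to_pts : ∀ v : W8, v = 0 ∨ qe true v = true ∨ ∃ p ∈ pts, cols (tv v) = cols (tv p) := by
  decide +kernel

theorem pts_sing : ∀ p ∈ pts, p ≠ 0 ∧ qe true p = false := by decide +kernel

theorem pts_inj : ∀ p ∈ pts, ∀ r ∈ pts, cols (tv p) = cols (tv r) → p = r := by decide +kernel

theorem pts_count : pts.length = 45 ∧ pts.Nodup := by decide +kernel

theorem com_count : ∀ p ∈ pts, (pts.filter fun r => com p r).length = 13 := by decide +kernel

theorem com_join : ∀ p ∈ pts, ∀ r ∈ pts, ∃ t ∈ pts, com p t = true ∧ com r t = true := by decide +kernel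

theorem com_or_braid : ∀ p ∈ pts, ∀ r ∈ pts, com p r = true ∨ braid p r = true := by decide +kernel

theorem line_spec : ∀ p ∈ pts, ∀ r ∈ pts, p = r ∨ com p r = false ∨
    ((lineOf p r).length = 5 ∧ ∀ s ∈ pts, ∃ t ∈ lineOf p r, com s t = true) := by decide +kernel

theorem com_comm {p r : W8} (h : com p r = true) : com r p = true := by
  simp only [com, List.all_eq_true, beq_iff_eq] at h ⊢
  exact fun v hv => (h v hv).symm

theorem com_self (p : W8) : com p p = true := by simp [com]

theorem com_apply {p r : W8} (h : com p r = true) (v : W8) : tv p (tv r v) = tv r (tv p v) := by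
  simp only [com, List.all_eq_true, beq_iff_eq] at h
  exact W8.basis_add v (f := fun v => tv p (tv r v)) (g := fun v => tv r (tv p v))
    (fun a b => by simp only [tv_add]) (fun a b => by simp only [tv_add]) h

theorem braid_apply {p r : W8} (h : braid p r = true) (v : W8) :
    tv p (tv r (tv p v)) = tv r (tv p (tv r v)) := by
  simp only [braid, List.all_eq_true, beq_iff_eq] at h
  exact W8.basis_add v (f := fun v => tv p (tv r (tv p v))) (g := fun v => tv r (tv p (tv r v)))
    (fun a b => by simp only [tv_add]) (fun a b => by simp only [tv_add]) h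

theorem mk_five : W8.mk 5 ∈ pts ∧ ∀ v, N.a0 v = tv (W8.mk 5) v :=
  ⟨by decide +kernel, fun _ => rfl⟩

end N

namespace Coord

variable [Finite G] {z : G} (M : Coord z)

include M

theorem exists_pt {a : G} (ha : Mem z a) : ∃ p ∈ pts, ∀ v, M.img a v = tv p v := by
  obtain ⟨he, hN⟩ := M.nat_of_mem ha
  obtain ⟨y, hy, e⟩ := M.img_class ha
  have hg := hN.le (inv_mem hy)
  set u := (y⁻¹ : Equiv.Perm W8) (W8.mk 5) with hu
  have h1 : ∀ v, M.img a v = tv u v := by
    intro v
    have h2 : y (M.img a v) = tv (W8.mk 5) (y v) := by rw [← N.mk_five.2, ← e]; simp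
    have h3 := tv_conj (g := (y⁻¹ : Equiv.Perm W8)) hg (W8.mk 5) (y v)
    rw [← h2, ← hu] at h3
    simpa using h3
  have hs := N.pts_sing _ N.mk_five.1
  have hu0 : u ≠ 0 := fun e0 => hs.1 (hg.injective (e0.trans hg.map_zero.symm))
  have huq : qe true u = false := by rw [hu, hg.q]; exact hs.2
  rcases N.to_pts u with e0 | e0 | ⟨p, hp, e0⟩
  · exact absurd e0 hu0
  · rw [huq] at e0; exact absurd e0 (by decide)
  · refine ⟨p, hp, fun v => ?_⟩
    rw [h1, W8.eq_app (tv_add u), W8.eq_app (tv_add p)]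
    exact congrArg (fun l => app l v) e0

/-- the point of a member -/
noncomputable def pt (a : G) : W8 :=
  letI := Classical.propDecidable (Mem z a)
  if h : Mem z a then (M.exists_pt h).choose else 0

theorem pt_mem {a : G} (ha : Mem z a) : M.pt a ∈ pts := by
  rw [pt, dif_pos ha]; exact (M.exists_pt ha).choose_spec.1

theorem img_pt {a : G} (ha : Mem z a) (v : W8) : M.img a v = tv (M.pt a) v := by
  rw [pt, dif_pos ha]; exact (M.exists_pt ha).choose_spec.2 v

theorem pt_eq_iff {a b : G} (ha : Mem z a) (hb : Mem z b) : M.pt a = M.pt b ↔ M.img a = M.img b := by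
  constructor
  · intro h
    exact Equiv.ext fun v => by rw [M.img_pt ha, M.img_pt hb, h]
  · intro h
    refine N.pts_inj _ (M.pt_mem ha) _ (M.pt_mem hb) (List.map_congr_left fun v _ => ?_)
    show tv (M.pt a) v = tv (M.pt b) v
    rw [← M.img_pt ha, ← M.img_pt hb, h]

theorem pt_rel {a b : G} (ha : Mem z a) (hb : Mem z b) : M.pt a = M.pt b ↔ Rel z a b :=
  (M.pt_eq_iff ha hb).trans (M.rel_iff ha hb).symm

theorem commute_pt {a b : G} (ha : Mem z a) (hb : Mem z b) :
    Commute a b ↔ N.com (M.pt a) (M.pt b) = true := by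
  rw [M.commute_iff ha hb]
  constructor
  · intro h
    simp only [N.com, List.all_eq_true, beq_iff_eq]
    intro v _
    simp only [← M.img_pt ha, ← M.img_pt hb]
    exact congrArg (fun s : Equiv.Perm W8 => s v) h.eq
  · intro h
    exact Equiv.ext fun v => by
      simp only [Equiv.Perm.mul_apply, M.img_pt ha, M.img_pt hb]
      exact N.com_apply h v

theorem exists_mem_pt {a : G} (ha : Mem z a) {p : W8} (hp : p ∈ pts) :
    ∃ b, Mem z b ∧ M.pt b = p := by
  obtain ⟨he, hN⟩ := M.nat_of_mem ha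
  obtain ⟨hp0, hpq⟩ := N.pts_sing p hp
  obtain ⟨hq0, hqq⟩ := N.pts_sing _ (M.pt_mem ha)
  obtain ⟨s, hs, e1⟩ := hN.trans5 hq0 hqq
  obtain ⟨r, hr, e2⟩ := hN.trans5 hp0 hpq
  obtain ⟨c, hc, hcy, hm, hi⟩ := M.exists_conj ha (y := r * s⁻¹) (mul_mem hr (inv_mem hs))
  refine ⟨_, hm, N.pts_inj _ (M.pt_mem hm) _ hp (List.map_congr_left fun v _ => ?_)⟩
  have hg := hN.le (mul_mem hr (inv_mem hs))
  have hpp : (r * s⁻¹ : Equiv.Perm W8) (M.pt a) = p := by rw [← e1]; simpa using e2
  have h3 := tv_conj (g := (r * s⁻¹ : Equiv.Perm W8)) hg (M.pt a) ((r * s⁻¹)⁻¹ v : W8)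
  rw [hpp] at h3
  show tv (M.pt (c * a * c⁻¹)) v = tv p v
  rw [← M.img_pt hm, hi, Equiv.Perm.mul_apply, Equiv.Perm.mul_apply, M.img_pt ha, h3]
  simp

theorem mem_count {a : G} (ha : Mem z a) (P : W8 → Bool) :
    {b | Mem z b ∧ P (M.pt b) = true}.ncard = 4 * (pts.filter P).length := by
  classical
  haveI : Fintype G := Fintype.ofFinite G
  set s : Finset G := Finset.univ.filter fun b => Mem z b ∧ P (M.pt b) = true with hs
  have hset : {b | Mem z b ∧ P (M.pt b) = true} = (s : Set G) := by ext b; simp [hs]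
  rw [hset, Set.ncard_coe_finset,
    Finset.card_eq_sum_card_fiberwise (t := (pts.filter P).toFinset) (f := M.pt) (fun b hb => by
      simp only [hs, Finset.coe_filter, Finset.mem_univ, true_and, Set.mem_setOf_eq] at hb
      exact List.mem_toFinset.2 (List.mem_filter.2 ⟨M.pt_mem hb.1, hb.2⟩)),
    Finset.sum_const_nat (m := 4) (fun p hp => ?_), List.toFinset_card_of_nodup (N.pts_count.2.filter _),
    mul_comm]
  obtain ⟨hp1, hp2⟩ := List.mem_filter.1 (List.mem_toFinset.1 hp)
  obtain ⟨b, hb, rfl⟩ := M.exists_mem_pt ha hp1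
  rw [← Set.ncard_coe_finset, ← M.fibre_ncard hb]
  congr 1
  ext c
  simp only [hs, Finset.coe_filter, Finset.mem_filter, Finset.mem_univ, true_and, Set.mem_setOf_eq]
  constructor
  · rintro ⟨⟨hc, -⟩, e⟩
    exact ⟨hc, (M.pt_eq_iff hc hb).1 e⟩
  · rintro ⟨hc, e⟩
    have e' := (M.pt_eq_iff hc hb).2 e
    exact ⟨⟨hc, by rw [e']; exact hp2⟩, e'⟩

end Coord

end Cfsg.Agent.ThreeTransp.U62Cent
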