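import Cfsg.Agent.Lib.ThreeTransp.U62Cent.ModMain

/-!
# The natural and the split module: coordinates
-/

set_option autoImplicit false

namespace Cfsg.Agent.ThreeTransp.U62Cent

open W8

namespace Mod

variable {V : Type*} [AddCommGroup V] [Finite V] (M : Mod V)

/-- `x` is fixed under conjugation by every element once it is by the generators. -/
theorem kj_all {x : AddMonoid.End V} (h : ∀ o ∈ ({Om.a, Om.b, Om.c, Om.f, Om.y, Om.g} : Set OmG),
    M.kj o x = x) (o : OmG) : M.kj o x = x := by
  have ho : o ∈ Subgroup.closure ({Om.a, Om.b, Om.c, Om.f, Om.y, Om.g} : Set OmG) := by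
    rw [Om.gen_top]; exact Subgroup.mem_top o
  induction ho using Subgroup.closure_induction with
  | mem o ho => exact h o ho
  | one => rw [kj_apply, map_one, inv_one, map_one, one_mul, mul_one]
  | mul o o' _ _ ih ih' => rw [kj_mul, ih', ih]
  | inv o _ ih =>
    conv_lhs => rw [← ih]
    rw [← kj_mul, inv_mul_cancel, kj_apply, map_one, inv_one, map_one, one_mul, mul_one]

theorem kj_of_comm {o : OmG} {x : AddMonoid.End V} (h : M.ρ o * x = x * M.ρ o) : M.kj o x = x := by
  rw [kj_apply, h, mul_assoc, ← map_mul, mul_inv_cancel, map_one, mul_one]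

namespace Tor

variable {M} {T : Type*} [CommRing T] (t : M.Tor T)

theorem sym_p0a {x : T} {o : OmG} (h : t.ι x = M.ρ o) (ho : o * o * o = 1) : M.Sym (t.ι (p0 x)) := by
  rw [map_p0, h]; exact M.sym_p0 ho

theorem sym_p1a {x : T} {o : OmG} (h : t.ι x = M.ρ o) (ho : o * o * o = 1) : M.Sym (t.ι (p1 x)) := by
  rw [map_p1, h]; exact M.sym_p1 ho

theorem sym_mul {x x' : T} (h : M.Sym (t.ι x)) (h' : M.Sym (t.ι x')) : M.Sym (t.ι (x * x')) := by
  rw [map_mul]
  exact h.mul M h' (by rw [← map_mul, ← map_mul, mul_comm])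

theorem ι_apply (x x' : T) (v : V) : t.ι (x * x') v = t.ι x (t.ι x' v) := by rw [map_mul]; rfl

theorem comm_ρ {x y : T} {o : OmG} (h : t.ι y = M.ρ o) : M.ρ o * t.ι x = t.ι x * M.ρ o := by
  rw [← h, ← map_mul, ← map_mul, mul_comm]

end Tor

set_option maxHeartbeats 1600000 in
/-- the natural module -/
theorem natural_case {T : Type*} [CommRing T] (t : M.Tor T) (hX : t.X true true true = 1)
    (hG : t.n (p0 (t.a * t.c) * (p0 (t.a * t.b) * t.X true true true)) = 4 ∧
      t.n (p0 (t.a * (t.c * t.c)) * (p0 (t.a * t.b) * t.X true true true)) = 4 ∧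
      t.n (p0 (t.a * t.c) * (p0 (t.a * (t.b * t.b)) * t.X true true true)) = 4 ∧
      t.n (p0 (t.a * (t.c * t.c)) * (p0 (t.a * (t.b * t.b)) * t.X true true true)) = 4) :
    ∃ Φ : W8 ≃+ V, (∀ v, M.q (Φ v) = qe true v) ∧ M.IsNatural Φ := by
  have h2 := t.two
  have hp : ∀ x y z : T, p1 x * (p1 y * p1 z) = 1 → x * x * x = 1 → p0 x = 0 := by
    intro x y z h hx
    linear_combination (p1 y * p1 z) * (p0_p1 h2 hx) - p0 x * h
  simp only [Tor.X, cond_true] at hX
  have pc : p0 t.c = 0 := hp _ _ _ hX t.c3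
  have pb : p0 t.b = 0 := hp t.b t.c t.a (by linear_combination hX) t.b3
  have pa : p0 t.a = 0 := hp t.a t.c t.b (by linear_combination hX) t.a3
  simp only [p0] at pa pb pc
  set a := t.a with hadef
  set b := t.b
  set c := t.c
  set u := a + b with hu
  set w := a + c with hw
  set S := a + b + c with hS
  set e := a * b * c with he
  have eu : p0 (a * b) = u := by
    simp only [p0]; grobner
  have ev : p0 (a * (b * b)) = 1 + u := by
    simp only [p0]
    grobner
  have ew : p0 (a * c) = w := by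
    simp only [p0]; grobner
  have er : p0 (a * (c * c)) = 1 + w := by
    simp only [p0]
    grobner
  rw [eu, ev, ew, er, show t.X true true true = 1 by simp only [Tor.X, cond_true]; exact hX,
    mul_one, mul_one] at hG
  have haa : a * a = a + 1 := by grobner
  have hbb : b * b = b + 1 := by grobner
  have hcc : c * c = c + 1 := by grobner
  have huu : u * u = u := by rw [hu]; grobner
  have hww : w * w = w := by rw [hw]; grobner
  have hSS : S * S = S + 1 := by
    rw [hS]; grobner
  -- the planes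
  let G : ℕ → T := fun k => [w * u, (1 + w) * u, w * (1 + u), (1 + w) * (1 + u)].getD k 0
  let β : ℕ → T := fun k => [a + 1, a + 1, a, a].getD k 0
  let γ : ℕ → T := fun k => [a + 1, a, a + 1, a].getD k 0
  let to' : ℕ → OmG := fun k => [Om.a, Om.a * Om.a, Om.a * Om.a, Om.a].getD k 1
  let tt : ℕ → T := fun k => [a, a * a, a * a, a].getD k 0
  have h0u : (1 + u) * u = 0 := by grobner
  have h0w : (1 + w) * w = 0 := by grobner
  have hGidem : ∀ k < 4, G k * G k = G k := by
    intro k hk
    interval_cases k <;> simp only [G, List.getD_cons_zero, List.getD_cons_succ]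
    · grobner
    · grobner
    · grobner
    · grobner
  have hGorth : ∀ k < 4, ∀ k' < 4, k ≠ k' → G k * G k' = 0 := by
    intro k hk k' hk' hne
    interval_cases k <;> interval_cases k' <;>
      simp only [G, List.getD_cons_zero, List.getD_cons_succ] <;>
      first
        | exact absurd rfl hne
        | grobner
        | grobner
        | grobner
        | grobner
        | grobner
  have hsum : G 0 + G 1 + G 2 + G 3 = 1 := by
    simp only [G, List.getD_cons_zero, List.getD_cons_succ]
    grobner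
  have hbG : ∀ k < 4, b * G k = β k * G k ∧ c * G k = γ k * G k := by
    intro k hk
    have t1 : (b + (a + 1)) * u = 0 := by rw [hu] at h0u ⊢; grobner
    have t2 : (b + a) * (1 + u) = 0 := by rw [hu] at h0u ⊢; grobner
    have t3 : (c + (a + 1)) * w = 0 := by rw [hw] at h0w ⊢; grobner
    have t4 : (c + a) * (1 + w) = 0 := by rw [hw] at h0w ⊢; grobner
    interval_cases k <;> simp only [G, β, γ, List.getD_cons_zero, List.getD_cons_succ] <;> constructor
    · grobner
    · grobner
    · grobner
    · grobner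
    · grobner
    · grobner
    · grobner
    · grobner
  have hSG : ∀ k < 4, S * G k = tt k * G k := by
    intro k hk
    obtain ⟨h1, h3⟩ := hbG k hk
    have hS' : S * G k = (a + β k + γ k) * G k := by rw [hS]; grobner
    rw [hS']
    interval_cases k <;> simp only [β, γ, tt, List.getD_cons_zero, List.getD_cons_succ]
    · grobner
    · grobner
    · grobner
    · grobner
  have heG : ∀ k < 4, e * G k = [a + 1, a, a, 1].getD k 0 * G k := by
    intro k hk
    obtain ⟨h1, h3⟩ := hbG k hk
    have he' : e * G k = (a * β k * γ k) * G k := by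
      rw [he]; grobner
    rw [he']
    interval_cases k <;> simp only [β, γ, List.getD_cons_zero, List.getD_cons_succ]
    · grobner
    · grobner
    · grobner
    · grobner
  have heG3 : p0 e = G 3 := by
    have k0 := heG 0 (by norm_num); have k1 := heG 1 (by norm_num); have k2 := heG 2 (by norm_num)
    have k3 := heG 3 (by norm_num)
    simp only [List.getD_cons_zero, List.getD_cons_succ] at k0 k1 k2 k3
    simp only [p0]
    grobner
  have he2 : e * e * (1 + G 3) = S * (1 + G 3) := by
    have key : ∀ k, k = 0 ∨ k = 1 ∨ k = 2 → e * e * G k = S * G k := by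
      intro k hk
      have h4 : k < 4 := by omega
      have k' := heG k h4
      have s' := hSG k h4
      rw [s']
      rcases hk with rfl | rfl | rfl <;>
        simp only [tt, List.getD_cons_zero, List.getD_cons_succ] at k' ⊢
      · grobner
      · grobner
      · grobner
    have k0 := key 0 (by omega); have k1 := key 1 (by omega); have k2 := key 2 (by omega)
    grobner
  -- the scalar commutes with the group
  have hSrot : M.kj Om.y (t.ι S) = t.ι S := by
    obtain ⟨y1, y2, y3⟩ := t.ky
    rw [show S = a + b + c from rfl, map_add, map_add, map_add, map_add, y1, y2, y3, ← map_add,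
      ← map_add, ← map_add, ← map_add]
    exact congrArg t.ι (by ring)
  have hSf : M.kj Om.f (t.ι S) = t.ι S := by
    obtain ⟨f1, f2, f3⟩ := t.kf
    rw [show S = a + b + c from rfl, map_add, map_add, map_add, map_add, f1, f2, f3, ← map_add,
      ← map_add, ← map_add, ← map_add]
    exact congrArg t.ι (by grobner)
  have hSg : M.kj Om.g (t.ι S) = t.ι S := by
    obtain ⟨hg3, hge⟩ := Om.rels.2.2.2.2.1
    have hιe : t.ι e = M.ρ (Om.a * Om.b * Om.c) := by
      rw [he, map_mul, map_mul, t.ha, t.hb, t.hc, ← map_mul, ← map_mul]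
    have hke : M.kj Om.g (t.ι e) = t.ι e := by rw [hιe]; exact M.kj_ρ _ _ _ hge
    have hkG : M.kj Om.g (t.ι (G 3)) = t.ι (G 3) := by
      rw [← heG3, map_p0, map_p0 (M.kj Om.g), hke]
    have hG3 : sz (t.ι (G 3)) = 4 := hG.2.2.2
    have hA : M.ρ Om.g * (t.ι a * t.ι (G 3)) = t.ι a * t.ι (G 3) * M.ρ Om.g := by
      refine M.comm_on_plane ?_ hG3 (by rw [← map_mul, ← map_mul, mul_comm]) ?_ ?_
        (M.kj_comm hkG) ?_
      · rw [← map_mul, hGidem 3 (by norm_num)]
      · rw [← map_mul, ← map_mul, t.a3, map_one]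
      · rw [← map_p0, ← map_mul, show p0 a = 0 by simp only [p0]; exact pa, zero_mul, map_zero]
      · rw [← map_mul, ← map_mul, hg3, map_one]
    have hsplit : S = e * e * (1 + G 3) + a * G 3 := by
      have h3 := hSG 3 (by norm_num)
      simp only [tt, List.getD_cons_zero, List.getD_cons_succ] at h3
      grobner
    have k1 : M.kj Om.g (t.ι (e * e * (1 + G 3))) = t.ι (e * e * (1 + G 3)) := by
      simp only [map_mul, map_add, map_one, hke, hkG]
    have k2 : M.kj Om.g (t.ι (a * G 3)) = t.ι (a * G 3) := by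
      rw [map_mul]; exact M.kj_of_comm hA
    rw [hsplit, map_add, map_add, k1, k2]
  have hSall : ∀ o, M.kj o (t.ι S) = t.ι S := by
    refine M.kj_all fun o ho => ?_
    rcases ho with rfl | rfl | rfl | rfl | rfl | rfl
    exacts [M.kj_of_comm (t.comm_ρ t.ha), M.kj_of_comm (t.comm_ρ t.hb), M.kj_of_comm (t.comm_ρ t.hc),
      hSf, hSrot, hSg]
  -- bases of the planes
  have hsym : ∀ k < 4, M.Sym (t.ι (G k)) := by
    intro k hk
    have hs1 : M.Sym (t.ι u) := by
      rw [← eu]; exact t.sym_p0a (o := Om.a * Om.b) (by rw [map_mul, t.ha, t.hb, ← map_mul]) (by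
        apply M.inj; rw [map_mul, map_mul, map_mul, ← t.ha, ← t.hb, ← map_mul, ← map_mul, ← map_mul,
          show t.a * t.b * (t.a * t.b) * (t.a * t.b) = 1 by grobner, map_one])
    have hs2 : M.Sym (t.ι w) := by
      rw [← ew]; exact t.sym_p0a (o := Om.a * Om.c) (by rw [map_mul, t.ha, t.hc, ← map_mul]) (by
        apply M.inj; rw [map_mul, map_mul, map_mul, ← t.ha, ← t.hc, ← map_mul, ← map_mul, ← map_mul,
          show t.a * t.c * (t.a * t.c) * (t.a * t.c) = 1 by grobner, map_one])
    have hs : ∀ {x : T}, M.Sym (t.ι x) → M.Sym (t.ι (1 + x)) := fun h => by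
      rw [map_add, map_one]; exact (M.sym_one).add M h
    interval_cases k <;> simp only [G, List.getD_cons_zero, List.getD_cons_succ]
    exacts [t.sym_mul hs2 hs1, t.sym_mul (hs hs2) hs1, t.sym_mul hs2 (hs hs1),
      t.sym_mul (hs hs2) (hs hs1)]
  have hbase : ∀ k < 4, ∃ p, t.ι (G k) p = p ∧ t.ι (G k) (t.ι S p) = t.ι S p ∧
      M.b p (t.ι S p) = true ∧ M.q p = true ∧ M.q (t.ι S p) = true := by
    intro k hk
    have hsz : sz (t.ι (G k)) = 4 := by
      interval_cases k <;> simp only [G, List.getD_cons_zero, List.getD_cons_succ]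
      exacts [hG.1, hG.2.1, hG.2.2.1, hG.2.2.2]
    have hto : t.ι (tt k) = M.ρ (to' k) ∧ to' k * to' k * to' k = 1 ∧ p0 (tt k) = 0 := by
      have h6 : Om.a * Om.a * (Om.a * Om.a) * (Om.a * Om.a) = 1 := by
        rw [show Om.a * Om.a * (Om.a * Om.a) * (Om.a * Om.a) =
          Om.a * Om.a * Om.a * (Om.a * Om.a * Om.a) by simp only [mul_assoc], Om.rels.1.1, one_mul]
      have hpa : p0 a = 0 := by simp only [p0]; exact pa
      interval_cases k <;> simp only [tt, to', List.getD_cons_zero, List.getD_cons_succ]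
      exacts [⟨t.ha, Om.rels.1.1, hpa⟩, ⟨by rw [map_mul, t.ha, ← map_mul], h6, by rw [p0_sq h2 t.a3, hpa]⟩,
        ⟨by rw [map_mul, t.ha, ← map_mul], h6, by rw [p0_sq h2 t.a3, hpa]⟩, ⟨t.ha, Om.rels.1.1, hpa⟩]
    obtain ⟨ho, ho3, ho0⟩ := hto
    obtain ⟨p, h1, h3, h4, h5, h6, -⟩ := M.plane_t (e := t.ι (G k))
      (by rw [← map_mul, hGidem k hk]) (hsym k hk) hsz ho3 (t.comm_ρ ho)
      (by rw [← ho, ← map_p0, ← map_mul, ho0, zero_mul, map_zero])
    have hSp : t.ι S p = M.ρ (to' k) p := by
      rw [← ho]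
      conv_lhs => rw [← h1, ← t.ι_apply, hSG k hk, t.ι_apply, h1]
    exact ⟨p, h1, by rw [hSp]; exact h3, by rw [hSp]; exact h4, h5, by rw [hSp]; exact h6⟩
  choose! p hp using hbase
  have hq : ∀ i < 8, qe true (W8.e i) = true := by decide +kernel
  obtain ⟨Φ, hΦ, hbas⟩ := M.coords_of_planes (fun k => t.ι (G k)) hsym
    (fun k hk k' hk' hne => by rw [← map_mul, hGorth k hk k' hk' hne, map_zero]) p
    (fun k => t.ι S (p k)) true
    (fun k hk => ⟨(hp k hk).1, (hp k hk).2.1, (hp k hk).2.2.1,
      by rw [(hp k hk).2.2.2.1, hq _ (by omega)], by rw [(hp k hk).2.2.2.2, hq _ (by omega)]⟩)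
  refine ⟨Φ, hΦ, fun x v => ?_⟩
  have hΦS : ∀ v, Φ (sig v) = t.ι S (Φ v) := by
    have hs : ∀ k < 4, sig (W8.e (2 * k)) = W8.e (2 * k + 1) ∧
        sig (W8.e (2 * k + 1)) = W8.e (2 * k + 1) + W8.e (2 * k) := by decide +kernel
    intro v
    refine congrArg Φ ?_ |>.trans (Φ.apply_symm_apply _)
    refine W8.basis_add v (f := sig) (g := fun v => Φ.symm (t.ι S (Φ v))) sig_add ?_ ?_
    · intro v w; simp only [map_add]
    · intro u hu
      obtain ⟨i, hi, rfl⟩ := List.mem_map.1 hu
      rw [List.mem_range] at hi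
      obtain ⟨k, hk, rfl | rfl⟩ : ∃ k < 4, i = 2 * k ∨ i = 2 * k + 1 :=
        ⟨i / 2, by omega, by omega⟩
      · simp only [(hbas k hk).1, (hs k hk).1]
        exact (Φ.symm_apply_eq.2 (hbas k hk).2.symm).symm
      · simp only [(hbas k hk).2, (hs k hk).2]
        rw [← t.ι_apply, hSS]
        refine (Φ.symm_apply_eq.2 ?_).symm
        rw [map_add Φ, (hbas k hk).1, (hbas k hk).2, map_add t.ι, map_one]
        rfl
  rw [hΦS, hΦS, Φ.apply_symm_apply]
  exact congrArg (fun f : AddMonoid.End V => f (Φ v)) (M.kj_comm (hSall x))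

end Mod

end Cfsg.Agent.ThreeTransp.U62Cent
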