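import Cfsg.Agent.Lib.ThreeTransp.U62Cent.Split

/-!
# The split module, and the dichotomy
-/

set_option autoImplicit false

namespace Cfsg.Agent.ThreeTransp.U62Cent

open W8

namespace Mod

variable {V : Type*} [AddCommGroup V] [Finite V] (M : Mod V)

/-- An idempotent with four values commuting with the action has trivial action on its range. -/
theorem fix_range {K : AddMonoid.End V} (hK : K * K = K) (h4 : sz K = 4) (hc : ∀ o, M.kj o K = K)
    (o : OmG) {v : V} (hv : K v = v) : M.ρ o v = v := by
  haveI hsimp : IsSimpleGroup OmG := Cfsg.Agent.SuzukiType.omega_simple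
  have hstab : ∀ (o : OmG) (x : Set.range K), M.ρ o (x : V) ∈ Set.range K := by
    rintro o ⟨_, u, rfl⟩
    exact ⟨M.ρ o u, congrArg (fun f : AddMonoid.End V => f u) (M.kj_comm (hc o)).symm⟩
  let φ : OmG →* Equiv.Perm (Set.range K) :=
    { toFun := fun o =>
        { toFun := fun x => ⟨M.ρ o x, hstab o x⟩
          invFun := fun x => ⟨M.ρ o⁻¹ x, hstab o⁻¹ x⟩
          left_inv := fun x => Subtype.ext (by
            show (M.ρ o⁻¹ * M.ρ o) (x : V) = x
            rw [← map_mul, inv_mul_cancel, map_one]; rfl)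
          right_inv := fun x => Subtype.ext (by
            show (M.ρ o * M.ρ o⁻¹) (x : V) = x
            rw [← map_mul, mul_inv_cancel, map_one]; rfl) }
      map_one' := Equiv.ext fun x => Subtype.ext (by
        show M.ρ 1 (x : V) = x
        rw [map_one]; rfl)
      map_mul' := fun o o' => Equiv.ext fun x => Subtype.ext (by
        show M.ρ (o * o') (x : V) = M.ρ o (M.ρ o' (x : V))
        rw [map_mul]; rfl) }
  rcases φ.normal_ker.eq_bot_or_eq_top with hk | hk
  · exfalso
    have h := Nat.card_le_card_of_injective φ (φ.ker_eq_bot_iff.1 hk)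
    rw [Cfsg.Agent.SuzukiType.card_omega, Nat.card_perm,
      show Nat.card (Set.range K) = 4 from h4] at h
    norm_num at h
  · have ho : φ o = 1 := MonoidHom.mem_ker.1 (by rw [hk]; exact Subgroup.mem_top o)
    exact congrArg (fun σ : Equiv.Perm (Set.range K) => ((σ ⟨v, v, hv⟩ : Set.range K) : V)) ho

set_option maxHeartbeats 1600000 in
/-- the split module -/
theorem split_case {T : Type*} [CommRing T] (t : M.Tor T)
    (h110 : t.X true true false = 0) (h111 : t.X true true true = 0)
    (h101 : t.X true false true = 0) (h011 : t.X false true true = 0)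
    (hn : t.n (t.X true false false) = 4 ∧ t.n (t.X false true false) = 4 ∧
      t.n (t.X false false true) = 4 ∧ t.n (t.X false false false) = 4) :
    ∃ (Φ : W8 ≃+ V) (e : Bool), (∀ v, M.q (Φ v) = qe e v) ∧ M.IsSplit Φ := by
  have h2 := t.two
  have hA := p0_idem h2 t.a3
  have hB := p0_idem h2 t.b3
  have hC := p0_idem h2 t.c3
  have hA1 : p1 t.a * p1 t.a = p1 t.a := by rw [← Tor.one_p0 t]; grobner
  have hB1 : p1 t.b * p1 t.b = p1 t.b := by rw [← Tor.one_p0 t]; grobner
  have hC1 : p1 t.c * p1 t.c = p1 t.c := by rw [← Tor.one_p0 t]; grobner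
  have hA0 := p0_p1 h2 t.a3
  have hB0 := p0_p1 h2 t.b3
  have hC0 := p0_p1 h2 t.c3
  let G : ℕ → T := fun k =>
    [t.X true false false, t.X false true false, t.X false false true, t.X false false false].getD k 0
  let rot : ℕ → OmG := fun k => [Om.a, Om.b, Om.c].getD k 1
  let tv : ℕ → T := fun k => [t.a, t.b, t.c].getD k 1
  have hGidem : ∀ k < 4, G k * G k = G k := by
    intro k hk
    interval_cases k <;> simp only [G, Tor.X, cond_true, cond_false, List.getD_cons_zero,
      List.getD_cons_succ] <;> grobner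
  have hGorth : ∀ k < 4, ∀ k' < 4, k ≠ k' → G k * G k' = 0 := by
    intro k hk k' hk' hne
    interval_cases k <;> interval_cases k' <;>
      simp only [G, Tor.X, cond_true, cond_false, List.getD_cons_zero, List.getD_cons_succ] <;>
      first
        | exact absurd rfl hne
        | grobner
  have hsum : G 0 + G 1 + G 2 + G 3 = 1 := by
    have h := t.sum_X
    rw [h110, h111, h101, h011] at h
    simp only [G, List.getD_cons_zero, List.getD_cons_succ]
    linear_combination -h
  have hsym : ∀ k < 4, M.Sym (t.ι (G k)) := by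
    obtain ⟨ra, rb, rc⟩ := Om.rels.1
    intro k hk
    interval_cases k <;> simp only [G, Tor.X, cond_true, cond_false, List.getD_cons_zero,
      List.getD_cons_succ]
    exacts [t.sym_mul (t.sym_p0a t.hc rc) (t.sym_mul (t.sym_p0a t.hb rb) (t.sym_p1a t.ha ra)),
      t.sym_mul (t.sym_p0a t.hc rc) (t.sym_mul (t.sym_p1a t.hb rb) (t.sym_p0a t.ha ra)),
      t.sym_mul (t.sym_p1a t.hc rc) (t.sym_mul (t.sym_p0a t.hb rb) (t.sym_p0a t.ha ra)),
      t.sym_mul (t.sym_p0a t.hc rc) (t.sym_mul (t.sym_p0a t.hb rb) (t.sym_p0a t.ha ra))]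
  have hsz : ∀ k < 4, sz (t.ι (G k)) = 4 := by
    intro k hk
    interval_cases k <;> simp only [G, List.getD_cons_zero, List.getD_cons_succ]
    exacts [hn.1, hn.2.1, hn.2.2.1, hn.2.2.2]
  -- the three planes
  have hplane : ∀ k < 3, ∃ p p', t.ι (G k) p = p ∧ t.ι (G k) p' = p' ∧ M.b p p' = true ∧
      M.q p = true ∧ M.q p' = true := by
    intro k hk
    have hto : t.ι (tv k) = M.ρ (rot k) ∧ rot k * rot k * rot k = 1 ∧ p0 (tv k) * G k = 0 := by
      obtain ⟨ra, rb, rc⟩ := Om.rels.1
      interval_cases k <;> simp only [tv, rot, G, Tor.X, cond_true, cond_false,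
        List.getD_cons_zero, List.getD_cons_succ]
      exacts [⟨t.ha, ra, by grobner⟩, ⟨t.hb, rb, by grobner⟩, ⟨t.hc, rc, by grobner⟩]
    obtain ⟨ho, ho3, ho0⟩ := hto
    obtain ⟨p, h1, h3, h4, h5, h6, -⟩ := M.plane_t (e := t.ι (G k))
      (by rw [← map_mul, hGidem k (by omega)]) (hsym k (by omega)) (hsz k (by omega)) ho3
      (t.comm_ρ ho) (by rw [← ho, ← map_p0, ← map_mul, ho0, map_zero])
    exact ⟨p, _, h1, h3, h4, h5, h6⟩
  -- the fixed plane
  obtain ⟨e, p, p', hp, hp', hbp, hq, hq'⟩ : ∃ e p p', t.ι (G 3) p = p ∧ t.ι (G 3) p' = p' ∧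
      M.b p p' = true ∧ M.q p = qe e (W8.e 6) ∧ M.q p' = qe e (W8.e 7) := by
    obtain ⟨p, p', hp, hp', hbp⟩ := M.plane_basis (e := t.ι (G 3))
      (by rw [← map_mul, hGidem 3 (by norm_num)]) (hsym 3 (by norm_num)) (hsz 3 (by norm_num))
    have hsum' : t.ι (G 3) (p + p') = p + p' := by rw [map_add, hp, hp']
    have hqs := M.q_add p p'
    rw [hbp] at hqs
    have ht : qe true (W8.e 6) = true ∧ qe true (W8.e 7) = true ∧ qe false (W8.e 6) = false ∧
        qe false (W8.e 7) = false := by decide +kernel
    rcases Bool.eq_false_or_eq_true (M.q p) with h | h <;>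
      rcases Bool.eq_false_or_eq_true (M.q p') with h' | h' <;> rw [h, h'] at hqs
    · exact ⟨true, p, p', hp, hp', hbp, by rw [h, ht.1], by rw [h', ht.2.1]⟩
    · refine ⟨false, p', p + p', hp', hsum', ?_, by rw [h', ht.2.2.1], by rw [hqs, ht.2.2.2]; rfl⟩
      rw [M.b_add_right, M.b_self, Bool.xor_false, M.b_comm, hbp]
    · refine ⟨false, p, p + p', hp, hsum', ?_, by rw [h, ht.2.2.1], by rw [hqs, ht.2.2.2]; rfl⟩
      rw [M.b_add_right, M.b_self, Bool.false_xor, hbp]
    · exact ⟨false, p, p', hp, hp', hbp, by rw [h, ht.2.2.1], by rw [h', ht.2.2.2]⟩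
  choose! P P' hP using hplane
  obtain ⟨Φ, hΦ, hbas⟩ := M.coords_of_planes (fun k => t.ι (G k)) hsym
    (fun k hk k' hk' hne => by rw [← map_mul, hGorth k hk k' hk' hne, map_zero])
    (fun k => if k = 3 then p else P k) (fun k => if k = 3 then p' else P' k) e
    (fun k hk => by
      by_cases h : k = 3
      · subst h
        simp only [if_true]
        exact ⟨hp, hp', hbp, hq, hq'⟩
      · simp only [if_neg h]
        obtain ⟨h1, h3, h4, h5, h6⟩ := hP k (by omega)
        have hq : ∀ e : Bool, ∀ i < 6, qe e (W8.e i) = true := by decide +kernel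
        exact ⟨h1, h3, h4, by rw [h5, hq e _ (by omega)], by rw [h6, hq e _ (by omega)]⟩)
  -- the projection to the fixed plane
  have hkK : ∀ o, M.kj o (t.ι (G 3)) = t.ι (G 3) := by
    obtain ⟨hg3, hge⟩ := Om.rels.2.2.2.2.1
    refine M.kj_all fun o ho => ?_
    rcases ho with rfl | rfl | rfl | rfl | rfl | rfl
    · exact M.kj_of_comm (t.comm_ρ t.ha)
    · exact M.kj_of_comm (t.comm_ρ t.hb)
    · exact M.kj_of_comm (t.comm_ρ t.hc)
    · obtain ⟨f1, f2, f3⟩ := t.kf
      simp only [G, Tor.X, cond_false, List.getD_cons_zero, List.getD_cons_succ, map_mul, map_p0,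
        f1, f2, f3]
      rw [p0_sq' (by rw [← map_mul, ← map_mul, t.b3, map_one]),
        p0_sq' (by rw [← map_mul, ← map_mul, t.a3, map_one])]
    · obtain ⟨y1, y2, y3⟩ := t.ky
      simp only [G, Tor.X, cond_false, List.getD_cons_zero, List.getD_cons_succ, map_mul, map_p0,
        y1, y2, y3]
      rw [← map_p0, ← map_p0, ← map_p0, ← map_mul, ← map_mul, ← map_mul, ← map_mul]
      exact congrArg t.ι (by ring)
    · have hGe : p0 (t.a * t.b * t.c) = G 3 := by
        have ma := mul_p0 h2 t.a3
        have mb := mul_p0 h2 t.b3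
        have mc := mul_p0 h2 t.c3
        have za : (1 + t.a + t.a * t.a) * p1 t.a = 0 := hA0
        have zb : (1 + t.b + t.b * t.b) * p1 t.b = 0 := hB0
        have zc : (1 + t.c + t.c * t.c) * p1 t.c = 0 := hC0
        have he : p0 (t.a * t.b * t.c) =
            1 + t.a * t.b * t.c + t.a * t.b * t.c * (t.a * t.b * t.c) := rfl
        have k1 : p0 (t.a * t.b * t.c) * G 0 = 0 := by
          simp only [G, Tor.X, cond_true, cond_false, List.getD_cons_zero, he]
          clear * - ma mb mc za zb zc
          grobner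
        have k2 : p0 (t.a * t.b * t.c) * G 1 = 0 := by
          simp only [G, Tor.X, cond_true, cond_false, List.getD_cons_zero, List.getD_cons_succ, he]
          clear * - ma mb mc za zb zc
          grobner
        have k3 : p0 (t.a * t.b * t.c) * G 2 = 0 := by
          simp only [G, Tor.X, cond_true, cond_false, List.getD_cons_zero, List.getD_cons_succ, he]
          clear * - ma mb mc za zb zc
          grobner
        have k4 : p0 (t.a * t.b * t.c) * G 3 = G 3 := by
          simp only [G, Tor.X, cond_false, List.getD_cons_zero, List.getD_cons_succ, he]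
          clear * - ma mb mc h2
          grobner
        linear_combination -(p0 (t.a * t.b * t.c)) * hsum + k1 + k2 + k3 + k4
      have hιe : t.ι (t.a * t.b * t.c) = M.ρ (Om.a * Om.b * Om.c) := by
        rw [map_mul, map_mul, t.ha, t.hb, t.hc, ← map_mul, ← map_mul]
      rw [← hGe, map_p0, map_p0 (M.kj Om.g), hιe, M.kj_ρ _ _ _ hge]
  have hfix : ∀ x v, t.ι (G 3) v = v → M.ρ x v = v :=
    fun x v hv => M.fix_range (by rw [← map_mul, hGidem 3 (by norm_num)]) (hsz 3 (by norm_num)) hkK x hv
  have h6 : Φ (W8.e 6) = p := by simpa using (hbas 3 (by norm_num)).1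
  have h7 : Φ (W8.e 7) = p' := by simpa using (hbas 3 (by norm_num)).2
  -- the projection in coordinates
  set prj : W8 → W8 := app [0, 0, 0, 0, 0, 0, W8.e 6, W8.e 7] with hprj
  have hproj : ∀ v, t.ι (G 3) (Φ v) = Φ (prj v) := by
    intro v
    refine Φ.symm_apply_eq.1 ?_
    refine W8.basis_add v (f := fun v => Φ.symm (t.ι (G 3) (Φ v))) (g := prj)
      (fun v w => by simp only [map_add]) (app_add _) ?_
    intro u hu
    obtain ⟨i, hi, rfl⟩ := List.mem_map.1 hu
    rw [List.mem_range] at hi
    have hpe : ∀ i < 8, app [0, 0, 0, 0, 0, 0, W8.e 6, W8.e 7] (W8.e i) =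
        if 6 ≤ i then W8.e i else 0 := by decide +kernel
    rw [hprj, hpe i hi]
    refine Φ.symm_apply_eq.2 ?_
    by_cases h : 6 ≤ i
    · rw [if_pos h]
      interval_cases i
      · rw [h6, hp]
      · rw [h7, hp']
    · rw [if_neg h, map_zero]
      have horth : ∀ k < 3, ∀ q, t.ι (G k) q = q → t.ι (G 3) q = 0 := by
        intro k hk q hq
        rw [← hq, ← t.ι_apply, hGorth 3 (by norm_num) k (by omega) (by omega), map_zero]
        rfl
      obtain ⟨k, hk, rfl | rfl⟩ : ∃ k < 3, i = 2 * k ∨ i = 2 * k + 1 := ⟨i / 2, by omega, by omega⟩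
      · rw [(hbas k (by omega)).1, if_neg (by omega)]; exact horth k hk _ (hP k hk).1
      · rw [(hbas k (by omega)).2, if_neg (by omega)]; exact horth k hk _ (hP k hk).2.1
  refine ⟨Φ, e, hΦ, fun x v hv => ?_, fun x => ⟨?_, ?_⟩⟩
  · have hiff : ∀ v : W8, v.pl 3 = 0 ↔ app [0, 0, 0, 0, 0, 0, W8.e 6, W8.e 7] v = 0 := by
      decide +kernel
    rw [hiff, ← hprj] at hv ⊢
    apply Φ.injective
    rw [← hproj, Φ.apply_symm_apply, map_zero,
      show t.ι (G 3) (M.ρ x (Φ v)) = M.ρ x (t.ι (G 3) (Φ v)) from
        (congrArg (fun f : AddMonoid.End V => f (Φ v)) (M.kj_comm (hkK x))).symm,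
      hproj, hv, map_zero, map_zero]
  · rw [h6]; exact hfix x p hp
  · rw [h7]; exact hfix x p' hp'

/-- The module is natural or split. -/
theorem natural_or_split_aux {T : Type*} [CommRing T] (t : M.Tor T) :
    (∃ Φ : W8 ≃+ V, (∀ v, M.q (Φ v) = qe true v) ∧ M.IsNatural Φ) ∨
    ∃ (Φ : W8 ≃+ V) (e : Bool), (∀ v, M.q (Φ v) = qe e v) ∧ M.IsSplit Φ := by
  have hcount := t.n_split3
  obtain ⟨⟨r1, r2⟩, r3, r4⟩ := t.n_rot
  rw [r1, r2, r3, r4, show t.n 1 = 256 by rw [Tor.n, map_one, sz_one, M.card]] at hcount
  have p000 := t.n_pos (t.X false false false)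
  have p100 := t.n_pos (t.X true false false)
  have p110 := t.n_pos (t.X true true false)
  have p111 := t.n_pos (t.X true true true)
  have hm : t.n (t.X true true false) = 1 := by
    refine t.two_bound.resolve_right fun h => ?_
    have h1 : 1 ≤ t.n (t.X false false false) * t.n (t.X true false false) *
        t.n (t.X true false false) * t.n (t.X true false false) := by
      repeat' apply Nat.one_le_iff_ne_zero.2
      positivity
    have h3 : 16 * 16 * 16 ≤ t.n (t.X true true false) * t.n (t.X true true false) *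
        t.n (t.X true true false) := Nat.mul_le_mul (Nat.mul_le_mul h h) h
    have h4 := Nat.mul_le_mul (Nat.mul_le_mul h1 h3) p111
    simp only [← hcount] at h4
    norm_num at h4
  have z110 := t.eq_zero hm
  have z101 : t.X true false true = 0 := t.eq_zero (r4.trans hm)
  have z011 : t.X false true true = 0 := t.eq_zero (r3.trans hm)
  rw [hm, one_mul, one_mul, mul_one] at hcount
  rcases t.four_bound with h111 | ⟨h256, hfour⟩
  · right
    have z111 := t.eq_zero h111
    rw [h111, mul_one] at hcount
    have hk : t.n (t.X true false false) ≠ 1 := by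
      intro h
      have h' := t.eq_zero h
      have h010 : t.X false true false = 0 := t.eq_zero (r1.trans h)
      have h001 : t.X false false true = 0 := t.eq_zero (r2.trans h)
      have hs := t.sum_X
      rw [z110, z101, z011, z111, h', h010, h001] at hs
      have hone : t.X false false false = 1 := by linear_combination -hs
      have ha1 : t.a = 1 := by
        have e1 : t.a * t.X false false false = t.X false false false := by
          simp only [Tor.X, cond_false]
          linear_combination p0 t.c * p0 t.b * (mul_p0 t.two t.a3)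
        rwa [hone, mul_one] at e1
      refine Om.rels.2.2.2.2.2 (M.inj _ ?_)
      rw [← t.ha, ha1, map_one]
    have h4 := t.four_le t.a3 (x := t.X true false false) (by
      simp only [Tor.X, cond_true, cond_false]
      linear_combination p0 t.c * p0 t.b * (p0_p1 t.two t.a3)) hk
    have hle : t.n (t.X true false false) ≤ 6 := by
      by_contra h
      have h7 : 7 ≤ t.n (t.X true false false) := by omega
      have h8 := Nat.mul_le_mul (Nat.mul_le_mul (Nat.mul_le_mul p000 h7) h7) h7
      rw [← hcount] at h8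
      norm_num at h8
    have hk4 : t.n (t.X true false false) = 4 ∧ t.n (t.X false false false) = 4 := by
      generalize t.n (t.X true false false) = k at hcount h4 hle
      generalize t.n (t.X false false false) = d at hcount
      interval_cases k <;> omega
    exact M.split_case t z110 z111 z101 z011 ⟨hk4.1, r1.trans hk4.1, r2.trans hk4.1, hk4.2⟩
  · left
    have h1 : t.n (t.X false false false) * t.n (t.X true false false) * t.n (t.X true false false) *
        t.n (t.X true false false) = 1 ∧ t.n (t.X true true true) = 256 := by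
      generalize t.n (t.X false false false) * t.n (t.X true false false) * t.n (t.X true false false) *
        t.n (t.X true false false) = d at hcount
      generalize t.n (t.X true true true) = x at hcount h256
      rcases Nat.lt_or_ge d 2 with hd | hd
      · interval_cases d <;> omega
      · nlinarith
    have hd : t.n (t.X false false false) = 1 ∧ t.n (t.X true false false) = 1 := by
      obtain ⟨h1, -⟩ := h1
      have h2 := Nat.eq_one_of_mul_eq_one_left h1
      have h3 := Nat.eq_one_of_mul_eq_one_right h1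
      exact ⟨Nat.eq_one_of_mul_eq_one_right (Nat.eq_one_of_mul_eq_one_right h3), h2⟩
    have hs := t.sum_X
    rw [z110, z101, z011, t.eq_zero hd.1, t.eq_zero hd.2, t.eq_zero (r1.trans hd.2),
      t.eq_zero (r2.trans hd.2)] at hs
    exact M.natural_case t (by linear_combination -hs) (hfour h1.2)

theorem natural_or_split :
    (∃ Φ : W8 ≃+ V, (∀ v, M.q (Φ v) = qe true v) ∧ M.IsNatural Φ) ∨
    ∃ (Φ : W8 ≃+ V) (e : Bool), (∀ v, M.q (Φ v) = qe e v) ∧ M.IsSplit Φ := by
  obtain ⟨T, inst, ⟨t⟩⟩ := M.exists_tor
  exact M.natural_or_split_aux t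

end Mod

end Cfsg.Agent.ThreeTransp.U62Cent
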