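import Cfsg.Agent.Lib.ThreeTransp.U62Cent.Outside

/-!
# The split module: `z` commutes with no other conjugate
-/

set_option autoImplicit false
set_option linter.unusedSectionVars false

namespace Cfsg.Agent.ThreeTransp.U62Cent

open W8 Subgroup Cfsg.Agent.LargeExtra

universe u

variable {G : Type u} [Group G]

namespace Coord

variable [Finite G] {z : G} (M : Coord z)

include M

theorem split_fix_count (hS : ISplit M.π.range) {b : G} (h : Mem z b) :
    {v : W8 | M.img b v = v}.ncard = 64 := by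
  obtain ⟨R, y, -, hy⟩ := S.classes_rep hS (M.img_mem b) (M.img_sq h) (M.img_ne h)
  rw [ncard_fix_conj hy, ← R.C_len, ← List.toFinset_card_of_nodup R.C_nodup, ← Set.ncard_coe_finset]
  congr 1
  ext v
  simp [R.C_iff]

theorem split_card_Qa (hS : ISplit M.π.range) {a : G} (h : Mem z a) : 64 ≤ Nat.card ↥(Qa z a) := by
  obtain ⟨g, b, hg, hb, hmb⟩ := M.flip' h
  rw [M.card_Qa hg hb, M.card_Ja_eq hmb.comm]
  have := M.fix_le_two_Kset hmb.comm
  rw [M.split_fix_count hS hmb] at this
  omega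

theorem split_phi_rep (hS : ISplit M.π.range) {a : G} (h : Mem z a) (R : S.Rep)
    (hR : ∀ v, M.img a v = R.a v) {p : W8} (hp : p ∈ vecs [0, 64, 128, 192]) :
    M.phi a p = false := by
  classical
  by_contra hcon
  have hphi : M.phi a p = true := by simpa using hcon
  have hpf : M.img a p = p := S.plane_fix (hS.le (M.img_mem a)) hp
  have haz := M.mul_z_mem_of_phi h hpf hphi
  set A := M.Abar a with hA
  have hAI : A ≤ GS true := (M.Abar_le a).trans hS.le
  have hcomm : ∀ t ∈ A, ∀ v, t (R.a v) = R.a (t v) := fun t ht v => by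
    rw [← hR, ← hR]; exact M.Abar_comm_apply h ht v
  have hfixC : ∀ v ∈ R.C, M.img a v = v := fun v hv => by rw [hR]; exact (R.C_iff v).2 hv
  -- the six-part is moved into the intersection
  have hD : ∀ t ∈ A, ∀ d ∈ R.D, t d + d ∈ M.vimg (Xa z a) := by
    intro t ht d hd
    have hdf := hfixC d (R.D_sub d hd).2
    cases hpd : M.phi a d
    · exact M.Abar_move h ht ⟨hdf, hpd⟩
    · have h1 := M.Abar_move h ht (v := d + p) ⟨by rw [M.img_add, hdf, hpf],
        by rw [M.phi_add h.comm hdf hpf, hpd, hphi]; rfl⟩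
      rwa [(hAI ht).1.add, S.plane_fix (hAI ht) hp,
        show t d + p + (d + p) = t d + d + (p + p) by abel, W8.add_self, add_zero] at h1
  have hdis : ∀ v ∈ M.vimg (Xa z a), v ∈ R.L → v = 0 := by
    intro v hv hvL
    obtain ⟨w, hw⟩ := R.L_iff.2 v hvL
    exact M.vimg_inter h haz hv (w := w) (by rw [hR]; exact hw.symm)
  have hLfix : ∀ t ∈ A, ∀ l ∈ R.L, t l = l := fun t ht l hl =>
    eq_of_add (hdis _ (hD t ht l (R.L_sub l hl))
      (R.split.L_add _ (R.L_map (hAI ht) (hcomm t ht) hl) _ hl))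
  have h0L : (0 : W8) ∈ R.L := by
    have := R.L_iff.1 0
    rwa [additive_zero R.a_add, add_zero] at this
  have hAcard : Nat.card ↥A ≤ 2 * 2 := by
    refine R.split.card_le (S := [1, M.img a]) (M.Abar_pgroup h.cls) (fun t ht => (hAI ht).1.add) h0L
      (fun t ht v => R.C_map (hcomm t ht)) (fun t ht l => R.L_map (hAI ht) (hcomm t ht))
      (fun t ht => R.ind_mem (hAI ht) (hcomm t ht)) (by simp) ?_
    intro t ht hW
    have hCL : ∀ v ∈ R.C, t v + v ∈ R.L := by
      intro v hv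
      obtain ⟨h1, h2⟩ := R.split.prj_mem v hv
      have h3 := R.split.L_add _ (hW _ h1) _ (h0L)
      rw [add_zero] at h3
      have h4 := hLfix t ht _ h2
      rw [(hAI ht).1.add] at h4
      have e : t v + v = t (prj R.L R.W v) + prj R.L R.W v := by
        calc t v + v = (t v + t (prj R.L R.W v)) + t (prj R.L R.W v) + v := by
              rw [add_assoc (t v), W8.add_self, add_zero]
          _ = t (prj R.L R.W v) + prj R.L R.W v := by
              rw [h4]
              calc v + prj R.L R.W v + t (prj R.L R.W v) + v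
                  = (v + v) + (t (prj R.L R.W v) + prj R.L R.W v) := by abel
                _ = _ := by rw [W8.add_self, zero_add]
      rw [e]
      exact h3
    have hfix := R.eq_C_of_D (hAI ht) fun d hd =>
      eq_of_add (hdis _ (hD t ht d hd) (hCL d (R.D_sub d hd).2))
    rcases R.fix_group (hAI ht) hfix with e | e | ⟨-, e⟩
    · simp [e]
    · have : t = M.img a := Equiv.ext fun v => (e v).trans (hR v).symm
      simp [this]
    · obtain ⟨k, hk⟩ := M.Abar_two h ht
      rw [hS.even_rank (M.Abar_le a ht) hk] at e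
      exact absurd e (by decide)
  have hX : Nat.card ↥(Xa z a) ≤ 4 := by
    rw [M.card_Xa h]
    refine R.split.ts_le R.ts R.L_perp (M.zero_mem_vimg _) (fun x hx y hy => M.add_mem_vimg inf_le_left hx hy)
      (fun x hx => (R.C_iff x).1 (by rw [← hR]; exact M.vimg_fix h hx))
      (fun x hx y hy => M.vimg_bb h hx hy) hdis
  have hQ := M.split_card_Qa hS h
  rw [M.card_Qa_eq a] at hQ
  nlinarith

theorem split_phi (hS : ISplit M.π.range) {a : G} (h : Mem z a) {p : W8}
    (hp : p ∈ vecs [0, 64, 128, 192]) : M.phi a p = false := by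
  obtain ⟨R, y, hy, hR⟩ := S.classes_rep hS (M.img_mem a) (M.img_sq h) (M.img_ne h)
  obtain ⟨c, hc, hcy, hm, hi⟩ := M.exists_conj h hy
  have e := M.phi_conj h.comm hc (v := p) (S.plane_fix (hS.le (M.img_mem a)) hp)
  rw [hcy, S.plane_fix (hS.le hy) hp] at e
  rw [← e]
  exact M.split_phi_rep hS hm R (fun v => by rw [hi]; exact hR v) hp

/-- the lifts of the plane centralise `O₂(C(a)) ∩ C(z)` -/
theorem plane_centralises (hS : ISplit M.π.range) {a w q : G} (h : Mem z a) (hw : w ∈ O2c z)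
    (hwv : M.vec w ∈ vecs [0, 64, 128, 192]) (hq : q ∈ Qa z a) : Commute w a ∧ Commute q w := by
  have hwf : M.img a (M.vec w) = M.vec w := S.plane_fix (hS.le (M.img_mem a)) hwv
  have hwJ : w ∈ Ja z a := (M.mem_Ja_iff h.comm hw).2 ⟨hwf, M.split_phi hS h hwv⟩
  refine ⟨(mem_Ja.1 hwJ).2, ?_⟩
  have hx := M.commutator_Xa h.cls hq hwJ
  have hv : M.vec (q * w * q⁻¹ * w⁻¹) = 0 := by
    rw [(M.commutator_J (mem_Qa.1 hq).2 hw).2, S.plane_fix (hS.le (M.img_mem q)) hwv, W8.add_self]
  rcases M.vec_cases hx.1 hv with e | e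
  · exact commutatorElement_eq_one_iff_mul_comm.1 (by rw [commutatorElement_def]; exact e)
  · exact absurd (e ▸ hx) (M.Xa_z h)

theorem split_absurd (hS : ISplit M.π.range) {a0 : G} (h0 : Mem z a0) : False := by
  classical
  obtain ⟨R, y, hy, hR0⟩ := S.classes_rep hS (M.img_mem a0) (M.img_sq h0) (M.img_ne h0)
  obtain ⟨c, -, -, h, hi⟩ := M.exists_conj h0 hy
  set a := c * a0 * c⁻¹ with ha
  have hR : ∀ v, M.img a v = R.a v := fun v => by rw [hi]; exact hR0 v
  obtain ⟨g, b, hg, hb, hmb⟩ := M.flip' h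
  have hfixC : ∀ v ∈ R.C, M.img a v = v := fun v hv => by rw [hR]; exact (R.C_iff v).2 hv
  -- the functional
  obtain ⟨w, hw, hwphi⟩ : ∃ w ∈ six, ∀ v ∈ R.D, bb v w = M.phi a v := by
    have hlen : R.Dbasis.length = 4 := by
      obtain ⟨w, -, hw⟩ := R.dual true true true true
      simpa using congrArg List.length hw
    obtain ⟨d1, d2, d3, d4, hB⟩ : ∃ d1 d2 d3 d4, R.Dbasis = [d1, d2, d3, d4] :=
      match R.Dbasis, hlen with
      | [d1, d2, d3, d4], _ => ⟨d1, d2, d3, d4, rfl⟩
    obtain ⟨w, hw, hwl⟩ := R.dual (M.phi a d1) (M.phi a d2) (M.phi a d3) (M.phi a d4)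
    have hwl' : R.Dbasis.map (fun v => bb v w) = R.Dbasis.map (M.phi a) := by
      rw [hwl, hB]; rfl
    have key : ∀ l : List W8, (∀ v ∈ l, M.img a v = v ∧ bb v w = M.phi a v) →
        ∀ v ∈ span l, M.img a v = v ∧ bb v w = M.phi a v := by
      intro l
      induction l with
      | nil =>
        intro _ v hv
        rw [List.mem_singleton.1 hv, M.img_zero, bb_zero_left, M.phi_zero h.comm]
        exact ⟨rfl, rfl⟩
      | cons d l ih =>
        intro hl v hv
        have ih' := ih fun u hu => hl u (List.mem_cons_of_mem _ hu)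
        rcases List.mem_append.1 hv with hv | hv
        · exact ih' v hv
        · obtain ⟨u, hu, rfl⟩ := List.mem_map.1 hv
          obtain ⟨e1, e2⟩ := hl d List.mem_cons_self
          obtain ⟨e3, e4⟩ := ih' u hu
          refine ⟨by rw [M.img_add, e1, e3], ?_⟩
          rw [bb_add_left, M.phi_add h.comm e1 e3, e2, e4]
    exact ⟨w, hw, fun v hv => (key R.Dbasis (fun d hd =>
      ⟨hfixC d (R.D_sub d (R.Dmem d hd)).2, List.map_inj_left.1 hwl' d hd⟩) v (R.Dspan v hv)).2⟩
  -- transported lifts of the plane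
  have key : ∀ u ∈ O2c z, M.vec u ∈ vecs [0, 64, 128, 192] →
      Commute (g * u * g⁻¹) z ∧ (∃ k, M.img (g * u * g⁻¹) ^ 2 ^ k = 1) ∧
      (∀ v, M.img (g * u * g⁻¹) (R.a v) = R.a (M.img (g * u * g⁻¹) v)) ∧
      ∀ v ∈ R.D, bb v w = false → M.img (g * u * g⁻¹) v = v := by
    intro u hu huv
    have hcz : Commute (g * u * g⁻¹) z := by
      have h1 : Commute u b := (M.plane_centralises hS hmb hu huv
        (one_mem (Qa z b))).1
      rw [← hb]; exact conj_commute g h1
    have hmem : g * u * g⁻¹ ∈ O2c a := by rw [← hg]; exact (mem_O2c_conj g z u).2 hu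
    have hq : g * u * g⁻¹ ∈ Qa z a := mem_Qa.2 ⟨hmem, hcz⟩
    refine ⟨hcz, M.Abar_two h (M.mem_Abar.2 ⟨_, hq, rfl⟩), fun v => ?_, fun v hv hvw => ?_⟩
    · rw [← hR, ← hR]
      exact M.Abar_comm_apply h (M.mem_Abar.2 ⟨_, hq, rfl⟩) v
    · have hvC := hfixC v (R.D_sub v hv).2
      have hvphi : M.phi a v = false := (hwphi v hv).symm.trans hvw
      have hy' : M.lift v ∈ Ja z a := (M.mem_Ja_iff h.comm (M.lift_mem v)).2 (by
        rw [M.vec_lift]; exact ⟨hvC, hvphi⟩)
      have hQb : g⁻¹ * M.lift v * g ∈ Qa z b := by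
        refine mem_Qa.2 ⟨?_, ?_⟩
        · rw [← mem_O2c_conj g, hb, show g * (g⁻¹ * M.lift v * g) * g⁻¹ = M.lift v by group]
          exact hy'.1
        · have := conj_commute g⁻¹ (mem_Ja.1 hy').2
          rw [← hg] at this
          simpa [mul_assoc] using this
      have h2 := conj_commute g (M.plane_centralises hS hmb hu huv hQb).2
      rw [show g * (g⁻¹ * M.lift v * g) * g⁻¹ = M.lift v by group] at h2
      have := M.fix_of_commute hcz (M.lift_mem v) h2.symm
      rwa [M.vec_lift] at this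
  obtain ⟨u1, hu1, hv1⟩ := M.surj (W8.mk 64)
  obtain ⟨u2, hu2, hv2⟩ := M.surj (W8.mk 128)
  obtain ⟨hc1, ⟨k1, hk1⟩, ha1, hf1⟩ := key u1 hu1 (by rw [hv1]; decide +kernel)
  obtain ⟨hc2, ⟨k2, hk2⟩, ha2, hf2⟩ := key u2 hu2 (by rw [hv2]; decide +kernel)
  have hcom := R.hyp_commute hS hw (M.img_mem _) (M.img_mem _) hk1 hk2 ha1 ha2 hf1 hf2
  rw [← M.img_mul hc1 hc2, ← M.img_mul hc2 hc1] at hcom
  have e12 : u1 * u2 = z * (u2 * u1) := by
    rw [M.comm hu1 hu2, hv1, hv2, show bb (W8.mk 64) (W8.mk 128) = true by decide +kernel, zb_true]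
  have e2 : g * u1 * g⁻¹ * (g * u2 * g⁻¹) = a * (g * u2 * g⁻¹ * (g * u1 * g⁻¹)) := by
    rw [← hg]
    calc g * u1 * g⁻¹ * (g * u2 * g⁻¹) = g * (u1 * u2) * g⁻¹ := by group
      _ = _ := by rw [e12]; group
  rw [e2, M.img_mul h.comm (hc2.mul_left hc1), mul_eq_right] at hcom
  exact M.img_ne h hcom

end Coord

end Cfsg.Agent.ThreeTransp.U62Cent
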