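import Cfsg.Agent.Lib.ThreeTransp.U62Cent.Graph

/-!
# Components and their stabilisers
-/

set_option autoImplicit false
set_option linter.unusedSectionVars false

namespace Cfsg.Agent.ThreeTransp.U62Cent

open W8 Subgroup Cfsg.Agent.LargeExtra

universe u

variable {G : Type u} [Group G]

/-- the stabiliser of a set under conjugation -/
def setStab (S : Set G) : Subgroup G where
  carrier := {g | ∀ x, g * x * g⁻¹ ∈ S ↔ x ∈ S}
  one_mem' := fun x => by simp
  mul_mem' := fun {g h} hg hh x => by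
    rw [show g * h * x * (g * h)⁻¹ = g * (h * x * h⁻¹) * g⁻¹ by group, hg, hh]
  inv_mem' := fun {g} hg x => by
    rw [← hg, show g * (g⁻¹ * x * g⁻¹⁻¹) * g⁻¹ = x by group]

theorem conj_commute_iff (g : G) {x y : G} :
    Commute (g * x * g⁻¹) (g * y * g⁻¹) ↔ Commute x y := by
  refine ⟨fun h => ?_, conj_commute g⟩
  have := conj_commute g⁻¹ h
  simpa [mul_assoc] using this

theorem cls_conj (g z : G) : cls (g * z * g⁻¹) = cls z := cls_eq ⟨g, rfl⟩

theorem mem_cls_conj_iff (g z x : G) : g * x * g⁻¹ ∈ cls z ↔ x ∈ cls z :=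
  ⟨fun h => by simpa [mul_assoc] using conj_mem_cls g⁻¹ h, conj_mem_cls g⟩

theorem Mem.conj_iff (g z a : G) : Mem (g * z * g⁻¹) (g * a * g⁻¹) ↔ Mem z a := by
  constructor
  · intro h
    refine ⟨(mem_cls_conj_iff g z a).1 (cls_conj g z ▸ h.cls), (conj_commute_iff g).1 h.comm,
      fun e => h.ne (by rw [e])⟩
  · intro h
    refine ⟨(cls_conj g z).symm ▸ conj_mem_cls g h.cls, conj_commute g h.comm, fun e => h.ne ?_⟩
    simpa using e

theorem comp0_conj (g z x : G) : g * x * g⁻¹ ∈ comp0 (g * z * g⁻¹) ↔ x ∈ comp0 z := by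
  simp only [comp0, Set.mem_setOf_eq, cls_conj, mem_cls_conj_iff, Mem.conj_iff, conj_commute_iff]
  refine or_congr (by simp) (or_congr Iff.rfl ⟨?_, ?_⟩)
  · rintro ⟨a, ha, h1, h2, h3⟩
    obtain ⟨b, rfl⟩ : ∃ b, g * b * g⁻¹ = a := ⟨g⁻¹ * a * g, by group⟩
    exact ⟨b, (Mem.conj_iff g z b).1 ha, h1, h2, (conj_commute_iff g).1 h3⟩
  · rintro ⟨a, ha, h1, h2, h3⟩
    exact ⟨g * a * g⁻¹, (Mem.conj_iff g z a).2 ha, h1, h2, conj_commute g h3⟩

theorem self_mem_comp0 (z : G) : z ∈ comp0 z := Or.inl rfl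

theorem Mem.mem_comp0 {z a : G} (h : Mem z a) : a ∈ comp0 z := Or.inr (Or.inl h)

theorem exists_mem_conj {z a0 x : G} (h0 : Mem z a0) (hx : x ∈ cls z) : ∃ b, Mem x b := by
  obtain ⟨g, rfl⟩ := hx
  exact ⟨_, (Mem.conj_iff g z a0).2 h0⟩

namespace Coord

variable [Finite G] {z : G} (M : Coord z)

include M

theorem comp0_eq {a0 x : G} (h0 : Mem z a0) (hx : x ∈ comp0 z) : comp0 x = comp0 z := by
  have hxc := comp0_sub hx
  have hsub : comp0 x ⊆ comp0 z := by
    intro y hy
    rcases hy with rfl | h | ⟨a, ha, h1, h2, h3⟩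
    · exact hx
    · obtain ⟨hc, hcm, hne⟩ := (M.mem_move hxc).1 h
      exact M.comp0_closed hx ⟨hxc, hc, hne.symm, hcm.symm⟩
    · obtain ⟨hc, hcm, hne⟩ := (M.mem_move hxc).1 ha
      have hy : y ∈ cls z := cls_eq hxc ▸ h1
      exact M.comp0_closed (M.comp0_closed hx ⟨hxc, hc, hne.symm, hcm.symm⟩)
        ⟨hc, hy, fun e => h2 (e ▸ hcm), h3.symm⟩
  obtain ⟨b, hb⟩ := exists_mem_conj h0 hxc
  exact Set.eq_of_subset_of_ncard_le hsub
    (by rw [M.comp0_count h0, (M.move hxc).comp0_count hb]) (Set.toFinite _)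

theorem mem_setStab_iff {a0 g : G} (h0 : Mem z a0) :
    g ∈ setStab (comp0 z) ↔ g * z * g⁻¹ ∈ comp0 z := by
  refine ⟨fun h => (h z).2 (self_mem_comp0 z), fun h x => ?_⟩
  have e := M.comp0_eq h0 h
  rw [← e, comp0_conj, e]

theorem cent_stab {a0 g : G} (h0 : Mem z a0) (hg : Commute g z) : g ∈ setStab (comp0 z) :=
  (M.mem_setStab_iff h0).2 (by rw [hg.eq, mul_inv_cancel_right]; exact self_mem_comp0 z)

theorem member_stab {a0 x : G} (h0 : Mem z a0) (hx : x ∈ comp0 z) : x ∈ setStab (comp0 z) := by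
  have hxc := comp0_sub hx
  obtain ⟨b, hb⟩ := exists_mem_conj h0 hxc
  rw [← M.comp0_eq h0 hx]
  exact (M.move hxc).cent_stab hb (Commute.refl x)

theorem move_mem {a0 x : G} (h0 : Mem z a0) (hx : x ∈ comp0 z) :
    ∃ g ∈ setStab (comp0 z), g * z * g⁻¹ = x := by
  obtain ⟨g, rfl⟩ := comp0_sub hx
  exact ⟨g, (M.mem_setStab_iff h0).2 hx, rfl⟩

/-- An element centralising a pair product centralises the pair, if it is a conjugate of `z`. -/
theorem cls_cent_pair {x y d : G} (hx : x ∈ cls z) (hxy : Mem x y) (hd : d ∈ cls z)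
    (h : Commute d (x * y)) : Commute d x ∧ Commute d y := by
  set X := M.move hx
  have h1 : Commute d x := by
    rcases X.cent_pair hxy h with e | e
    · exact mul_inv_eq_iff_eq_mul.1 e
    · exact (X.swap_absurd hxy ((cls_eq hx).symm ▸ hd) e).elim
  have h2 : Commute d (x * (x * y)) := h1.mul_right h
  rw [← mul_assoc, M.cls_sq hx, one_mul] at h2
  exact ⟨h1, h2⟩

theorem card_cent : Nat.card ↥(centralizer ({z} : Set G)) = 25920 * 512 := by
  have h := Subgroup.card_eq_card_quotient_mul_card_subgroup M.π.ker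
  rw [Nat.card_congr (QuotientGroup.quotientKerEquivRange M.π).toEquiv, M.card_img] at h
  rw [h]
  congr 1
  have e : M.π.ker.map (centralizer ({z} : Set G)).subtype = O2c z := by
    ext w
    constructor
    · rintro ⟨c, hc, rfl⟩
      exact (M.ker c).1 hc
    · intro hw
      exact ⟨⟨w, mem_cent.2 (commute_of_O2c hw)⟩, (M.ker _).2 hw, rfl⟩
  rw [← M.card, ← e, card_map_of_injective (centralizer ({z} : Set G)).subtype_injective]

theorem card_stab {a0 : G} (h0 : Mem z a0) :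
    Nat.card ↥(setStab (comp0 z)) = 693 * (25920 * 512) := by
  classical
  let S := setStab (comp0 z)
  let H : Subgroup ↥S := (centralizer ({z} : Set G)).subgroupOf S
  have hH : Nat.card ↥H = 25920 * 512 := by
    rw [← M.card_cent]
    exact Nat.card_congr (subgroupOfEquivOfLe fun c hc => M.cent_stab h0 (mem_cent.1 hc)).toEquiv
  have hidx : H.index = 693 := by
    rw [← M.comp0_count h0, ← Nat.card_coe_set_eq]
    show Nat.card (↥S ⧸ H) = _
    refine Nat.card_congr (Equiv.ofBijective (fun q => Quotient.liftOn' q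
      (fun g => (⟨(g : G) * z * (g : G)⁻¹, (g.2 z).2 (self_mem_comp0 z)⟩ : ↥(comp0 z))) ?_) ⟨?_, ?_⟩)
    · intro g h e
      rw [QuotientGroup.leftRel_apply, mem_subgroupOf, mem_cent] at e
      refine Subtype.ext ?_
      show (g : G) * z * (g : G)⁻¹ = (h : G) * z * (h : G)⁻¹
      have e' : (g : G)⁻¹ * (h : G) * z * ((g : G)⁻¹ * (h : G))⁻¹ = z := by
        push_cast at e
        rw [e.eq, mul_inv_cancel_right]
      conv_lhs => rw [← e']
      group
    · intro p q e
      induction p using QuotientGroup.induction_on with | H g =>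
      induction q using QuotientGroup.induction_on with | H h =>
      have e' : (g : G) * z * (g : G)⁻¹ = (h : G) * z * (h : G)⁻¹ := congrArg Subtype.val e
      rw [QuotientGroup.eq, mem_subgroupOf, mem_cent]
      refine mul_inv_eq_iff_eq_mul.1 ?_
      push_cast
      calc (g : G)⁻¹ * h * z * ((g : G)⁻¹ * h)⁻¹ = (g : G)⁻¹ * ((h : G) * z * (h : G)⁻¹) * g := by group
        _ = z := by rw [← e']; group
    · rintro ⟨x, hx⟩
      obtain ⟨g, hg, rfl⟩ := M.move_mem h0 hx
      exact ⟨QuotientGroup.mk (⟨g, hg⟩ : ↥S), rfl⟩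
  rw [← H.card_mul_index, hH, hidx, mul_comm]

end Coord

end Cfsg.Agent.ThreeTransp.U62Cent
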