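import Cfsg.Agent.Lib.ThreeTransp.U62Cent.Words
import Cfsg.Agent.Lib.ThreeTransp.U62Cent.DataMat

/-!
# Induced maps on a complement, as tables
-/

set_option autoImplicit false
set_option maxRecDepth 100000

namespace Cfsg.Agent.ThreeTransp.U62Cent

open W8

/-- the component in `W` along `L` -/
def prj (L W : List W8) (v : W8) : W8 := (W.filter fun w => L.contains (v + w)).headD 0

/-- composition of tables over a list -/
def comp (W T U : List W8) : List W8 := U.map fun x => T.getD (W.idxOf x) 0

/-- the power of a table -/
def tpow (W T : List W8) : ℕ → List W8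
  | 0 => W
  | n + 1 => comp W T (tpow W T n)

/-- The list of maps has `2`-subgroups of order at most two. -/
def smallTwo (W : List W8) (P : List (List W8)) : Bool :=
  P.all fun T => tpow W T 6 == W &&
    P.all fun U => comp W T T != W || comp W U U != W || T == W || U == W || T == U ||
      comp W T U != comp W U T

theorem span_map {f : W8 → W8} (hf : ∀ v w, f (v + w) = f v + f w) :
    ∀ l : List W8, (span l).map f = span (l.map f)
  | [] => by simp [span, additive_zero hf]
  | a :: l => by
    simp only [span, List.map_cons, List.map_append]
    rw [← span_map hf l, List.map_map, List.map_map]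
    congr 1
    exact List.map_congr_left fun v _ => hf a v

/-- totally singular subspaces of the complement have at most four elements -/
def tsSmall (e : Bool) (W : List W8) : Bool :=
  W.all fun x => W.all fun y => W.all fun w =>
    qe e x || qe e y || qe e w || bb x y || bb x w || bb y w || x == 0 || y == 0 || x == y ||
      w == 0 || w == x || w == y || w == x + y

/-- totally isotropic subspaces of the complement have at most four elements -/
def tsB (W : List W8) : Bool :=
  W.all fun x => W.all fun y => W.all fun w =>
    bb x y || bb x w || bb y w || x == 0 || y == 0 || x == y || w == 0 || w == x || w == y || w == x + y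

/-- numeric lists as vectors -/
def vecs (l : List ℕ) : List W8 := l.map mk

/-- a multiplication table is right -/
def tableOk (P : List (List W8)) (T : List (List ℕ)) : Bool :=
  (List.range P.length).all fun i => (List.range P.length).all fun j =>
    decide ((T.getD i []).getD j 0 < P.length) &&
      (mulM (P.getD i []) (P.getD j []) == P.getD ((T.getD i []).getD j 0) [])

theorem mul_mem_of_table {P : List (List W8)} {T : List (List ℕ)} (h : tableOk P T = true) :
    ∀ A ∈ P, ∀ B ∈ P, mulM A B ∈ P := by
  intro A hA B hB
  obtain ⟨i, hi, rfl⟩ := List.getElem_of_mem hA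
  obtain ⟨j, hj, rfl⟩ := List.getElem_of_mem hB
  simp only [tableOk, List.all_eq_true, List.mem_range, Bool.and_eq_true, decide_eq_true_eq,
    beq_iff_eq] at h
  obtain ⟨hk, he⟩ := h i hi j hj
  rw [List.getD_eq_getElem _ _ hi, List.getD_eq_getElem _ _ hj, List.getD_eq_getElem _ _ hk] at he
  rw [he]
  exact List.getElem_mem hk

/-- a span without repetitions -/
def rspan : List W8 → List W8
  | [] => [0]
  | v :: l => if (rspan l).contains v then rspan l else rspan l ++ (rspan l).map (v + ·)

theorem rspan_add : ∀ (l : List W8) {x y : W8}, x ∈ rspan l → y ∈ rspan l → x + y ∈ rspan l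
  | [], x, y, hx, hy => by
    simp only [rspan, List.mem_singleton] at hx hy ⊢
    rw [hx, hy, add_zero]
  | v :: l, x, y, hx, hy => by
    have ih : ∀ {x y : W8}, x ∈ rspan l → y ∈ rspan l → x + y ∈ rspan l := fun hx hy => rspan_add l hx hy
    simp only [rspan] at hx hy ⊢
    split at hx
    · rename_i h
      rw [if_pos h] at hy ⊢
      exact ih hx hy
    · rename_i h
      rw [if_neg h] at hy ⊢
      simp only [List.mem_append, List.mem_map] at hx hy ⊢
      rcases hx with hx | ⟨a, ha, rfl⟩ <;> rcases hy with hy | ⟨b, hb, rfl⟩
      · exact Or.inl (ih hx hy)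
      · exact Or.inr ⟨_, ih hx hb, (add_left_comm _ _ _).symm⟩
      · exact Or.inr ⟨_, ih ha hy, (add_assoc _ _ _).symm⟩
      · left
        rw [add_add_add_comm, add_self, zero_add]
        exact ih ha hb

theorem mem_rspan_iff : ∀ (l : List W8) (x : W8), x ∈ rspan l ↔ x ∈ span l
  | [], x => by simp [rspan, span]
  | v :: l, x => by
    simp only [rspan, span, List.mem_append, List.mem_map, ← mem_rspan_iff l]
    split
    · rename_i h
      constructor
      · exact Or.inl
      · rintro (hx | ⟨y, hy, rfl⟩)
        · exact hx
        · exact rspan_add l (List.contains_iff_mem.1 h) hy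
    · simp only [List.mem_append, List.mem_map]

theorem rspan_zero : ∀ l : List W8, 0 ∈ rspan l
  | [] => List.mem_singleton.2 rfl
  | v :: l => by
    simp only [rspan]
    split
    · exact rspan_zero l
    · exact List.mem_append_left _ (rspan_zero l)

theorem rspan_nodup : ∀ l : List W8, (rspan l).Nodup
  | [] => List.nodup_singleton _
  | v :: l => by
    simp only [rspan]
    split
    · exact rspan_nodup l
    · rename_i h
      refine List.nodup_append.2 ⟨rspan_nodup l,
        (rspan_nodup l).map fun a b e => add_left_cancel e, ?_⟩
      rintro a ha b hb rfl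
      obtain ⟨c, hc, rfl⟩ := List.mem_map.1 hb
      refine h (List.contains_iff_mem.2 ?_)
      have := rspan_add l ha hc
      rwa [add_assoc, add_self, add_zero] at this

/-- the image of `f + 1` has even dimension -/
def evenRank (M : List W8) : Bool :=
  [1, 4, 16, 64].contains (rspan (List.zipWith (· + ·) M basis)).length

theorem rank_eq {f : W8 → W8} (hf : ∀ v w, f (v + w) = f v + f w) :
    (rspan (List.zipWith (· + ·) (cols f) basis)).length = Nat.card (Set.range fun v => f v + v) := by
  have hl : List.zipWith (· + ·) (cols f) basis = basis.map (fun v => f v + v) := by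
    rw [cols, List.zipWith_map_left, List.zipWith_self]
  rw [hl, ← List.toFinset_card_of_nodup (rspan_nodup _), ← Fintype.card_coe,
    ← Nat.card_eq_fintype_card]
  refine Nat.card_congr (Equiv.subtypeEquivRight fun x => ?_)
  rw [List.mem_toFinset, Set.mem_range, mem_rspan_iff,
    ← span_map (f := fun v => f v + v) (fun v w => by rw [hf]; abel), List.mem_map]
  exact ⟨fun ⟨v, _, h⟩ => ⟨v, h⟩, fun ⟨v, h⟩ => ⟨v, span_all v, h⟩⟩

theorem rank_conj {g y : Equiv.Perm W8} (hy : ∀ v w, y (v + w) = y v + y w) :
    Nat.card (Set.range fun v => (y * g * y⁻¹) v + v) = Nat.card (Set.range fun v => g v + v) := by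
  have h : (Set.range fun v => (y * g * y⁻¹) v + v) = y '' Set.range fun v => g v + v := by
    ext x
    constructor
    · rintro ⟨v, rfl⟩
      exact ⟨_, ⟨y⁻¹ v, rfl⟩, by simp [hy]⟩
    · rintro ⟨_, ⟨v, rfl⟩, rfl⟩
      exact ⟨y v, by simp [hy]⟩
  rw [h, Nat.card_image_of_injective y.injective]

/-- every image list of the search lies in a given list -/
def searchIn (e sg : Bool) (l : List (W8 × List W8)) (outs : List (List W8)) : Bool :=
  (search e sg l).all fun o => outs.contains o

end Cfsg.Agent.ThreeTransp.U62Cent
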