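import Cfsg.Agent.Lib.ThreeTransp.U62Cent.TwoB

/-!
# The conjugates over one transvection
-/

set_option autoImplicit false
set_option maxRecDepth 100000
set_option linter.unusedSectionVars false

namespace Cfsg.Agent.ThreeTransp.U62Cent

open W8 Subgroup Cfsg.Agent.LargeExtra

universe u

variable {G : Type u} [Group G]

namespace N

theorem L0_facts : (∀ v : W8, (∀ l ∈ L0, bb l v = false) → v ∈ C0) ∧
    (∀ l ∈ L0, l = 0 ∨ ∀ u ∈ L0, u = 0 ∨ u = l ∨ u = W8.sig l ∨ u = W8.sig l + l) ∧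
    ∀ l ∈ L0, ∀ v ∈ C0, bb l v = false := by decide +kernel

theorem sig_inj {v w : W8} (h : W8.sig v = W8.sig w) : v = w := by
  rw [← W8.sig_three v, h, W8.sig_three]

theorem two_points : W8.mk 5 ∈ L0 ∧ W8.mk 10 ∈ L0 ∧ W8.mk 5 ≠ 0 ∧ W8.mk 10 ≠ 0 ∧
    W8.mk 5 ≠ W8.mk 10 := by decide +kernel

end N

namespace Coord

variable [Finite G] {z : G} (M : Coord z)

include M

/-- the commutator space of an element -/
def Lset (a : G) : Set W8 := {v | ∃ w, M.img a w + w = v}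

theorem Lset_sig {a : G} (h : Mem z a) {v : W8} (hv : v ∈ M.Lset a) : W8.sig v ∈ M.Lset a := by
  obtain ⟨w, rfl⟩ := hv
  refine ⟨W8.sig w, ?_⟩
  rw [((M.nat_of_mem h).2.le (M.img_mem a)).sig rfl, ← W8.sig_add]

theorem zero_mem_Lset (a : G) : (0 : W8) ∈ M.Lset a := ⟨0, by rw [M.img_zero, add_zero]⟩

theorem add_mem_Lset {a : G} {v w : W8} (hv : v ∈ M.Lset a) (hw : w ∈ M.Lset a) :
    v + w ∈ M.Lset a := by
  obtain ⟨p, rfl⟩ := hv
  obtain ⟨r, rfl⟩ := hw
  exact ⟨p + r, by rw [M.img_add]; exact add_add_add_comm _ _ _ _⟩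

theorem Lset_fix {a : G} (h : Mem z a) {v : W8} (hv : v ∈ M.Lset a) : M.img a v = v := by
  obtain ⟨w, rfl⟩ := hv
  rw [M.img_add, M.img_self a h, add_comm]

theorem Lset_perp {a : G} (h : Mem z a) {v w : W8} (hv : v ∈ M.Lset a) (hw : M.img a w = w) :
    bb v w = false := by
  obtain ⟨p, rfl⟩ := hv
  conv_lhs => rw [bb_add_left]; arg 1; rw [← hw, M.img_bb]
  exact Bool.xor_self _

/-- conjugating into standard position -/
theorem std {a : G} (h : Mem z a) : ∃ y ∈ M.π.range,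
    (∀ v, y (M.img a v) = N.a0 (y v)) ∧ (∀ v w, y (v + w) = y v + y w) ∧
    (∀ v, M.img a v = v ↔ y v ∈ N.C0) ∧ ∀ v, v ∈ M.Lset a ↔ y v ∈ N.L0 := by
  obtain ⟨y, hy, e⟩ := M.img_class h
  have hadd : ∀ v w, y (v + w) = y v + y w := M.range_add hy
  have h1 : ∀ v, y (M.img a v) = N.a0 (y v) := fun v => by rw [← e]; simp
  refine ⟨y, hy, h1, hadd, fun v => ?_, fun v => ⟨?_, fun hv => ?_⟩⟩
  · rw [← N.C0_iff, ← h1]
    exact ⟨congrArg y, fun e => y.injective e⟩
  · rintro ⟨w, rfl⟩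
    rw [hadd, h1]
    exact N.L0_iff.1 _
  · obtain ⟨w, hw⟩ := N.L0_iff.2 _ hv
    refine ⟨(y⁻¹ : Equiv.Perm W8) w, y.injective ?_⟩
    rw [hadd, h1, ← hw]
    simp

theorem fix_count {a : G} (h : Mem z a) : {v : W8 | M.img a v = v}.ncard = 64 := by
  obtain ⟨y, -, e⟩ := M.img_class h
  rw [ncard_fix_conj e, N.ncard_fix0]

theorem Lset_ncard {a : G} (h : Mem z a) : (M.Lset a).ncard = 4 := by
  classical
  obtain ⟨y, -, -, -, -, hL⟩ := M.std h
  rw [← Set.ncard_image_of_injective _ y.injective, ← N.C0_lt.2.2.2.2.1,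
    ← List.toFinset_card_of_nodup N.C0_lt.2.2.2.2.2.1, ← Set.ncard_coe_finset]
  congr 1
  ext v
  rw [List.coe_toFinset]
  constructor
  · rintro ⟨w, hw, rfl⟩; exact (hL w).1 hw
  · intro hv
    exact ⟨(y⁻¹ : Equiv.Perm W8) v, (hL _).2 (by simpa using hv), by simp⟩

theorem Lset_q {a : G} (h : Mem z a) {v : W8} (hv : v ∈ M.Lset a) : qe M.e v = false := by
  obtain ⟨he, hN⟩ := M.nat_of_mem h
  obtain ⟨y, hy, -, -, -, hL⟩ := M.std h
  rw [he, ← (hN.le hy).q]
  exact N.L0_sing _ ((hL v).1 hv)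

theorem perp_mem {a : G} (h : Mem z a) {u : W8} (hu : ∀ v, M.img a v = v → bb u v = false) :
    u ∈ M.Lset a := by
  obtain ⟨he, hN⟩ := M.nat_of_mem h
  obtain ⟨y, hy, -, -, hC, hL⟩ := M.std h
  refine (hL u).2 (N.L0_perp _ fun v hv => ?_)
  have hvC : v ∈ N.C0 := by
    simp only [List.mem_cons, List.not_mem_nil, or_false] at hv
    rcases hv with rfl | rfl | rfl | rfl | rfl | rfl
    · exact N.fix0_mem.1
    · exact N.L0_sub _ N.two_points.2.1
    · exact N.fix0_mem.2.1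
    · exact N.fix0_mem.2.2.2.1
    · exact N.fix0_mem.2.2.1
    · exact N.fix0_mem.2.2.2.2
  have := hu ((y⁻¹ : Equiv.Perm W8) v) ((hC _).2 (by simpa using hvC))
  rw [← (hN.le hy).bb] at this
  simpa using this

theorem Lset_inter {a b : G} (ha : Mem z a) (hb : Mem z b) {v : W8} (hva : v ∈ M.Lset a)
    (hvb : v ∈ M.Lset b) (hv : v ≠ 0) : M.img a = M.img b := by
  classical
  obtain ⟨he, hN⟩ := M.nat_of_mem ha
  obtain ⟨y, hy, h1a, hadd, hC, hL⟩ := M.std ha
  have hy0 : y v ≠ 0 := fun e => hv (y.injective (e.trans (additive_zero hadd).symm))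
  have hsub : ∀ u ∈ M.Lset a, u ∈ M.Lset b := by
    intro u hu
    rcases (N.L0_facts.2.1 _ ((hL v).1 hva)).resolve_left hy0 _ ((hL u).1 hu) with e | e | e | e
    · rw [y.injective (e.trans (additive_zero hadd).symm)]; exact M.zero_mem_Lset b
    · rw [y.injective e]; exact hvb
    · rw [y.injective (e.trans ((hN.le hy).sig rfl v).symm)]; exact M.Lset_sig hb hvb
    · rw [show u = W8.sig v + v from y.injective (by rw [hadd, (hN.le hy).sig rfl, e])]
      exact M.add_mem_Lset (M.Lset_sig hb hvb) hvb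
  have hfix : {w : W8 | M.img b w = w} = {w : W8 | M.img a w = w} := by
    refine Set.eq_of_subset_of_ncard_le (fun w hw => (hC w).2 (N.L0_facts.1 _ fun l hl => ?_))
      (by rw [M.fix_count ha, M.fix_count hb]) (Set.toFinite _)
    have hl' : (y⁻¹ : Equiv.Perm W8) l ∈ M.Lset a := (hL _).2 (by simpa using hl)
    have := M.Lset_perp hb (hsub _ hl') hw
    rw [← (hN.le hy).bb] at this
    simpa using this
  have hg : (y * M.img b * y⁻¹ : Equiv.Perm W8) ∈ GN :=
    mul_mem (mul_mem (hN.le hy) (hN.le (M.img_mem b))) (inv_mem (hN.le hy))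
  rcases N.fix0_group hg (fun w hw => by
    have hm : (y⁻¹ : Equiv.Perm W8) w ∈ {w : W8 | M.img b w = w} := by
      rw [hfix]; exact (hC _).2 (by simpa using hw)
    rw [Equiv.Perm.mul_apply, Equiv.Perm.mul_apply, hm]
    simp) with e | e
  · exact absurd (by simpa [mul_inv_eq_one] using e) (M.img_ne hb)
  · refine Equiv.ext fun w => y.injective ?_
    rw [h1a, ← e]
    simp

theorem rep_inter {a : G} (h : Mem z a) (hR : ∀ v, M.img a v = N.a0 v) :
    ∃ l ∈ N.L0, l ≠ 0 ∧ l ∈ M.vimg (Xa z a) := by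
  classical
  obtain ⟨he, hN⟩ := M.nat_of_mem h
  by_contra hcon
  push Not at hcon
  have hdis : ∀ v ∈ M.vimg (Xa z a), v ∈ N.L0 → v = 0 := fun v hv hL =>
    by_contra fun hne => hcon v hL hne hv
  set A := M.Abar a
  have hA : A ≤ GN := (M.Abar_le a).trans hN.le
  have hfixC : ∀ v, M.img a v = v ↔ v ∈ N.C0 := fun v => by rw [hR]; exact N.C0_iff v
  have hcomm : ∀ t ∈ A, ∀ v, t (N.a0 v) = N.a0 (t v) := fun t ht v => by
    rw [← hR, ← hR]; exact M.Abar_comm_apply h ht v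
  have hCmap : ∀ t ∈ A, ∀ v ∈ N.C0, t v ∈ N.C0 := fun t ht v hv =>
    (N.C0_iff _).1 (by rw [← hcomm t ht, (N.C0_iff v).2 hv])
  have hLmap : ∀ t ∈ A, ∀ l ∈ N.L0, t l ∈ N.L0 := fun t ht l hl => by
    obtain ⟨v, rfl⟩ := N.L0_iff.2 l hl
    rw [(hA ht).add, hcomm t ht]
    exact N.L0_iff.1 _
  have hLK : ∀ l ∈ N.L0, l ∈ M.Kset a := by
    intro l hl
    obtain ⟨w, hw⟩ := N.L0_iff.2 l hl
    refine ⟨(hfixC l).2 (N.L0_sub l hl), ?_⟩
    rw [← hw, ← hR, M.phi_comm h, hR, hw, he]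
    exact N.L0_sing l hl
  have hLfix : ∀ t ∈ A, ∀ l ∈ N.L0, t l = l := fun t ht l hl =>
    eq_of_add (hdis _ (M.Abar_move h ht (hLK l hl)) (N.split0.L_add _ (hLmap t ht l hl) _ hl))
  have h0L : (0 : W8) ∈ N.L0 := by
    have := N.L0_iff.1 0
    rwa [additive_zero N.a0_add, add_zero] at this
  have hAcard : Nat.card ↥A ≤ 2 * 2 := by
    refine N.split0.card_le (S := [1, M.img a]) (M.Abar_pgroup h.cls) (fun t ht => (hA ht).add) h0L
      hCmap hLmap (fun t ht => N.ind_mem (hA ht) (hCmap t ht) (hLmap t ht)) (by simp) ?_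
    intro t ht hW
    have hCL : ∀ v ∈ N.C0, t v + v ∈ N.L0 := by
      intro v hv
      obtain ⟨h1, h2⟩ := N.split0.prj_mem v hv
      have h4 := hLfix t ht _ h2
      rw [(hA ht).add] at h4
      have e : t v + v = t (prj N.L0 N.W0 v) + prj N.L0 N.W0 v := by
        calc t v + v = (t v + t (prj N.L0 N.W0 v)) + t (prj N.L0 N.W0 v) + v := by
              rw [add_assoc (t v), W8.add_self, add_zero]
          _ = t (prj N.L0 N.W0 v) + prj N.L0 N.W0 v := by
              rw [h4]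
              calc v + prj N.L0 N.W0 v + t (prj N.L0 N.W0 v) + v
                  = (v + v) + (t (prj N.L0 N.W0 v) + prj N.L0 N.W0 v) := by abel
                _ = _ := by rw [W8.add_self, zero_add]
      rw [e]
      exact hW _ h1
    have hK : ∀ v ∈ M.Kset a, t v = v := fun v hv =>
      eq_of_add (hdis _ (M.Abar_move h ht hv) (hCL v ((hfixC v).1 hv.1)))
    have hfix : ∀ v ∈ N.C0, t v = v := by
      intro v hv
      have hs := N.C0_lt.2.2.2.2.2.2.1 v hv
      have hvf := (hfixC v).2 hv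
      have hsf := (hfixC _).2 hs
      have hsig := (hA ht).sig rfl
      cases hp : M.phi a v
      · exact hK v ⟨hvf, hp⟩
      cases hp' : M.phi a (W8.sig v)
      · have := hK _ ⟨hsf, hp'⟩
        rw [hsig] at this
        exact N.sig_inj this
      · have hsum : t (W8.sig (W8.sig v)) = W8.sig (W8.sig v) := by
          rw [W8.sig_sig]
          exact hK _ ⟨by rw [M.img_add, hsf, hvf], by rw [M.phi_add h.comm hsf hvf, hp, hp']; rfl⟩
        rw [hsig, hsig] at hsum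
        exact N.sig_inj (N.sig_inj hsum)
    rcases N.fix0_group (hA ht) hfix with e | e
    · simp [e]
    · have : t = M.img a := Equiv.ext fun v => (e v).trans (hR v).symm
      simp [this]
  have hX : Nat.card ↥(Xa z a) ≤ 4 := by
    rw [M.card_Xa h]
    exact N.split0.ts_le N.ts0 N.L0_facts.2.2 (M.zero_mem_vimg _)
      (fun x hx y hy => M.add_mem_vimg inf_le_left hx hy)
      (fun x hx => (hfixC x).1 (M.vimg_fix h hx)) (fun x hx y hy => M.vimg_bb h hx hy) hdis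
  have hQ := M.nat_card_Qa h
  rw [M.card_Qa_eq a] at hQ
  nlinarith

theorem az_not {a : G} (h : Mem z a) : a * z ∉ cls z := by
  intro haz
  obtain ⟨y, hy, e⟩ := M.img_class h
  obtain ⟨c, hc, -, hm, hi⟩ := M.exists_conj h hy
  have hR : ∀ v, M.img (c * a * c⁻¹) v = N.a0 v := fun v => by rw [hi]; exact e v
  obtain ⟨l, hl, hl0, hlX⟩ := M.rep_inter hm hR
  obtain ⟨w, hw⟩ := N.L0_iff.2 l hl
  refine hl0 (M.vimg_inter hm ?_ hlX (w := w) (by rw [hR]; exact hw.symm))
  have e' : c * a * c⁻¹ * z = c * (a * z) * c⁻¹ := by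
    rw [mul_assoc, hc.inv_left.eq]; group
  rw [e']
  exact conj_mem_cls c haz

theorem phi_false {a : G} (h : Mem z a) {v : W8} (hv : M.img a v = v) : M.phi a v = false := by
  by_contra hp
  exact M.az_not h (M.mul_z_mem_of_phi h hv (by simpa using hp))

theorem commute_J_iff {a y : G} (h : Mem z a) (hy : y ∈ O2c z) :
    Commute a y ↔ M.img a (M.vec y) = M.vec y :=
  ⟨M.fix_of_commute h.comm hy, fun hf => (M.commute_iff_phi h.comm hy hf).2 (M.phi_false h hf)⟩

theorem diff_mem_J {a b : G} (ha : Mem z a) (hb : Mem z b) (hi : M.img b = M.img a) :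
    a * b ∈ O2c z := by
  rw [← M.img_eq_one (ha.comm.mul_left hb.comm), M.img_mul ha.comm hb.comm, hi, M.img_sq ha]

theorem diff_mem_Lset {a b : G} (ha : Mem z a) (hb : Mem z b) (hi : M.img b = M.img a) :
    M.vec (a * b) ∈ M.Lset a := by
  refine M.perp_mem ha fun v hv => ?_
  have h1 : Commute a (M.lift v) := (M.commute_J_iff ha (M.lift_mem v)).2 (by rw [M.vec_lift, hv])
  have h2 : Commute b (M.lift v) := (M.commute_J_iff hb (M.lift_mem v)).2 (by rw [M.vec_lift, hi, hv])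
  have := M.bb_of_commute (M.lift_mem v) (M.diff_mem_J ha hb hi) (h1.mul_left h2)
  rwa [M.vec_lift] at this

/-- Members with one image are conjugate under the core. -/
theorem fibre_conj {a b : G} (ha : Mem z a) (hb : Mem z b) (hi : M.img b = M.img a) :
    ∃ y ∈ O2c z, y * a * y⁻¹ = b := by
  obtain ⟨w, hw⟩ := M.diff_mem_Lset ha hb hi
  exact M.eq_img_conj ha hb (M.az_not ha) hi ⟨w, hw.symm⟩

theorem conj_J_img {a y : G} (ha : Mem z a) (hy : y ∈ O2c z) : M.img (y * a * y⁻¹) = M.img a := by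
  rw [M.img_conj (commute_of_O2c hy) ha.comm, M.img_J hy]
  simp

theorem lift_cent {a : G} (h : Mem z a) {t : Equiv.Perm W8} (ht : t ∈ M.π.range)
    (hc : ∀ v, t (M.img a v) = M.img a (t v)) : ∃ c, Commute c z ∧ Commute c a ∧ M.img c = t :=
  M.lift_commute h (M.az_not h)
    (fun a' h' hi => by obtain ⟨w, hw⟩ := M.diff_mem_Lset h h' hi; exact ⟨w, hw.symm⟩) ht hc

/-- The commutator space lies in the intersection of the cores. -/
theorem Lset_sub {a : G} (h : Mem z a) {v : W8} (hv : v ∈ M.Lset a) : v ∈ M.vimg (Xa z a) := by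
  obtain ⟨he, hN⟩ := M.nat_of_mem h
  obtain ⟨y, hy, e⟩ := M.img_class h
  obtain ⟨c, hc, hcy, hm, hi⟩ := M.exists_conj h hy
  have hR : ∀ v, M.img (c * a * c⁻¹) v = N.a0 v := fun v => by rw [hi]; exact e v
  obtain ⟨l, hl, hl0, hlX⟩ := M.rep_inter hm hR
  have hyv : y v ∈ N.L0 := by
    obtain ⟨w, rfl⟩ := hv
    rw [(hN.le hy).add, show y (M.img a w) = N.a0 (y w) by rw [← e]; simp]
    exact N.L0_iff.1 _
  have hX : y v ∈ M.vimg (Xa z (c * a * c⁻¹)) := by
    rcases N.L0_trans l hl (y v) hyv with e0 | e0 | ⟨w, hw, e0⟩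
    · exact absurd e0 hl0
    · rw [e0]; exact M.zero_mem_vimg _
    · obtain ⟨t, ht, et, htc⟩ := hN.cg0 hw
      obtain ⟨d, h1, h2, rfl⟩ := M.lift_cent hm ht fun v => by rw [hR, hR]; exact htc v
      obtain ⟨x, hx, rfl⟩ := hlX
      exact ⟨d * x * d⁻¹, M.Xa_inv hm.cls h1 h2 hx, by rw [M.vec_conj' h1 hx.1, et, e0]⟩
  obtain ⟨x, hx, hxv⟩ := hX
  refine ⟨c⁻¹ * x * c⁻¹⁻¹, ⟨M.conj_J hc.inv_left hx.1, ?_⟩, ?_⟩
  · refine (mem_O2c_conj c a _).1 ?_
    simpa [mul_assoc] using hx.2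
  · rw [M.vec_conj' hc.inv_left hx.1, hxv, M.img_inv hc, hcy]
    simp

theorem Xa_lift {a y : G} (h : Mem z a) (hy : y ∈ O2c z)
    (hne : M.img a (M.vec y) ≠ M.vec y) : a * y * a⁻¹ * y⁻¹ * z ∈ Xa z a := by
  obtain ⟨x, hx, hxv⟩ := M.Lset_sub h ⟨M.vec y, rfl⟩
  have hx1 : x ≠ 1 := fun e => hne (eq_of_add (by rw [← hxv, e, M.vec_one]))
  rw [← (M.Xa_form h hx hy hxv hx1).1]
  exact hx

/-- The other members over the same transvection lie in one coset of the other core with `z`. -/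
theorem fibre_core {a b : G} (ha : Mem z a) (hb : Mem z b) (hi : M.img b = M.img a) (hne : b ≠ a) :
    a * b * z ∈ Xa z a := by
  obtain ⟨y, hy, rfl⟩ := M.fibre_conj ha hb hi
  rw [M.commutator_shape ha hy, ← mul_assoc a a, M.cls_sq ha.cls, one_mul]
  refine M.Xa_lift ha hy fun e => hne ?_
  rw [← ((M.commute_J_iff ha hy).2 e).eq, mul_inv_cancel_right]

theorem fibre_inj {a b b' : G} (ha : Mem z a) (hb : Mem z b) (hb' : Mem z b')
    (hi : M.img b = M.img a) (hi' : M.img b' = M.img a) (hv : M.vec (a * b) = M.vec (a * b')) :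
    b = b' := by
  obtain ⟨t, ht⟩ := M.eq_zb (M.diff_mem_J ha hb hi) (M.diff_mem_J ha hb' hi') hv
  rw [mul_assoc] at ht
  have ht' := mul_left_cancel ht
  cases t
  · rw [ht', zb_false, mul_one]
  · rw [zb_true] at ht'
    exact absurd (ht' ▸ hb'.cls) (M.az_not hb)

theorem fibre_surj {a : G} (ha : Mem z a) {v : W8} (hv : v ∈ M.Lset a) :
    ∃ b, Mem z b ∧ M.img b = M.img a ∧ M.vec (a * b) = v := by
  obtain ⟨w, rfl⟩ := hv
  obtain ⟨y, hy, rfl⟩ := M.surj w
  refine ⟨y * a * y⁻¹, ha.conj (commute_of_O2c hy), M.conj_J_img ha hy, ?_⟩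
  rw [M.commutator_shape ha hy, ← mul_assoc a a, M.cls_sq ha.cls, one_mul]
  exact (M.commutator_J ha.comm hy).2

/-- the members over the image of `a` -/
def fibre (a : G) : Set G := {b | Mem z b ∧ M.img b = M.img a}

theorem fibre_ncard {a : G} (ha : Mem z a) : (M.fibre a).ncard = 4 := by
  rw [← M.Lset_ncard ha]
  exact Set.ncard_congr (fun b _ => M.vec (a * b))
    (fun b hb => M.diff_mem_Lset ha hb.1 hb.2)
    (fun b b' hb hb' e => M.fibre_inj ha hb.1 hb'.1 hb.2 hb'.2 e)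
    (fun v hv => by
      obtain ⟨b, h1, h2, h3⟩ := M.fibre_surj ha hv
      exact ⟨b, ⟨h1, h2⟩, h3⟩)

theorem fibre_commute {a b : G} (ha : Mem z a) (hb : Mem z b) (hi : M.img b = M.img a) :
    Commute a b := by
  have hJ := M.diff_mem_J ha hb hi
  have h2 : (a * b) * (a * b) = 1 := by
    rw [M.sq hJ, M.Lset_q ha (M.diff_mem_Lset ha hb hi), zb_false]
  calc a * b = (a * b)⁻¹ := eq_inv_of_mul_eq_one_left h2
    _ = b * a := by rw [mul_inv_rev, M.cls_inv ha.cls, M.cls_inv hb.cls]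

/-- Two members commute exactly when their images do. -/
theorem commute_iff {a b : G} (ha : Mem z a) (hb : Mem z b) :
    Commute a b ↔ Commute (M.img a) (M.img b) := by
  constructor
  · intro h
    show M.img a * M.img b = M.img b * M.img a
    rw [← M.img_mul ha.comm hb.comm, ← M.img_mul hb.comm ha.comm, h.eq]
  · intro h
    by_cases hi : M.img b = M.img a
    · exact M.fibre_commute ha hb hi
    obtain ⟨m, hmz, hmb, hm⟩ := M.lift_cent hb (M.img_mem a)
      fun v => congrArg (fun s : Equiv.Perm W8 => s v) h.eq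
    set a' := b * a * b⁻¹ with ha'
    have hma := ha.conj hb.comm
    rw [← ha'] at hma
    have hia : M.img a' = M.img a := by
      rw [ha', M.img_conj hb.comm ha.comm, ← h.eq, mul_inv_cancel_right]
    set j := a⁻¹ * m with hj
    have hjJ : j ∈ O2c z := by
      rw [hj, ← M.img_eq_one (ha.comm.inv_left.mul_left hmz), M.img_mul ha.comm.inv_left hmz,
        M.img_inv ha.comm, hm, inv_mul_cancel]
    have hmj : b * (a * j) * b⁻¹ = a * j := by
      rw [hj, mul_inv_cancel_left, ← hmb.eq, mul_inv_cancel_right]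
    have e : a * a' = (b * j * b⁻¹ * j⁻¹)⁻¹ := by
      rw [ha']
      calc a * (b * a * b⁻¹) = a * (b * (a * j) * b⁻¹) * (b * j⁻¹ * b⁻¹) := by group
        _ = a * a * (j * (b * j⁻¹ * b⁻¹)) := by rw [hmj]; group
        _ = _ := by rw [M.cls_sq ha.cls]; group
    obtain ⟨hcJ, hcv⟩ := M.commutator_J hb.comm hjJ
    have hva : M.vec (a * a') ∈ M.Lset a := M.diff_mem_Lset ha hma hia
    have hvb : M.vec (a * a') ∈ M.Lset b := by
      rw [e, M.vec_inv hcJ]
      exact ⟨M.vec j, hcv.symm⟩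
    have h0 : M.vec (a * a') = 0 := by
      by_contra hne
      exact hi (M.Lset_inter ha hb hva hvb hne).symm
    have : a' = a := (M.fibre_inj ha ha hma rfl hia (by rw [h0, M.cls_sq ha.cls, M.vec_one])).symm
    rw [ha', mul_inv_eq_iff_eq_mul] at this
    exact this.symm

/-- The five elements of a line have product one. -/
theorem quintet {a : G} (ha : Mem z a) : ∃ b1 b2 b3, b1 ∈ M.fibre a ∧ b2 ∈ M.fibre a ∧ b3 ∈ M.fibre a ∧
    b1 ≠ a ∧ b2 ≠ a ∧ b3 ≠ a ∧ a * b1 * b2 * b3 = z := by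
  obtain ⟨he, hN⟩ := M.nat_of_mem ha
  obtain ⟨y, hy, -, hadd, -, hL⟩ := M.std ha
  obtain ⟨m5, m10, n5, n10, n510⟩ := N.two_points
  set l1 := (y⁻¹ : Equiv.Perm W8) (W8.mk 5) with hl1
  set l2 := (y⁻¹ : Equiv.Perm W8) (W8.mk 10) with hl2
  have h0 : y 0 = 0 := additive_zero hadd
  have e1 : y l1 = W8.mk 5 := by simp [hl1]
  have e2 : y l2 = W8.mk 10 := by simp [hl2]
  have hm1 : l1 ∈ M.Lset a := (hL _).2 (by rw [e1]; exact m5)
  have hm2 : l2 ∈ M.Lset a := (hL _).2 (by rw [e2]; exact m10)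
  obtain ⟨b1, p1, q1, r1⟩ := M.fibre_surj ha hm1
  obtain ⟨b2, p2, q2, r2⟩ := M.fibre_surj ha hm2
  obtain ⟨b3, p3, q3, r3⟩ := M.fibre_surj ha (M.add_mem_Lset hm1 hm2)
  have hne : ∀ {b l}, M.vec (a * b) = l → y l ≠ 0 → b ≠ a := by
    intro b l r hl e
    rw [e, M.cls_sq ha.cls, M.vec_one] at r
    exact hl (by rw [← r]; exact h0)
  have n1 : b1 ≠ a := hne r1 (by rw [e1]; exact n5)
  have n2 : b2 ≠ a := hne r2 (by rw [e2]; exact n10)
  have n3 : b3 ≠ a := hne r3 (by rw [hadd, e1, e2]; exact fun e => n510 (eq_of_add e))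
  refine ⟨b1, b2, b3, ⟨p1, q1⟩, ⟨p2, q2⟩, ⟨p3, q3⟩, n1, n2, n3, ?_⟩
  have x1 := M.fibre_core ha p1 q1 n1
  have x2 := M.fibre_core ha p2 q2 n2
  have x3 := M.fibre_core ha p3 q3 n3
  set x := a * b1 * z * (a * b2 * z) * (a * b3 * z) with hx
  have hxX : x ∈ Xa z a := mul_mem (mul_mem x1 x2) x3
  have hxv : M.vec x = 0 := by
    have hd : ∀ {b}, Mem z b → M.img b = M.img a → M.vec (a * b * z) = M.vec (a * b) := fun hb hi => by
      rw [M.vec_mul (M.diff_mem_J ha hb hi) M.z_mem, M.vec_z, add_zero]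
    rw [hx, M.vec_mul (mul_mem x1.1 x2.1) x3.1, M.vec_mul x1.1 x2.1, hd p1 q1, hd p2 q2, hd p3 q3,
      r1, r2, r3, W8.add_self]
  have hx1 : x = 1 := (M.vec_cases hxX.1 hxv).resolve_right fun e => M.Xa_z ha (e ▸ hxX)
  have hcomm : a * b2 = b2 * a := (M.fibre_commute ha p2 q2).eq
  have hc2 : z * (a * b2) = a * b2 * z := (ha.comm.symm.mul_right p2.comm.symm).eq
  have e : x = a * b1 * (a * b2) * (a * b3) * z := by
    calc x = a * b1 * (z * (a * b2)) * z * (a * b3) * z := by rw [hx]; group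
      _ = a * b1 * (a * b2) * (z * z) * (a * b3) * z := by rw [hc2]; group
      _ = _ := by rw [M.zz, mul_one]
  rw [hx1] at e
  calc a * b1 * b2 * b3
      = a * b1 * b2 * (a * a) * b3 := by rw [M.cls_sq ha.cls, mul_one]
    _ = a * b1 * (a * b2) * (a * b3) := by rw [hcomm]; group
    _ = z⁻¹ := eq_inv_of_mul_eq_one_left e.symm
    _ = z := M.ctr.inv_self

end Coord

end Cfsg.Agent.ThreeTransp.U62Cent
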