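import Cfsg.Agent.Lib.ThreeTransp.U62Cent.SplitOut

/-!
# The natural module: conjugates of `z` in the centraliser act as transvections
-/

set_option autoImplicit false
set_option linter.unusedSectionVars false

namespace Cfsg.Agent.ThreeTransp.U62Cent

open W8 Subgroup Cfsg.Agent.LargeExtra

universe u

variable {G : Type u} [Group G]

namespace Coord

variable [Finite G] {z : G} (M : Coord z)

include M

theorem nat_of_mem {a : G} (h : Mem z a) : M.e = true ∧ INat M.π.range :=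
  M.shape_cases.resolve_right fun hS => M.split_absurd hS h

theorem nat_card_Qa {a : G} (h : Mem z a) : 32 ≤ Nat.card ↥(Qa z a) := by
  obtain ⟨g, b, hg, hb, hm⟩ := M.flip' h
  obtain ⟨he, hN⟩ := M.nat_of_mem h
  rw [M.card_Qa hg hb, M.card_Ja_eq hm.comm]
  obtain ⟨y, hy, hcl⟩ := hN.classes (M.img_mem b) (M.img_sq hm) (M.img_ne hm)
  rcases hcl with e | e
  · have := M.fix_le_two_Kset hm.comm
    rw [ncard_fix_conj e, N.ncard_fix0] at this
    omega
  · have hsub : {v : W8 | M.img b v = v} ⊆ M.Kset b := by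
      intro v hv
      refine ⟨hv, ?_⟩
      have hyv : N.a1 (y v) = y v := by
        rw [← e]
        simp only [Equiv.Perm.mul_apply, Equiv.Perm.inv_def, Equiv.symm_apply_apply]
        rw [hv]
      obtain ⟨hq, w, hw⟩ := N.L1_iff.2.2 _ ((N.L1_iff.1 _).1 hyv)
      have hv' : v = M.img b ((y⁻¹ : Equiv.Perm W8) w) + (y⁻¹ : Equiv.Perm W8) w := by
        have hadd := hN.add hy
        apply y.injective
        rw [hadd, ← hw, ← e]
        simp
      rw [hv', M.phi_comm hm, ← hv', he, ← (hN.le hy).q, hq]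
    have := Set.ncard_le_ncard hsub (Set.toFinite _)
    rw [ncard_fix_conj e, N.ncard_fix1] at this
    omega

/-- Conjugates in one coset of the core, differing by a commutator, are conjugate under it. -/
theorem eq_img_conj {a a' : G} (h : Mem z a) (h' : Mem z a') (haz : a * z ∉ cls z)
    (himg : M.img a' = M.img a) (hw : ∃ w, M.vec (a * a') = M.img a w + w) :
    ∃ y ∈ O2c z, y * a * y⁻¹ = a' := by
  obtain ⟨w, hw⟩ := hw
  have hJ : a * a' ∈ O2c z := by
    rw [← M.img_eq_one (h.comm.mul_left h'.comm), M.img_mul h.comm h'.comm, himg, M.img_sq h]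
  obtain ⟨y, hy, rfl⟩ := M.surj w
  obtain ⟨hs, hv⟩ := M.commutator_J h.comm hy
  obtain ⟨t, ht⟩ := M.eq_zb hs hJ (by rw [hv, hw])
  have e : a' = y * a * y⁻¹ * zb z t := by
    rw [M.commutator_shape h hy, mul_assoc a, ← ht, ← mul_assoc, M.cls_sq h.cls, one_mul]
  cases t
  · exact ⟨y, hy, by rw [e, zb_false, mul_one]⟩
  · refine absurd ?_ haz
    have e2 : y⁻¹ * a' * y⁻¹⁻¹ = a * z := by
      rw [e, zb_true, inv_inv]
      calc y⁻¹ * (y * a * y⁻¹ * z) * y = a * y⁻¹ * (z * y) := by group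
        _ = a * z := by rw [← (commute_of_O2c hy).eq]; group
    rw [← e2]
    exact conj_mem_cls _ h'.cls

theorem lift_commute {a : G} (h : Mem z a) (haz : a * z ∉ cls z)
    (himg : ∀ a', Mem z a' → M.img a' = M.img a → ∃ w, M.vec (a * a') = M.img a w + w)
    {t : Equiv.Perm W8} (ht : t ∈ M.π.range) (hc : ∀ v, t (M.img a v) = M.img a (t v)) :
    ∃ c, Commute c z ∧ Commute c a ∧ M.img c = t := by
  obtain ⟨c, hcz, rfl⟩ := M.exists_img ht
  have hm := h.conj hcz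
  have hi : M.img (c * a * c⁻¹) = M.img a := by
    rw [M.img_conj hcz h.comm, mul_inv_eq_iff_eq_mul]
    exact Equiv.ext fun v => hc v
  obtain ⟨y, hy, e⟩ := M.eq_img_conj h hm haz hi (himg _ hm hi)
  refine ⟨y⁻¹ * c, (commute_of_O2c hy).inv_left.mul_left hcz, ?_, ?_⟩
  · have e2 : y⁻¹ * c * a * (y⁻¹ * c)⁻¹ = a := by
      calc y⁻¹ * c * a * (y⁻¹ * c)⁻¹ = y⁻¹ * (c * a * c⁻¹) * y := by group
        _ = a := by rw [← e]; group
    exact mul_inv_eq_iff_eq_mul.1 e2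
  · rw [M.img_mul (commute_of_O2c hy).inv_left hcz, M.img_J (inv_mem hy), one_mul]

theorem vimg_invariant {a : G} (h : Mem z a) (haz : a * z ∉ cls z)
    (himg : ∀ a', Mem z a' → M.img a' = M.img a → ∃ w, M.vec (a * a') = M.img a w + w)
    {t : Equiv.Perm W8} (ht : t ∈ M.π.range) (hc : ∀ v, t (M.img a v) = M.img a (t v)) {v : W8}
    (hv : v ∈ M.vimg (Xa z a)) : t v ∈ M.vimg (Xa z a) := by
  obtain ⟨c, h1, h2, rfl⟩ := M.lift_commute h haz himg ht hc
  obtain ⟨x, hx, rfl⟩ := hv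
  exact ⟨c * x * c⁻¹, M.Xa_inv h.cls h1 h2 hx, M.vec_conj' h1 hx.1⟩

/-- No conjugate of `z` acts as the second class. -/
theorem twoB_rep {a : G} (h : Mem z a) (hR : ∀ v, M.img a v = N.a1 v) : False := by
  classical
  obtain ⟨he, hN⟩ := M.nat_of_mem h
  have hfix : ∀ v, M.img a v = v ↔ v ∈ N.L1 := fun v => by rw [hR]; exact N.L1_iff.1 v
  have himage : ∀ v ∈ N.L1, ∃ w, v = M.img a w + w := fun v hv => by
    obtain ⟨-, w, hw⟩ := N.L1_iff.2.2 v hv
    exact ⟨w, by rw [hR, hw]⟩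
  have hK : ∀ v ∈ N.L1, v ∈ M.Kset a := fun v hv => by
    refine ⟨(hfix v).2 hv, ?_⟩
    obtain ⟨w, hw⟩ := himage v hv
    rw [hw, M.phi_comm h, ← hw, he]
    exact (N.L1_iff.2.2 v hv).1
  have hXne : ∃ l ∈ M.vimg (Xa z a), l ≠ 0 := by
    by_contra hcon
    push Not at hcon
    have hA : Nat.card ↥(M.Abar a) ≤ 16 := N.fix1_group ((M.Abar_le a).trans hN.le) fun t ht v hv =>
      eq_of_add (hcon _ (M.Abar_move h ht (hK v hv)))
    have hX : Nat.card ↥(Xa z a) ≤ 1 := by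
      rw [M.card_Xa h]
      calc (M.vimg (Xa z a)).ncard ≤ ({0} : Set W8).ncard :=
            Set.ncard_le_ncard (fun v hv => hcon v hv) (Set.toFinite _)
        _ = 1 := Set.ncard_singleton _
    have hQ := M.nat_card_Qa h
    rw [M.card_Qa_eq a] at hQ
    nlinarith
  obtain ⟨l, hl, hl0⟩ := hXne
  have hlL : l ∈ N.L1 := (hfix l).1 (M.vimg_fix h hl)
  have haz : a * z ∉ cls z := fun haz => by
    obtain ⟨w, hw⟩ := himage l hlL
    exact hl0 (M.vimg_inter h haz hl hw)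
  have himg : ∀ a', Mem z a' → M.img a' = M.img a → ∃ w, M.vec (a * a') = M.img a w + w := by
    intro a' h' hi
    have hJ : a * a' ∈ O2c z := by
      rw [← M.img_eq_one (h.comm.mul_left h'.comm), M.img_mul h.comm h'.comm, hi, M.img_sq h]
    refine himage _ ((hfix _).1 ?_)
    rw [← M.vec_conj' h.comm hJ, show a * (a * a') * a⁻¹ = a * a * (a' * a⁻¹) by group,
      M.cls_sq h.cls, one_mul, ← M.vec_inv hJ]
    congr 1
    rw [mul_inv_rev, M.cls_inv h'.cls]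
  obtain ⟨w, hw, hne, hcoc⟩ := (N.cocycle l hlL).resolve_left hl0
  obtain ⟨t, ht, et, htc⟩ := hN.cg1 hw
  have hl2 : wT w l ∈ M.vimg (Xa z a) := et ▸ M.vimg_invariant h haz himg ht
    (fun v => by rw [hR, hR]; exact htc v) hl
  have hl20 : wT w l ≠ 0 := fun e => hl0 ((hN.le ht).injective (by rw [et, e, ← et, (hN.le ht).map_zero]))
  obtain ⟨x1, hx1, hv1⟩ := hl
  obtain ⟨x2, hx2, hv2⟩ := hl2
  obtain ⟨w1, hw1⟩ := himage l hlL
  obtain ⟨w2, hw2⟩ := himage (wT w l) ((hfix _).1 (M.vimg_fix h ⟨x2, hx2, hv2⟩))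
  obtain ⟨y1, hy1, rfl⟩ := M.surj w1
  obtain ⟨y2, hy2, rfl⟩ := M.surj w2
  have hne1 : x1 ≠ 1 := fun e => hl0 (by rw [← hv1, e, M.vec_one])
  have hne2 : x2 ≠ 1 := fun e => hl20 (by rw [← hv2, e, M.vec_one])
  have e1 := (M.Xa_form h hx1 hy1 (hv1.trans hw1) hne1).1
  have e2 := (M.Xa_form h hx2 hy2 (hv2.trans hw2) hne2).1
  have e3 := (M.Xa_form h (mul_mem hx1 hx2) (mul_mem hy1 hy2) (by
    rw [M.vec_mul hx1.1 hx2.1, M.vec_mul hy1 hy2, M.img_add, hv1.trans hw1, hv2.trans hw2]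
    exact add_add_add_comm _ _ _ _) (fun e => hne (by
      have := congrArg M.vec e
      rw [M.vec_mul hx1.1 hx2.1, hv1, hv2, M.vec_one] at this
      exact (eq_of_add this).symm))).1
  have hb : bb (M.vec y1) (wT w l) = false := hcoc _ (by rw [← hR]; exact hw1.symm)
  set s2 := a * y2 * a⁻¹ * y2⁻¹ with hs2
  obtain ⟨hs2J, hs2v⟩ := M.commutator_J h.comm hy2
  rw [← hs2] at hs2J hs2v
  have hc : y1 * s2 * y1⁻¹ = s2 := by
    rw [M.conj_J_eq hy1 hs2J, hs2v, ← hw2, hb, zb_false, mul_one]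
  have h4 : a * (y1 * y2) * a⁻¹ * (y1 * y2)⁻¹ = a * y1 * a⁻¹ * y1⁻¹ * s2 := by
    calc a * (y1 * y2) * a⁻¹ * (y1 * y2)⁻¹ = a * y1 * a⁻¹ * s2 * y1⁻¹ := by rw [hs2]; group
      _ = a * y1 * a⁻¹ * y1⁻¹ * (y1 * s2 * y1⁻¹) := by group
      _ = _ := by rw [hc]
  rw [h4, e1, e2] at e3
  refine M.ne_one ?_
  have h5 : a * y1 * a⁻¹ * y1⁻¹ * (z * (s2 * z)) = a * y1 * a⁻¹ * y1⁻¹ * (s2 * z) := by
    simpa [mul_assoc] using e3
  exact mul_eq_right.1 (mul_left_cancel h5)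

/-- Every conjugate of `z` in the centraliser acts as a transvection. -/
theorem img_class {a : G} (h : Mem z a) :
    ∃ y ∈ M.π.range, ∀ v, (y * M.img a * y⁻¹ : Equiv.Perm W8) v = N.a0 v := by
  obtain ⟨he, hN⟩ := M.nat_of_mem h
  obtain ⟨y, hy, e | e⟩ := hN.classes (M.img_mem a) (M.img_sq h) (M.img_ne h)
  · exact ⟨y, hy, e⟩
  · obtain ⟨c, -, -, hm, hi⟩ := M.exists_conj h hy
    exact (M.twoB_rep hm fun v => by rw [hi]; exact e v).elim

end Coord

end Cfsg.Agent.ThreeTransp.U62Cent
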