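import Cfsg.Agent.Lib.ThreeTransp.U62Cent.Natural
import Cfsg.Agent.Lib.ThreeTransp.U62Cent.SplitImg
import Cfsg.Agent.Lib.ThreeTransp.U62Cent.Data

/-!
# Words, and subgroups given by lists of matrices
-/

set_option autoImplicit false
set_option maxRecDepth 100000

namespace Cfsg.Agent.ThreeTransp.U62Cent

open W8

/-- a word in transvections -/
def wT : List ℕ → W8 → W8
  | [], v => v
  | p :: l, v => tv (mk p) (wT l v)

/-- a word in reflections -/
def wF : List ℕ → W8 → W8
  | [], v => v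
  | p :: l, v => rfx (mk p) (wF l v)

/-- the word is a word in transvections -/
def okT (l : List ℕ) : Bool := l.all fun p => pts.contains (mk p)

/-- the word is a word in an even number of reflections -/
def okF (l : List ℕ) : Bool := (l.all fun p => nons.contains (mk p)) && l.length % 2 == 0

/-- the matrix of a map -/
def cols (f : W8 → W8) : List W8 := basis.map f

theorem exists_wT {I : Subgroup (Equiv.Perm W8)} (hI : ∀ p (hp : p ∈ pts), tvP p hp ∈ I) :
    ∀ {l : List ℕ}, okT l = true → ∃ g ∈ I, ⇑g = wT l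
  | [], _ => ⟨1, one_mem _, rfl⟩
  | p :: l, h => by
    simp only [okT, List.all_cons, Bool.and_eq_true] at h
    obtain ⟨g, hg, e⟩ := exists_wT hI (l := l) h.2
    have hp : mk p ∈ pts := List.contains_iff_mem.1 h.1
    refine ⟨tvP (mk p) hp * g, mul_mem (hI _ hp) hg, ?_⟩
    funext v
    show tv (mk p) (g v) = tv (mk p) (wT l v)
    rw [e]

theorem exists_wF {I : Subgroup (Equiv.Perm W8)}
    (hI : ∀ r s, r ∈ nons → s ∈ nons → rfP r * rfP s ∈ I) :
    ∀ {l : List ℕ}, okF l = true → ∃ g ∈ I, ⇑g = wF l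
  | [], _ => ⟨1, one_mem _, rfl⟩
  | [p], h => by simp [okF] at h
  | p :: q :: l, h => by
    simp only [okF, List.all_cons, Bool.and_eq_true, List.length_cons, beq_iff_eq] at h
    obtain ⟨g, hg, e⟩ := exists_wF hI (l := l) (by
      simp only [okF, Bool.and_eq_true, beq_iff_eq]
      exact ⟨h.1.2.2, by omega⟩)
    refine ⟨rfP (mk p) * rfP (mk q) * g,
      mul_mem (hI _ _ (List.contains_iff_mem.1 h.1.1) (List.contains_iff_mem.1 h.1.2.1)) hg, ?_⟩
    funext v
    show rfx (mk p) (rfx (mk q) (g v)) = rfx (mk p) (rfx (mk q) (wF l v))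
    rw [e]

/-- the additive permutations -/
def addPerm : Subgroup (Equiv.Perm W8) where
  carrier := {g | ∀ v w, g (v + w) = g v + g w}
  one_mem' := fun _ _ => rfl
  mul_mem' := by intro g h hg hh v w; simp [hh v w, hg (h v) (h w)]
  inv_mem' := by intro g hg v w; refine g.injective ?_; rw [hg]; simp

theorem perm_ext {g h : Equiv.Perm W8} (hg : g ∈ addPerm) (hh : h ∈ addPerm)
    (e : cols g = cols h) : g = h :=
  Equiv.ext fun v => W8.basis_add v hg hh (List.map_inj_left.1 e)

theorem cols_mul {g h : Equiv.Perm W8} (hg : g ∈ addPerm) :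
    cols (g * h : Equiv.Perm W8) = mulM (cols g) (cols h) := by
  simp only [cols, mulM, List.map_map]
  refine List.map_congr_left fun v _ => ?_
  show g (h v) = app (basis.map g) (h v)
  rw [app_map_basis hg]

/-- A list of matrices closed under composition, realised inside `I`, is a subgroup of `I`. -/
theorem exists_subgroup_of_list {I : Subgroup (Equiv.Perm W8)} (hI : I ≤ addPerm) (P : List (List W8))
    (hn : P.Nodup) (h1 : cols id ∈ P) (hmul : ∀ A ∈ P, ∀ B ∈ P, mulM A B ∈ P)
    (hreal : ∀ A ∈ P, ∃ g ∈ I, cols g = A) :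
    ∃ S : Subgroup (Equiv.Perm W8), S ≤ I ∧ Nat.card S = P.length ∧ ∀ g ∈ S, cols g ∈ P := by
  classical
  let M : Submonoid (Equiv.Perm W8) :=
    { carrier := {g | g ∈ I ∧ cols g ∈ P}
      one_mem' := ⟨one_mem _, h1⟩
      mul_mem' := fun {g h} hg hh => ⟨mul_mem hg.1 hh.1, by
        rw [cols_mul (hI hg.1)]; exact hmul _ hg.2 _ hh.2⟩ }
  let S : Subgroup (Equiv.Perm W8) :=
    { M with
      inv_mem' := fun {g} hg => by
        have h : g⁻¹ = g ^ (orderOf g - 1) := by
          refine inv_eq_of_mul_eq_one_left ?_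
          rw [← pow_succ, Nat.sub_add_cancel (orderOf_pos g), pow_orderOf_eq_one]
        rw [h]
        exact M.pow_mem hg _ }
  refine ⟨S, fun g hg => hg.1, ?_, fun g hg => hg.2⟩
  rw [← List.toFinset_card_of_nodup hn, ← Fintype.card_coe, ← Nat.card_eq_fintype_card]
  refine Nat.card_congr (Equiv.ofBijective
    (fun g : S => (⟨cols (g : Equiv.Perm W8), List.mem_toFinset.2 g.2.2⟩ : P.toFinset)) ⟨?_, ?_⟩)
  · exact fun g h e => Subtype.ext (perm_ext (hI g.2.1) (hI h.2.1) (congrArg Subtype.val e))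
  · rintro ⟨A, hA⟩
    obtain ⟨g, hg, e⟩ := hreal A (List.mem_toFinset.1 hA)
    exact ⟨⟨g, hg, by rw [e]; exact List.mem_toFinset.1 hA⟩, Subtype.ext e⟩

/-- Classes of involutions from a Sylow 2-subgroup given by matrices. -/
theorem involution_class {I : Subgroup (Equiv.Perm W8)} (hI : I ≤ addPerm) (hc : Nat.card I = 25920)
    (P : List (List W8)) (hn : P.Nodup) (hl : P.length = 64) (h1 : cols id ∈ P)
    (hmul : ∀ A ∈ P, ∀ B ∈ P, mulM A B ∈ P) (hreal : ∀ A ∈ P, ∃ g ∈ I, cols g = A)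
    (a0 a1 : List W8) (ha0 : cols (app a0) = a0) (ha1 : cols (app a1) = a1)
    (hcl : ∀ A ∈ P, A ≠ cols id → mulM A A = cols id →
      ∃ w ∈ I, mulM (cols w) A = mulM a0 (cols w) ∨ mulM (cols w) A = mulM a1 (cols w))
    {x : Equiv.Perm W8} (hx : x ∈ I) (hx2 : x * x = 1) (hne : x ≠ 1) :
    ∃ y ∈ I, cols (y * x * y⁻¹ : Equiv.Perm W8) = a0 ∨ cols (y * x * y⁻¹ : Equiv.Perm W8) = a1 := by
  classical
  haveI : Fact (Nat.Prime 2) := ⟨Nat.prime_two⟩
  obtain ⟨S, hSI, hS, hSP⟩ := exists_subgroup_of_list hI P hn h1 hmul hreal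
  rw [hl] at hS
  set S' : Subgroup I := S.subgroupOf I
  have hS' : Nat.card S' = 64 :=
    (Nat.card_congr (Subgroup.subgroupOfEquivOfLe hSI).toEquiv).trans hS
  have hp : IsPGroup 2 S' := IsPGroup.of_card (n := 6) (by rw [hS']; norm_num)
  have hidx : ¬ 2 ∣ S'.index := by
    have h := S'.card_mul_index
    rw [hS', hc] at h
    omega
  let T : Sylow 2 I := hp.toSylow hidx
  have hxp : IsPGroup 2 (Subgroup.zpowers (⟨x, hx⟩ : I)) := by
    refine IsPGroup.of_card (n := 1) ?_
    rw [Nat.card_zpowers, pow_one]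
    exact orderOf_eq_prime (by rw [pow_two]; exact Subtype.ext hx2) fun e => hne (congrArg Subtype.val e)
  obtain ⟨T', hT'⟩ := hxp.exists_le_sylow
  obtain ⟨g, hg⟩ := MulAction.exists_smul_eq I T' T
  have hxT : g * ⟨x, hx⟩ * g⁻¹ ∈ S' := by
    have hm : g * ⟨x, hx⟩ * g⁻¹ ∈ ((g • T' : Sylow 2 I) : Subgroup I) := by
      rw [Sylow.coe_subgroup_smul]
      exact ⟨⟨x, hx⟩, hT' (Subgroup.mem_zpowers _), rfl⟩
    rw [hg] at hm
    exact hm
  set s : Equiv.Perm W8 := (g : Equiv.Perm W8) * x * (g : Equiv.Perm W8)⁻¹ with hs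
  have hsS : s ∈ S := Subgroup.mem_subgroupOf.1 hxT
  have hsI := hSI hsS
  have hs2 : s * s = 1 := by
    rw [hs, show (g : Equiv.Perm W8) * x * (g : Equiv.Perm W8)⁻¹ *
      ((g : Equiv.Perm W8) * x * (g : Equiv.Perm W8)⁻¹) =
      (g : Equiv.Perm W8) * (x * x) * (g : Equiv.Perm W8)⁻¹ by group, hx2]
    group
  have hs1 : cols s ≠ cols id := fun e => by
    have h : s = 1 := perm_ext (hI hsI) (one_mem _) e
    rw [hs, mul_inv_eq_one, mul_eq_left] at h
    exact hne h
  obtain ⟨w, hw, hw'⟩ := hcl _ (hSP s hsS) hs1 (by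
    rw [← cols_mul (hI hsI), hs2]; rfl)
  refine ⟨w * g, mul_mem hw g.2, ?_⟩
  have key : ∀ a : List W8, mulM (cols w) (cols s) = mulM a (cols w) →
      cols ((w * g : Equiv.Perm W8) * x * (w * g : Equiv.Perm W8)⁻¹ : Equiv.Perm W8) = basis.map (app a) := by
    intro a e
    have h2 : ∀ v, w (s v) = app a (w v) := by
      intro v
      refine W8.basis_add v (f := fun v => w (s v)) (g := fun v => app a (w v)) ?_ ?_ ?_
      · intro u v; simp only [hI hsI u v]; exact hI hw _ _
      · intro u v; simp only [hI hw u v, app_add]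
      · intro u hu
        rw [← cols_mul (hI hw)] at e
        simp only [cols, mulM, List.map_map] at e
        exact List.map_inj_left.1 e u hu
    refine List.map_congr_left fun v _ => ?_
    have h3 := h2 (w⁻¹ v)
    simp only [hs, Equiv.Perm.mul_apply, mul_inv_rev, Equiv.Perm.inv_def, Equiv.apply_symm_apply] at h3 ⊢
    exact h3
  rcases hw' with e | e
  · left
    rw [key a0 e]
    exact ha0
  · right
    rw [key a1 e]
    exact ha1

end Cfsg.Agent.ThreeTransp.U62Cent
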